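import Groth.Agent.L02.FibDepth.Model
import Groth.Agent.L01.DepthBasic
import Groth.Agent.L22.FibreDim
import Groth.Prelude.Def_FDesc
import Groth.Prelude.Def_CInt
import Mathlib.RingTheory.Ideal.AssociatedPrime.Finiteness

/-! Translation between fibres and points of the source. -/

set_option autoImplicit false
set_option linter.style.haveILetI false
set_option maxSynthPendingDepth 3
universe u

open CategoryTheory AlgebraicGeometry IsLocalRing TensorProduct Topology
open Groth.L15.FibrePdSemi (D)

namespace L02.FibDepth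

theorem isAssociatedPrime_maximalIdeal_iff (R : Type u) [CommRing R] [IsLocalRing R] [IsNoetherianRing R]
    (M : Type u) [AddCommGroup M] [Module R M] [Module.Finite R M] :
    IsAssociatedPrime (maximalIdeal R) M ↔ Nontrivial M ∧ LocCoh.depth R M = 0 := by
  classical
  constructor
  · intro h
    have hne : Nontrivial M := by
      by_contra hn
      haveI := not_nontrivial_iff_subsingleton.1 hn
      have hmem : maximalIdeal R ∈ associatedPrimes R M := h
      rw [associatedPrimes.eq_empty_of_subsingleton] at hmem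
      exact hmem
    refine ⟨hne, ?_⟩
    have h1 := Groth.L04.depth_le_ringKrullDim_quotient (R := R) (M := M) h
    rw [ringKrullDim_eq_zero_of_isField
      ((Ideal.Quotient.maximal_ideal_iff_isField_quotient _).1 (maximalIdeal.isMaximal R))] at h1
    exact le_antisymm (by exact_mod_cast h1) zero_le
  · rintro ⟨hne, h⟩
    have hsub : (maximalIdeal R : Set R) ⊆ ⋃ p ∈ associatedPrimes R M, (p : Set R) := by
      intro x hx
      rw [biUnion_associatedPrimes_eq_zero_divisors]
      by_contra hn
      have hreg : IsSMulRegular M x := isSMulRegular_iff_right_eq_zero_of_smul.mpr fun m hm => by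
        by_contra hm0
        exact hn ⟨m, hm0, hm⟩
      have := Groth.L01.one_le_depth hx hreg
      rw [h] at this
      exact absurd this (by simp)
    obtain ⟨p, hp, hle⟩ : ∃ p ∈ (associatedPrimes.finite R M).toFinset, maximalIdeal R ≤ p := by
      refine (Ideal.subset_union_prime (f := id) ⊥ ⊥ fun p hp _ _ => ?_).1 ?_
      · exact IsAssociatedPrime.isPrime ((associatedPrimes.finite R M).mem_toFinset.1 hp)
      · simpa using hsub
    have hp' := (associatedPrimes.finite R M).mem_toFinset.1 hp
    have e := ((maximalIdeal.isMaximal R).eq_of_le (IsAssociatedPrime.isPrime hp').ne_top hle).symm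
    exact e ▸ hp'

variable {X Y : Scheme.{u}} {f : X ⟶ Y}

theorem forall_fiber_iff {P : ∀ s, ↥(f.fiber s) → Prop} (y : Y) :
    (∀ w, P y w) ↔ ∀ x, f x = y → P (f x) (f.asFiber x) := by
  constructor
  · rintro h x rfl
    exact h _
  · intro h w
    have key : ∀ (x : X) (s : Y) (_ : f x = s) (w : ↥(f.fiber s)), f.fiberι s w = x →
        P (f x) (f.asFiber x) → P s w := by
      rintro x s rfl w hw h
      rwa [(f.fiberι (f x)).isEmbedding.injective (hw.trans (f.fiberι_asFiber x).symm)]
    have hf : f (f.fiberι y w) = y := (f.range_fiberι y).subset ⟨w, rfl⟩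
    exact key _ y hf w rfl (h _ hf)

theorem exists_fiber_iff {P : ∀ s, ↥(f.fiber s) → Prop} (y : Y) :
    (∃ w, P y w) ↔ ∃ x, f x = y ∧ P (f x) (f.asFiber x) := by
  have := forall_fiber_iff (f := f) (P := fun s w => ¬ P s w) y
  constructor
  · intro h
    by_contra hne
    obtain ⟨w, hw⟩ := h
    exact this.2 (fun x hx hp => hne ⟨x, hx, hp⟩) w hw
  · rintro ⟨x, rfl, hp⟩
    exact ⟨_, hp⟩

theorem asFiber_specializes_iff (x : X) (w : ↥(f.fiber (f x))) :
    w ⤳ f.asFiber x ↔ f.fiberι _ w ⤳ x := by
  exact ((congrArg (f.fiberι (f x) w ⤳ ·) (f.fiberι_asFiber x)).to_iff.symm.trans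
    (f.fiberι (f x)).isEmbedding.isInducing.specializes_iff).symm

theorem eq_iff_fiberι {s : Y} (w w' : ↥(f.fiber s)) : w = w' ↔ f.fiberι s w = f.fiberι s w' :=
  ⟨congrArg _, fun h => (f.fiberι s).isEmbedding.injective h⟩

variable [LocallyOfFiniteType f] {R : X → Type u} [∀ x, CommRing (R x)] [∀ x, IsLocalRing (R x)]
  {M : X → Type u} [∀ x, AddCommGroup (M x)] [∀ x, Module (R x) (M x)]

theorem isNoetherianRing_D {A : Type u} [CommRing A] {d : ℕ} (q : PrimeSpectrum (P A d)) :
    IsNoetherianRing (D (A := A) q.asIdeal) := by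
  haveI : IsNoetherianRing (Fib A d (q.asIdeal.under A)) :=
    isNoetherianRing_of_ringEquiv _ (fibEquiv (q.asIdeal.under A)).symm
  exact IsLocalization.isNoetherianRing (Groth.L15.FibrePdSemi.q' (A := A) q.asIdeal).primeCompl _ inferInstance

theorem isAssPoint_iff_model (hc : HasCharts₀ f R M) (x : X) :
    IsAssociatedPrime (maximalIdeal (R x)) (M x) ↔ x ∈ (preData hc).Ass := by
  obtain ⟨c⟩ := hc x
  obtain ⟨E⟩ := c.semi ⟨x, c.mem⟩
  haveI := isNoetherianRing_D (c.j ⟨x, c.mem⟩)
  haveI : IsNoetherianRing (R x) := isNoetherianRing_of_surjective _ _ E.φ E.surj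
  haveI := E.finite
  rw [isAssociatedPrime_maximalIdeal_iff]
  refine and_congr_right fun hx => ?_
  rw [(c.values ⟨x, c.mem⟩ hx).2.2.2.1]
  exact Nat.cast_eq_zero

theorem dim_closure_asFiber_eq (hc : HasCharts₀ f R M) (x : X) :
    topologicalKrullDim ↥(closure ({f.asFiber x} : Set ↥(f.fiber (f.base x)))) = (dl f x : WithBot ℕ∞) := by
  obtain ⟨c⟩ := hc x
  obtain ⟨δ, hδ, -⟩ := delta_nat (A := c.A) (d := c.d) (c.j ⟨x, c.mem⟩)
  rw [c.dl_eq] at hδ
  have hnat : topologicalKrullDim ↥(closure ({f.asFiber x} : Set ↥(f.fiber (f.base x)))) = delta c.A c.d (c.j ⟨x, c.mem⟩) :=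
    c.dim_closure_eq_delta ⟨x, c.mem⟩
  rw [hnat, c.dl_eq]

end L02.FibDepth
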