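import Groth.Agent.L02.FibDepth.Model
import Groth.Agent.L18.FiberStalk
import Groth.Agent.L20.ModPullback
import Groth.Agent.L20.ModStalk
import Groth.Agent.L20.ModFlat
import Groth.Agent.L02.Cons.Fibrewise

/-! Charts for the fibre stalks of a flat module of finite presentation. -/

set_option autoImplicit false
set_option linter.style.haveILetI false
set_option maxSynthPendingDepth 3
universe u

open CategoryTheory AlgebraicGeometry IsLocalRing TensorProduct Topology
open Groth.L15.FibrePdSemi (D)

namespace L02.FibDepth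

/-- Base change along a surjection identifies the tensor products. -/
theorem nonempty_semi_of_surjective {P B D R : Type u} [CommRing P] [CommRing B] [CommRing D] [CommRing R]
    [Algebra P B] [Algebra P D] [Algebra B R] [Algebra P R] [IsScalarTower P B R]
    (N : Type u) [AddCommGroup N] [Module B N] [Module P N] [IsScalarTower P B N]
    (M : Type u) [AddCommGroup M] [Module R M] [Module B M] [IsScalarTower B R M]
    (hPB : Function.Surjective (algebraMap P B)) (ψ : D →ₐ[P] R) (hψ : Function.Surjective ψ)
    (hker : RingHom.ker ψ ≤ (RingHom.ker (algebraMap P B)).map (algebraMap P D))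
    (g : N →ₗ[B] M) (hg : IsBaseChange R g) : Nonempty (Semi D (D ⊗[P] N) R M) := by
  letI : Module P M := Module.compHom M (algebraMap P B)
  haveI : IsScalarTower P B M := IsScalarTower.of_algebraMap_smul fun _ _ => rfl
  haveI : IsScalarTower P R M := IsScalarTower.of_algebraMap_smul fun p m => by
    rw [IsScalarTower.algebraMap_apply P B R, algebraMap_smul, algebraMap_smul]
  let i : N →ₗ[P] N := LinearMap.id
  have hi : IsBaseChange B i := by
    refine IsBaseChange.of_lift_unique i fun Q _ _ _ _ k => ?_
    refine ⟨{ toFun := k, map_add' := k.map_add, map_smul' := fun b n => ?_ }, LinearMap.ext fun _ => rfl,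
      fun k' hk' => LinearMap.ext fun n => LinearMap.congr_fun hk' n⟩
    obtain ⟨p, rfl⟩ := hPB b
    simp only [algebraMap_smul, k.map_smul, RingHom.id_apply]
  have hgi : IsBaseChange R ((g.restrictScalars P).comp i) := IsBaseChange.comp hi hg
  have hinj : Function.Injective (ψ.toLinearMap.rTensor N) := by
    let I : Submodule P D := LinearMap.ker ψ.toLinearMap
    have hex : Function.Exact I.subtype ψ.toLinearMap := LinearMap.exact_subtype_ker_map _
    have hex' := rTensor_exact N hex hψ
    rw [injective_iff_map_eq_zero]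
    intro z hz
    obtain ⟨w, rfl⟩ := (hex' z).1 hz
    induction w using TensorProduct.induction_on with
    | zero => rw [map_zero]
    | tmul x n =>
      have hx : (x : D) ∈ (RingHom.ker (algebraMap P B)).map (algebraMap P D) := hker x.2
      rw [LinearMap.rTensor_tmul, Submodule.subtype_apply]
      refine Submodule.span_induction (p := fun y _ => y ⊗ₜ[P] n = (0 : D ⊗[P] N)) ?_ ?_ ?_ ?_ hx
      · rintro _ ⟨p, hp, rfl⟩
        rw [Algebra.algebraMap_eq_smul_one, TensorProduct.smul_tmul, ← algebraMap_smul B p n,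
          (RingHom.mem_ker).1 hp, zero_smul, TensorProduct.tmul_zero]
      · exact TensorProduct.zero_tmul _ _
      · intro a b _ _ ha hb
        rw [TensorProduct.add_tmul, ha, hb, add_zero]
      · intro c a _ ha
        rw [← TensorProduct.smul_tmul', ha, smul_zero]
    | add a b ha hb =>
      rw [map_add] at hz ⊢
      have hza : ψ.toLinearMap.rTensor N (I.subtype.rTensor N a) = 0 :=
        hex'.apply_apply_eq_zero a
      have hzb : ψ.toLinearMap.rTensor N (I.subtype.rTensor N b) = 0 :=
        hex'.apply_apply_eq_zero b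
      rw [ha hza, hb hzb, add_zero]
  have hsurj := LinearMap.rTensor_surjective N (g := ψ.toLinearMap) hψ
  let e : D ⊗[P] N ≃+ M :=
    (AddEquiv.ofBijective (ψ.toLinearMap.rTensor N).toAddMonoidHom ⟨hinj, hsurj⟩).trans hgi.equiv.toAddEquiv
  refine ⟨⟨ψ.toRingHom, hψ, e, fun r m => ?_⟩⟩
  show hgi.equiv (ψ.toLinearMap.rTensor N (r • m)) = ψ r • hgi.equiv (ψ.toLinearMap.rTensor N m)
  rw [← _root_.map_smul hgi.equiv]
  congr 1
  induction m using TensorProduct.induction_on with
  | zero => rw [smul_zero, map_zero, smul_zero]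
  | tmul x y =>
    rw [TensorProduct.smul_tmul', LinearMap.rTensor_tmul, LinearMap.rTensor_tmul, TensorProduct.smul_tmul',
      AlgHom.toLinearMap_apply, AlgHom.toLinearMap_apply, smul_eq_mul, map_mul, smul_eq_mul]
  | add a b ha hb => rw [smul_add, map_add, map_add, ha, hb, smul_add]

theorem isClosedEmbedding_primeIdealOf {X : Scheme.{u}} {U : X.Opens} (hU : IsAffineOpen U) :
    IsClosedEmbedding hU.primeIdealOf ∧ Function.Surjective hU.primeIdealOf :=
  ⟨hU.isoSpec.hom.homeomorph.isClosedEmbedding, hU.isoSpec.hom.homeomorph.surjective⟩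

variable {X Y : Scheme.{u}} (f : X ⟶ Y)

/-- The local ring of the fibre at a point. -/
abbrev FR (x : X) : Type u := ↑((f.fiber (f.base x)).presheaf.stalk (f.asFiber x))

variable (Mf : ∀ s, ↥(f.fiber s) → Type u) [∀ s w, AddCommGroup (Mf s w)]
  [∀ s w, Module ((f.fiber s).presheaf.stalk w) (Mf s w)]

/-- The fibre stalk at a point. -/
abbrev FM (x : X) : Type u := Mf (f.base x) (f.asFiber x)

variable [LocallyOfFinitePresentation f]

theorem nonempty_chart {x : X} {V : Y.Opens} (hV : IsAffineOpen V) {U : X.Opens} (hU : IsAffineOpen U)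
    (hUV : U ≤ f ⁻¹ᵁ V) (hxU : x ∈ U) (N : Type u) [AddCommGroup N] [Module Γ(X, U) N]
    [Module.FinitePresentation Γ(X, U) N]
    (hbc : ∀ (s : Y) (w : ↥(f.fiber s)) (hw : f.fiberι s w ∈ U),
      letI : Algebra Γ(X, U) ((f.fiber s).presheaf.stalk w) :=
        (((f.fiberι s).stalkMap w).hom.comp (X.presheaf.germ U (f.fiberι s w) hw).hom).toAlgebra
      letI : Module Γ(X, U) (Mf s w) :=
        Module.compHom _ (((f.fiberι s).stalkMap w).hom.comp (X.presheaf.germ U (f.fiberι s w) hw).hom)
      haveI : IsScalarTower Γ(X, U) ((f.fiber s).presheaf.stalk w) (Mf s w) :=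
        IsScalarTower.of_algebraMap_smul fun _ _ => rfl
      ∃ g : N →ₗ[Γ(X, U)] Mf s w, IsBaseChange ((f.fiber s).presheaf.stalk w) g) :
    ∃ c : Chart f (FR f) (FM f Mf) x, c.U = U ∧
      ((letI := Module.compHom N (f.appLE V U hUV).hom; Module.Flat Γ(Y, V) N) → Module.Flat c.A c.N) := by
  let A := Γ(Y, V)
  let B := Γ(X, U)
  letI : Algebra A B := (f.appLE V U hUV).hom.toAlgebra
  haveI : Algebra.FinitePresentation A B := f.finitePresentation_appLE hV hU hUV
  obtain ⟨d, φ, hφ, hkfg⟩ := Algebra.FinitePresentation.out (R := A) (A := B)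
  letI : Algebra (P A d) B := φ.toRingHom.toAlgebra
  haveI : IsScalarTower A (P A d) B := IsScalarTower.of_algebraMap_eq fun a => (φ.commutes a).symm
  letI : Module (P A d) N := Module.compHom N φ.toRingHom
  haveI : IsScalarTower (P A d) B N := IsScalarTower.of_algebraMap_smul fun _ _ => rfl
  letI : Module A N := Module.compHom N (f.appLE V U hUV).hom
  haveI : IsScalarTower A (P A d) N := IsScalarTower.of_algebraMap_smul fun a n => by
    show φ (algebraMap A (P A d) a) • n = (f.appLE V U hUV).hom a • n
    rw [φ.commutes]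
    rfl
  haveI : Module.FinitePresentation (P A d) B :=
    Module.finitePresentation_of_surjective (Algebra.linearMap (P A d) B) hφ hkfg
  haveI : Module.FinitePresentation (P A d) N := Module.FinitePresentation.trans (P A d) N B
  let pt : U → PrimeSpectrum B := hU.primeIdealOf
  let j : U → PrimeSpectrum (P A d) := fun z => PrimeSpectrum.comap (algebraMap (P A d) B) (pt z)
  have hcl : IsClosedEmbedding (PrimeSpectrum.comap (algebraMap (P A d) B)) :=
    PrimeSpectrum.isClosedEmbedding_comap_of_surjective _ _ hφ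
  have hA : ∀ z : U, PrimeSpectrum.comap (algebraMap A (P A d)) (j z) = hV.primeIdealOf ⟨f z.1, hUV z.2⟩ := by
    intro z
    show PrimeSpectrum.comap (algebraMap A (P A d)) (PrimeSpectrum.comap (algebraMap (P A d) B) (pt z)) = _
    rw [← PrimeSpectrum.comap_comp_apply, ← IsScalarTower.algebraMap_eq]
    exact IsAffineOpen.comap_primeIdealOf_appLE V hV U hU hUV z.2
  have hfz : ∀ z : U, hV.fromSpec (PrimeSpectrum.comap (algebraMap A (P A d)) (j z)) = f z.1 := fun z => by
    rw [hA]; exact hV.fromSpec_primeIdealOf _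
  refine ⟨{ U := U, mem := hxU, A := A, d := d, N := N, j := j
            closedEmbedding := hcl.comp (isClosedEmbedding_primeIdealOf hU).1
            comap_eq_iff := fun z w => ⟨fun h => (hfz z).symm.trans ((congrArg _ h).trans (hfz w)),
              fun h => hV.fromSpec.isOpenEmbedding.injective ((hfz z).trans (h.trans (hfz w).symm))⟩
            support_subset := ?_
            semi := ?_
            constructible_preimage := fun T hT => by
              have := (L02.Cons.isConstructible_comap_preimage (algebraMap (P A d) B) hT).preimage_of_isOpenEmbedding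
                hU.isoSpec.hom.homeomorph.isOpenEmbedding
              exact this
            image_open := ?_ }, rfl, fun h => h⟩
  · intro q hq
    have hq' : q ∈ Set.range (PrimeSpectrum.comap (algebraMap (P A d) B)) := by
      rw [range_comap_of_surjective _ (algebraMap (P A d) B) hφ, PrimeSpectrum.mem_zeroLocus]
      intro k hk
      refine Module.annihilator_le_of_mem_support hq (Module.mem_annihilator.2 fun n => ?_)
      rw [← algebraMap_smul B k n, (RingHom.mem_ker).1 hk, zero_smul]
    obtain ⟨p, rfl⟩ := hq'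
    obtain ⟨z, rfl⟩ := (isClosedEmbedding_primeIdealOf hU).2 p
    exact ⟨z, rfl⟩
  · have main : ∀ (s : Y) (w : ↥(f.fiber s)) (hw : f.fiberι s w ∈ U),
        Nonempty (Semi (D (A := A) (j ⟨_, hw⟩).asIdeal) (D (A := A) (j ⟨_, hw⟩).asIdeal ⊗[P A d] N)
          ((f.fiber s).presheaf.stalk w) (Mf s w)) := by
      intro s w hw
      let z : U := ⟨_, hw⟩
      let St := X.presheaf.stalk (f.fiberι s w)
      let R := (f.fiber s).presheaf.stalk w
      let h : St →+* R := ((f.fiberι s).stalkMap w).hom
      obtain ⟨h1, h2⟩ := Groth.L18.stalkMap_fiberι f s w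
      letI algSt : Algebra B St := (X.presheaf.germ U (f.fiberι s w) hw).hom.toAlgebra
      haveI : IsLocalization.AtPrime St (pt z).asIdeal := hU.isLocalization_stalk z
      letI : Algebra B R := (h.comp (algebraMap B St)).toAlgebra
      letI : Module B (Mf s w) := Module.compHom _ (h.comp (algebraMap B St))
      haveI : IsScalarTower B R (Mf s w) := IsScalarTower.of_algebraMap_smul fun _ _ => rfl
      obtain ⟨g, hg⟩ := hbc s w hw
      letI : Algebra (P A d) R := ((algebraMap B R).comp (algebraMap (P A d) B)).toAlgebra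
      haveI : IsScalarTower (P A d) B R := IsScalarTower.of_algebraMap_eq fun _ => rfl
      let Pq := Localization.AtPrime (j z).asIdeal
      have hunit : ∀ t : (j z).asIdeal.primeCompl, IsUnit (algebraMap (P A d) R t) := fun t =>
        (IsLocalization.map_units St (⟨algebraMap (P A d) B t, t.2⟩ : (pt z).asIdeal.primeCompl)).map h
      let σ : Pq →ₐ[P A d] R :=
        { IsLocalization.lift (M := (j z).asIdeal.primeCompl) (S := Pq) hunit with
          commutes' := fun r => IsLocalization.lift_eq hunit r }
      have hσ : ∀ (p : P A d) (t : (j z).asIdeal.primeCompl), σ (IsLocalization.mk' Pq p t) = h (IsLocalization.mk' St (algebraMap (P A d) B p)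
          (⟨algebraMap (P A d) B t, t.2⟩ : (pt z).asIdeal.primeCompl)) := by
        intro p t
        refine (hunit t).mul_left_injective ?_
        show σ (IsLocalization.mk' Pq p t) * algebraMap (P A d) R t = _ * algebraMap (P A d) R t
        have hl : σ (IsLocalization.mk' Pq p t) * algebraMap (P A d) R t = algebraMap (P A d) R p := by
          rw [← σ.commutes (t : P A d), ← map_mul, IsLocalization.mk'_spec]
          exact σ.commutes p
        rw [hl]
        show h (algebraMap B St (algebraMap (P A d) B p)) = _ * h (algebraMap B St (algebraMap (P A d) B t))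
        rw [← map_mul]
        congr 1
        exact (IsLocalization.mk'_spec St (algebraMap (P A d) B p)
          (⟨algebraMap (P A d) B t, t.2⟩ : (pt z).asIdeal.primeCompl)).symm
      have hsurj : Function.Surjective σ := fun y => by
        obtain ⟨y, rfl⟩ := h1 y
        obtain ⟨b, t, rfl⟩ := IsLocalization.exists_mk'_eq (pt z).asIdeal.primeCompl y
        obtain ⟨p, rfl⟩ := hφ b
        obtain ⟨t', ht'⟩ := hφ (t : B)
        refine ⟨IsLocalization.mk' Pq p (⟨t', fun hmem => t.2 (ht' ▸ hmem)⟩ : (j z).asIdeal.primeCompl), ?_⟩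
        rw [hσ]
        show h _ = h _
        congr 2
        exact Subtype.ext ht'
      let a : Ideal A := (PrimeSpectrum.comap (algebraMap A (P A d)) (j z)).asIdeal
      have ha : (Ideal.map (f.stalkMap (f.fiberι s w)).hom (maximalIdeal (Y.presheaf.stalk (f (f.fiberι s w))))) =
          (a.map (algebraMap A B)).map (algebraMap B St) := by
        have hfw : f (f.fiberι s w) ∈ V := hUV hw
        letI : Algebra A (Y.presheaf.stalk (f (f.fiberι s w))) := (Y.presheaf.germ V _ hfw).hom.toAlgebra
        haveI : IsLocalization.AtPrime (Y.presheaf.stalk (f (f.fiberι s w))) a := by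
          have h := hV.isLocalization_stalk ⟨f (f.fiberι s w), hfw⟩
          have e : a = (hV.primeIdealOf ⟨f (f.fiberι s w), hfw⟩).asIdeal := congrArg PrimeSpectrum.asIdeal (hA z)
          have key : ∀ (a' : Ideal A) [a'.IsPrime], a' = (hV.primeIdealOf ⟨f (f.fiberι s w), hfw⟩).asIdeal →
              IsLocalization.AtPrime (Y.presheaf.stalk (f (f.fiberι s w))) a' := by
            rintro _ _ rfl
            exact h
          exact key a e
        rw [← IsLocalization.AtPrime.map_eq_maximalIdeal a (Y.presheaf.stalk (f (f.fiberι s w))), Ideal.map_map,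
          Ideal.map_map]
        refine congrArg (fun k : A →+* St => a.map k) (RingHom.ext fun r => ?_)
        exact Groth.L20.ModStalk.stalkMap_germ hUV hw hfw r
      have hJ : ∀ r ∈ (j z).asIdeal.under A, σ (algebraMap A Pq r) = 0 := by
        intro r hr
        rw [IsScalarTower.algebraMap_apply A (P A d) Pq, σ.commutes]
        show h (algebraMap B St (algebraMap (P A d) B (algebraMap A (P A d) r))) = 0
        rw [← IsScalarTower.algebraMap_apply A (P A d) B, ← RingHom.mem_ker]
        show _ ∈ RingHom.ker h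
        rw [h2, ha]
        exact Ideal.mem_map_of_mem _ (Ideal.mem_map_of_mem _ hr)
      let ψ : D (A := A) (j z).asIdeal →ₐ[P A d] R := Ideal.Quotient.liftₐ _ σ (by
        intro y hy
        have h3 : ((j z).asIdeal.under A).map (algebraMap A Pq) ≤ RingHom.ker σ :=
          Ideal.map_le_iff_le_comap.2 fun r hr => hJ r hr
        exact h3 hy)
      refine nonempty_semi_of_surjective N (Mf s w) hφ ψ
        (Ideal.Quotient.lift_surjective_of_surjective _ _ hsurj) ?_ g hg
      intro y hy
      obtain ⟨y, rfl⟩ := Ideal.Quotient.mk_surjective y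
      obtain ⟨p, t, rfl⟩ := IsLocalization.exists_mk'_eq (j z).asIdeal.primeCompl y
      have h3 : σ (IsLocalization.mk' Pq p t) = 0 := hy
      rw [hσ, ← RingHom.mem_ker, h2, ha, IsLocalization.mk'_mem_iff,
        IsLocalization.algebraMap_mem_map_algebraMap_iff (pt z).asIdeal.primeCompl,
        IsScalarTower.algebraMap_eq A (P A d) B, ← Ideal.map_map] at h3
      obtain ⟨m, hm, hmp⟩ := h3
      obtain ⟨m, rfl⟩ := hφ m
      change algebraMap (P A d) B m * _ ∈ _ at hmp
      rw [← map_mul] at hmp
      obtain ⟨i, hi, hik⟩ := (Ideal.mem_map_iff_of_surjective _ hφ).1 hmp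
      have hk : m * p - i ∈ RingHom.ker (algebraMap (P A d) B) := by
        rw [RingHom.mem_ker, map_sub]
        exact sub_eq_zero.2 hik.symm
      let u : (j z).asIdeal.primeCompl := ⟨m, hm⟩
      have e1 : IsLocalization.mk' Pq p t = IsLocalization.mk' Pq (m * p - i) (u * t) +
          IsLocalization.mk' Pq i (u * t) := by
        refine (IsLocalization.map_units Pq (u * t)).mul_left_injective ?_
        show _ * algebraMap (P A d) Pq ((u * t : (j z).asIdeal.primeCompl) : P A d) =
          (_ + _) * algebraMap (P A d) Pq ((u * t : (j z).asIdeal.primeCompl) : P A d)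
        rw [add_mul, IsLocalization.mk'_spec, IsLocalization.mk'_spec, ← map_add, sub_add_cancel, map_mul]
        show IsLocalization.mk' Pq p t * algebraMap (P A d) Pq (m * (t : P A d)) = _
        rw [map_mul, mul_left_comm, IsLocalization.mk'_spec]
      rw [e1, map_add]
      refine add_mem ?_ ?_
      · rw [IsLocalization.mk'_eq_mul_mk'_one, map_mul]
        refine Ideal.mul_mem_right _ _ ?_
        exact Ideal.mem_map_of_mem (algebraMap (P A d) (D (A := A) (j z).asIdeal)) hk
      · rw [Ideal.Quotient.eq_zero_iff_mem.2 ?_]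
        · exact zero_mem _
        rw [IsScalarTower.algebraMap_eq A (P A d) Pq, ← Ideal.map_map, IsLocalization.mk'_mem_iff]
        exact Ideal.mem_map_of_mem _ hi
    intro z
    have hz : f.fiberι (f z.1) (f.asFiber z.1) = z.1 := f.fiberι_asFiber z.1
    have key : ∀ z' : U, f.fiberι (f z.1) (f.asFiber z.1) = z'.1 →
        Nonempty (Semi (D (A := A) (j z').asIdeal) (D (A := A) (j z').asIdeal ⊗[P A d] N)
          (FR f z.1) (FM f Mf z.1)) := by
      rintro ⟨_, hz'⟩ rfl
      exact main _ _ hz'
    exact key z hz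
  · intro W hW S hS
    convert hV.fromSpec.isOpenEmbedding.isOpenMap W hW using 1
    rw [← hS]
    ext v
    constructor
    · rintro ⟨_, ⟨z, hz, rfl⟩, rfl⟩
      exact ⟨_, ⟨j z, ⟨z, hz, rfl⟩, rfl⟩, hfz z⟩
    · rintro ⟨_, ⟨_, ⟨z, hz, rfl⟩, rfl⟩, rfl⟩
      exact ⟨z.1, ⟨z, hz, rfl⟩, (hfz z).symm⟩

section Module

variable (F : X.Modules)

/-- The stalks of the restrictions of a module to the fibres. -/
abbrev MM (s : Y) (w : ↥(f.fiber s)) : Type u :=
  ↑(((Scheme.Modules.pullback (f.fiberι s)).obj F).presheaf.stalk w)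

theorem exists_chart_module (hF : CohB1.IsFP F) (x : X) :
    ∃ c : Chart f (FR f) (FM f (MM f F)) x, FlatMod.IsFlatOver f F → Module.Flat c.A c.N := by
  haveI : SheafOfModules.IsFinitePresentation (R := X.ringCatSheaf) F := hF
  haveI : Coh.IsQCoh F := { nonempty_quasicoherentData := ⟨hF.exists_quasicoherentData.choose⟩ }
  obtain ⟨_, ⟨V, hV, rfl⟩, hxV, -⟩ :=
    Y.isBasis_affineOpens.exists_subset_of_mem_open (Set.mem_univ (f x)) isOpen_univ
  obtain ⟨_, ⟨U, hU, rfl⟩, hxU, hUV⟩ :=
    X.isBasis_affineOpens.exists_subset_of_mem_open (show x ∈ f ⁻¹ᵁ V from hxV) (f ⁻¹ᵁ V).2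
  haveI := Groth.L20.ModStalk.finitePresentation_sections F hF hU
  obtain ⟨c, -, hc⟩ := nonempty_chart f (MM f F) hV hU hUV hxU Γ(F, U) fun s w hw =>
    Groth.L20.ModStalk.exists_isBaseChange_pullback_stalk (f.fiberι s) F hU hw
  refine ⟨c, fun hflat => hc ?_⟩
  letI := (f.appLE V U hUV).hom.toAlgebra
  letI := Module.compHom Γ(F, U) (f.appLE V U hUV).hom
  haveI : IsScalarTower Γ(Y, V) Γ(X, U) Γ(F, U) := IsScalarTower.of_algebraMap_smul fun _ _ => rfl
  refine Module.flat_of_isLocalized_maximal (R := Γ(Y, V)) Γ(X, U) Γ(F, U)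
    (fun P _ => LocalizedModule P.primeCompl Γ(F, U)) (fun P _ => LocalizedModule.mkLinearMap P.primeCompl Γ(F, U)) fun p _ => ?_
  obtain ⟨z, hz⟩ := (isClosedEmbedding_primeIdealOf hU).2 ⟨p, inferInstance⟩
  have h := (Groth.L20.ModStalk.isFlatOverAt_iff f F hV hU hUV z.2).1 (hflat z.1)
  have key : ∀ q : PrimeSpectrum Γ(X, U), q = hU.primeIdealOf z →
      Module.Flat Γ(Y, V) (LocalizedModule q.asIdeal.primeCompl Γ(F, U)) := by
    rintro _ rfl
    exact h
  exact key ⟨p, inferInstance⟩ hz.symm

theorem hasCharts₀_module (hF : CohB1.IsFP F) : HasCharts₀ f (FR f) (FM f (MM f F)) :=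
  fun x => ⟨(exists_chart_module f F hF x).choose⟩

theorem hasCharts_module (hF : CohB1.IsFP F) (hflat : FlatMod.IsFlatOver f F) :
    HasCharts f (FR f) (FM f (MM f F)) := fun x =>
  ⟨(exists_chart_module f F hF x).choose, (exists_chart_module f F hF x).choose_spec hflat⟩

end Module

/-- The local rings of the fibres. -/
abbrev RR (s : Y) (w : ↥(f.fiber s)) : Type u := ↑((f.fiber s).presheaf.stalk w)

theorem exists_chart_ring (x : X) :
    ∃ c : Chart f (FR f) (FM f (RR f)) x, Flat f → Module.Flat c.A c.N := by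
  obtain ⟨_, ⟨V, hV, rfl⟩, hxV, -⟩ :=
    Y.isBasis_affineOpens.exists_subset_of_mem_open (Set.mem_univ (f x)) isOpen_univ
  obtain ⟨_, ⟨U, hU, rfl⟩, hxU, hUV⟩ :=
    X.isBasis_affineOpens.exists_subset_of_mem_open (show x ∈ f ⁻¹ᵁ V from hxV) (f ⁻¹ᵁ V).2
  haveI : Module.FinitePresentation Γ(X, U) Γ(X, U) := inferInstance
  obtain ⟨c, -, hc⟩ := nonempty_chart f (RR f) hV hU hUV hxU Γ(X, U) fun s w hw => by
    letI : Algebra Γ(X, U) ((f.fiber s).presheaf.stalk w) :=
      (((f.fiberι s).stalkMap w).hom.comp (X.presheaf.germ U (f.fiberι s w) hw).hom).toAlgebra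
    exact ⟨Algebra.linearMap Γ(X, U) ((f.fiber s).presheaf.stalk w), IsBaseChange.linearMap _ _⟩
  exact ⟨c, fun h => hc (@Flat.flat_appLE _ _ f h _ hV _ hU hUV)⟩

theorem hasCharts₀_ring : HasCharts₀ f (FR f) (FM f (RR f)) := fun x => ⟨(exists_chart_ring f x).choose⟩

theorem hasCharts_ring [Flat f] : HasCharts f (FR f) (FM f (RR f)) := fun x =>
  ⟨(exists_chart_ring f x).choose, (exists_chart_ring f x).choose_spec inferInstance⟩

end L02.FibDepth
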