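import Mathlib.Topology.Closure
import Mathlib.Topology.Inseparable
import Mathlib.Topology.LocallyConstant.Basic
import Mathlib.Data.Nat.Find

/-! Derived openness statements for depth and dimension functions along the fibres of a map. -/

set_option autoImplicit false
universe u v

open Topology

namespace L02.FibDepth

variable {X : Type u} {Y : Type v} [TopologicalSpace X] (π : X → Y)

/-- Points having a generisation in `Z` in the same fibre with `δ ≥ n`. -/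
def LD (δ : X → ℕ) (Z : Set X) (n : ℕ) : Set X :=
  {x | ∃ z ∈ Z, z ⤳ x ∧ π z = π x ∧ n ≤ δ z}

/-- The numerical data: `δ` = dimension of the closure in the fibre, `a` = depth, `b` = support dimension
of the local fibres. -/
structure Pre where
  /-- the support -/
  S : Set X
  /-- dimension of the closure in the fibre -/
  δ : X → ℕ
  /-- depth of the local fibre -/
  a : X → ℕ
  /-- dimension of the local fibre -/
  b : X → ℕ
  isClosed_S : IsClosed S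
  le_iff : ∀ x ∈ S, ∀ j : ℕ, j ≤ b x + δ x ↔ ∃ z ∈ S, z ⤳ x ∧ π z = π x ∧ j ≤ δ z
  a_le_b : ∀ x ∈ S, a x ≤ b x
  strict : ∀ x z : X, z ⤳ x → π z = π x → z ≠ x → δ x < δ z
  isClosed_LD : ∀ Z : Set X, IsClosed Z → ∀ n : ℕ, IsClosed (LD π δ Z n)
  bdd : ∀ x, ∃ (U : Set X) (N : ℕ), IsOpen U ∧ x ∈ U ∧ ∀ z ∈ U, δ z ≤ N ∧ (z ∈ S → a z + δ z ≤ N)

/-- Numerical data with lower semicontinuous rectified depth, as for flat families. -/
structure Data extends Pre π where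
  isOpen_le : ∀ m : ℕ, IsOpen {x | x ∈ S → m ≤ a x + δ x}

variable {π}

namespace Pre

variable (D : Pre π)

/-- A locally finite union of closed sets. -/
theorem isClosed_iUnion_of_bdd (T : ℕ → Set X) (hT : ∀ m, IsClosed (T m))
    (hb : ∀ x, ∃ (U : Set X) (N : ℕ), IsOpen U ∧ x ∈ U ∧ ∀ z ∈ U, ∀ m, z ∈ T m → m ≤ N) :
    IsClosed (⋃ m, T m) := by
  rw [← isOpen_compl_iff, isOpen_iff_forall_mem_open]
  intro x hx
  obtain ⟨U, N, hU, hxU, hN⟩ := hb x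
  refine ⟨U ∩ (⋃ m ∈ Finset.range (N + 1), T m)ᶜ, ?_, hU.inter ?_, hxU, ?_⟩
  · rintro z ⟨hzU, hz⟩ hz'
    obtain ⟨m, hm⟩ := Set.mem_iUnion.1 hz'
    exact hz (Set.mem_biUnion (Finset.mem_range.2 (Nat.lt_succ_iff.2 (hN z hzU m hm))) hm)
  · exact ((Finset.range (N + 1)).finite_toSet.isClosed_biUnion fun m _ => hT m).isOpen_compl
  · intro h
    obtain ⟨m, -, hm⟩ := Set.mem_iUnion₂.1 h
    exact hx (Set.mem_iUnion.2 ⟨m, hm⟩)

theorem mem_LD_self {Z : Set X} {n : ℕ} {x : X} (hx : x ∈ Z) (h : n ≤ D.δ x) : x ∈ LD π D.δ Z n :=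
  ⟨x, hx, specializes_rfl, rfl, h⟩

theorem mem_S_of_gen {z x : X} (hz : z ∈ D.S) (h : z ⤳ x) : x ∈ D.S :=
  h.mem_closed D.isClosed_S hz

/-- The points where `a + δ ≤ m`. -/
def A (m : ℕ) : Set X := {x | x ∈ D.S ∧ D.a x + D.δ x ≤ m}

theorem exists_bdd (x : X) : ∃ (U : Set X) (N : ℕ), IsOpen U ∧ x ∈ U ∧
    ∀ z ∈ U, D.δ z ≤ N ∧ (z ∈ D.S → D.b z + D.δ z ≤ N ∧ D.a z + D.δ z ≤ N) := by
  obtain ⟨U, N, hU, hxU, hN⟩ := D.bdd x
  refine ⟨U, N, hU, hxU, fun z hz => ⟨(hN z hz).1, fun hzS => ⟨?_, (hN z hz).2 hzS⟩⟩⟩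
  obtain ⟨w, -, hwz, -, hw⟩ := (D.le_iff z hzS _).1 le_rfl
  exact hw.trans (hN w (hwz.mem_open hU hz)).1

/-- The condition `(Sₖ)` at `x`. -/
def SkOK (k : ℕ) (x : X) : Prop :=
  ∀ z ∈ D.S, z ⤳ x → π z = π x → min k (D.b z) ≤ D.a z

/-- The associated points of the fibres. -/
def Ass : Set X := {z | z ∈ D.S ∧ D.a z = 0}

theorem mem_Ass_of_b_eq_zero {z : X} (hz : z ∈ D.S) (hb : D.b z = 0) : z ∈ D.Ass :=
  ⟨hz, Nat.le_zero.1 (hb ▸ D.a_le_b z hz)⟩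

theorem exists_min_gen {z : X} (hz : z ∈ D.S) :
    ∃ w ∈ D.S, w ⤳ z ∧ π w = π z ∧ D.b w = 0 ∧ D.δ w = D.b z + D.δ z := by
  obtain ⟨w, hw, hwz, hp, hd⟩ := (D.le_iff z hz _).1 le_rfl
  have h1 : D.b w + D.δ w ≤ D.b z + D.δ z := by
    obtain ⟨v, hv, hvw, hpv, hdv⟩ := (D.le_iff w hw _).1 le_rfl
    exact (D.le_iff z hz _).2 ⟨v, hv, hvw.trans hwz, hpv.trans hp, hdv⟩
  exact ⟨w, hw, hwz, hp, by omega, by omega⟩

theorem δ_le_of_gen {z x : X} (h : z ⤳ x) (hp : π z = π x) : D.δ x ≤ D.δ z := by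
  by_cases hzx : z = x
  · rw [hzx]
  · exact (D.strict x z h hp hzx).le

theorem δ_le_b_add {z x : X} (hz : z ∈ D.S) (h : z ⤳ x) (hp : π z = π x) : D.δ z ≤ D.b x + D.δ x :=
  (D.le_iff x (D.mem_S_of_gen hz h) _).2 ⟨z, hz, h, hp, le_rfl⟩

/-- The points through which passes an associated cycle of dimension `j`. -/
def AssDim (j : ℕ) : Set X := LD π D.δ (D.A j) j

theorem mem_AssDim {j : ℕ} {x : X} :
    x ∈ D.AssDim j ↔ ∃ z ∈ D.Ass, z ⤳ x ∧ π z = π x ∧ D.δ z = j := by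
  constructor
  · rintro ⟨z, ⟨hz, hm⟩, hzx, hp, hd⟩
    exact ⟨z, ⟨hz, by omega⟩, hzx, hp, by omega⟩
  · rintro ⟨z, ⟨hz, ha⟩, hzx, hp, hd⟩
    exact ⟨z, ⟨hz, by omega⟩, hzx, hp, by omega⟩

theorem AssDim_bdd (x : X) : ∃ (U : Set X) (N : ℕ), IsOpen U ∧ x ∈ U ∧ ∀ z ∈ U, ∀ j, z ∈ D.AssDim j → j ≤ N := by
  obtain ⟨U, N, hU, hxU, hN⟩ := D.exists_bdd x
  refine ⟨U, N, hU, hxU, fun w hw j hj => ?_⟩
  obtain ⟨z, -, hzw, -, rfl⟩ := D.mem_AssDim.1 hj
  exact (hN z (hzw.mem_open hU hw)).1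

/-- No embedded associated cycle passes through `x`. -/
def NoEmb (x : X) : Prop :=
  ∀ z ∈ D.Ass, z ⤳ x → π z = π x → ∀ z' ∈ D.Ass, z' ⤳ z → π z' = π z → z' = z

theorem noEmb_iff (x : X) : D.NoEmb x ↔ ∀ z ∈ D.Ass, z ⤳ x → π z = π x → D.b z = 0 := by
  constructor
  · intro h z hz hzx hp
    obtain ⟨w, hw, hwz, hpw, hb, hd⟩ := D.exists_min_gen hz.1
    obtain rfl := h z hz hzx hp w (D.mem_Ass_of_b_eq_zero hw hb) hwz hpw
    exact hb
  · intro h z hz hzx hp z' hz' hzz hp'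
    by_contra hne
    have h1 := D.strict z z' hzz hp' hne
    have h2 := D.δ_le_b_add hz'.1 hzz hp'
    have := h z hz hzx hp
    omega

/-- Equidimensionality at `x`. -/
def Equi (x : X) : Prop :=
  ∀ z ∈ D.S, z ⤳ x → π z = π x → D.b z = 0 → D.δ z = D.b x + D.δ x

/-- The fibre over `y` has a component of dimension `n`. -/
def HasComp (n : ℕ) (y : Y) : Prop := ∃ z ∈ D.S, π z = y ∧ D.b z = 0 ∧ D.δ z = n

/-- The fibre over `y` has dimension at least `j`. -/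
def DimGe (j : ℕ) (y : Y) : Prop := ∃ z ∈ D.S, π z = y ∧ j ≤ D.δ z

/-- A closed bad set gives an open set of good fibres. -/
theorem isOpen_forall [TopologicalSpace Y] (hclosed : IsClosedMap π) {P : X → Prop} (hP : IsOpen {x | P x}) :
    IsOpen {y | ∀ x, π x = y → P x} := by
  convert (hclosed _ hP.isClosed_compl).isOpen_compl using 1
  ext y
  simp only [Set.mem_ofPred_eq, Set.mem_compl_iff, Set.mem_image, not_exists, not_and]
  exact ⟨fun h x hx hp => hx (h x hp), fun h x hp => not_not.1 fun hx => h x hx hp⟩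

theorem forall_ass_iff (Φ : Set ℕ) (y : Y) :
    (∀ x, π x = y → ∀ z ∈ D.Ass, z ⤳ x → π z = π x → D.δ z ∈ Φ) ↔ ∀ z ∈ D.Ass, π z = y → D.δ z ∈ Φ :=
  ⟨fun h z hz hp => h z hp z hz specializes_rfl rfl, fun h _ hx z hz _ hp => h z hz (hp.trans hx)⟩

theorem forall_noEmb_iff (y : Y) :
    (∀ x, π x = y → D.NoEmb x) ↔ ∀ z ∈ D.Ass, π z = y → ∀ z' ∈ D.Ass, π z' = y → z' ⤳ z → z' = z := by
  constructor
  · exact fun h z hz hp z' hz' hp' hs => h z hp z hz specializes_rfl rfl z' hz' hs (hp'.trans hp.symm)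
  · exact fun h x hx z hz _ hp z' hz' hs hp' => h z hz (hp.trans hx) z' hz' (hp'.trans (hp.trans hx)) hs

end Pre

namespace Data

open Pre

variable (D : Data π)

theorem isClosed_A (m : ℕ) : IsClosed (D.A m) := by
  have : D.A m = {x | x ∈ D.S → m + 1 ≤ D.a x + D.δ x}ᶜ := by
    ext x
    simp only [A, Set.mem_ofPred_eq, Set.mem_compl_iff, Classical.not_imp, not_le, Nat.lt_succ_iff]
  rw [this]
  exact (D.isOpen_le _).isClosed_compl

theorem isClosed_codepth (c : ℕ) : IsClosed {x | x ∈ D.S ∧ D.a x + c < D.b x} := by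
  have : {x | x ∈ D.S ∧ D.a x + c < D.b x} = ⋃ m, D.A m ∩ LD π D.δ D.S (m + c + 1) := by
    ext x
    simp only [Set.mem_ofPred_eq, Set.mem_iUnion, Set.mem_inter_iff]
    constructor
    · rintro ⟨hx, h⟩
      exact ⟨D.a x + D.δ x, ⟨hx, le_rfl⟩, (D.le_iff x hx _).1 (by omega)⟩
    · rintro ⟨m, ⟨hx, hm⟩, h⟩
      have := (D.le_iff x hx _).2 h
      exact ⟨hx, by omega⟩
  rw [this]
  refine isClosed_iUnion_of_bdd _ (fun m => (D.isClosed_A m).inter (D.isClosed_LD _ D.isClosed_S _)) fun x => ?_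
  obtain ⟨U, N, hU, hxU, hN⟩ := D.exists_bdd x
  refine ⟨U, N, hU, hxU, fun z hz m hm => ?_⟩
  have h1 := (D.le_iff z hm.1.1 _).2 hm.2
  have h2 := ((hN z hz).2 hm.1.1).1
  omega

theorem isOpen_codepth_le (c : ℕ) : IsOpen {x | x ∈ D.S → D.b x ≤ D.a x + c} := by
  convert (D.isClosed_codepth c).isOpen_compl using 1
  ext x
  simp only [Set.mem_ofPred_eq, Set.mem_compl_iff, not_and, not_lt]

theorem isOpen_sk (k : ℕ) : IsOpen {x | D.SkOK k x} := by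
  let T : ℕ → Set X := fun m =>
    LD π D.δ ({x | x ∈ D.S ∧ D.a x + 0 < D.b x} ∩ D.A m) (m + 1 - k)
  have : {x | D.SkOK k x} = (⋃ m, T m)ᶜ := by
    ext x
    simp only [SkOK, Set.mem_ofPred_eq, Set.mem_compl_iff, Set.mem_iUnion, T, LD, Set.mem_inter_iff, not_exists]
    constructor
    · rintro h m z ⟨⟨⟨hz, hab⟩, -, hm⟩, hzx, hp, hd⟩
      have := h z hz hzx hp
      omega
    · intro h z hz hzx hp
      by_contra hlt
      exact h (D.a z + D.δ z) z ⟨⟨⟨hz, by omega⟩, hz, le_rfl⟩, hzx, hp, by omega⟩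
  rw [this]
  refine (isClosed_iUnion_of_bdd _ (fun m => D.isClosed_LD _ ((D.isClosed_codepth 0).inter (D.isClosed_A m)) _)
    fun x => ?_).isOpen_compl
  obtain ⟨U, N, hU, hxU, hN⟩ := D.exists_bdd x
  refine ⟨U, N + k, hU, hxU, fun w hw m hm => ?_⟩
  obtain ⟨z, -, hzw, -, hd⟩ := hm
  have := (hN z (hzw.mem_open hU hw)).1
  omega

theorem isClosed_AssDim (j : ℕ) : IsClosed (D.AssDim j) := D.isClosed_LD _ (D.isClosed_A j) _

theorem isClosed_iUnion_AssDim (p : ℕ → Prop) : IsClosed (⋃ j, {x | p j ∧ x ∈ D.AssDim j}) := by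
  refine isClosed_iUnion_of_bdd _ (fun j => ?_) fun x => ?_
  · by_cases h : p j
    · simpa [h] using D.isClosed_AssDim j
    · simp [h]
  · obtain ⟨U, N, hU, hxU, hN⟩ := D.AssDim_bdd x
    exact ⟨U, N, hU, hxU, fun z hz j hj => hN z hz j hj.2⟩

theorem isOpen_ass_dim (Φ : Set ℕ) :
    IsOpen {x | ∀ z ∈ D.Ass, z ⤳ x → π z = π x → D.δ z ∈ Φ} := by
  convert (D.isClosed_iUnion_AssDim (· ∉ Φ)).isOpen_compl using 1
  ext x
  simp only [Set.mem_ofPred_eq, Set.mem_compl_iff, Set.mem_iUnion, not_exists, not_and, D.mem_AssDim]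
  exact ⟨fun h j hj z hz hzx hp hd => hj (hd ▸ h z hz hzx hp), fun h z hz hzx hp => by
    by_contra hd; exact h _ hd z hz hzx hp rfl⟩

theorem isOpen_noEmb : IsOpen {x | D.NoEmb x} := by
  let T : ℕ → Set X := fun i => LD π D.δ (D.A i ∩ LD π D.δ D.S (i + 1)) i
  have : {x | D.NoEmb x} = (⋃ i, T i)ᶜ := by
    ext x
    simp only [Set.mem_ofPred_eq, Set.mem_compl_iff, Set.mem_iUnion, not_exists, D.noEmb_iff]
    constructor
    · rintro h i ⟨z, ⟨⟨hz, hm⟩, hd'⟩, hzx, hp, hd⟩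
      have := h z ⟨hz, by omega⟩ hzx hp
      have := (D.le_iff z hz _).2 hd'
      omega
    · intro h z hz hzx hp
      by_contra hb
      exact h (D.δ z) ⟨z, ⟨⟨hz.1, by have := hz.2; omega⟩, (D.le_iff z hz.1 _).1 (by omega)⟩, hzx, hp, le_rfl⟩
  rw [this]
  refine (isClosed_iUnion_of_bdd _ (fun i => D.isClosed_LD _ ((D.isClosed_A i).inter
    (D.isClosed_LD _ D.isClosed_S _)) _) fun x => ?_).isOpen_compl
  obtain ⟨U, N, hU, hxU, hN⟩ := D.exists_bdd x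
  refine ⟨U, N, hU, hxU, fun w hw i hi => ?_⟩
  obtain ⟨z, -, hzw, -, hd⟩ := hi
  exact hd.trans (hN z (hzw.mem_open hU hw)).1

theorem isOpen_equi_sk {k : ℕ} (hk : 1 ≤ k) : IsOpen {x | D.Equi x ∧ D.SkOK k x} := by
  let T : ℕ → Set X := fun j => D.AssDim j ∩ ⋃ i, {x | i < j ∧ x ∈ D.AssDim i}
  have : {x | D.Equi x ∧ D.SkOK k x} = {x | D.SkOK k x} ∩ (⋃ j, T j)ᶜ := by
    ext x
    simp only [Set.mem_ofPred_eq, Set.mem_inter_iff, Set.mem_compl_iff, Set.mem_iUnion, T, not_exists, not_and,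
      D.mem_AssDim]
    refine ⟨fun ⟨he, hs⟩ => ⟨hs, ?_⟩, fun ⟨hs, h⟩ => ⟨?_, hs⟩⟩
    · rintro j ⟨z, hz, hzx, hp, rfl⟩ i hij w hw hwx hpw rfl
      have hbz : D.b z = 0 := by have := hs z hz.1 hzx hp; have := hz.2; omega
      have hbw : D.b w = 0 := by have := hs w hw.1 hwx hpw; have := hw.2; omega
      rw [he z hz.1 hzx hp hbz, he w hw.1 hwx hpw hbw] at hij
      exact lt_irrefl _ hij
    · intro z hz hzx hp hb
      obtain ⟨w, hw, hwx, hpw, hbw, hdw⟩ := D.exists_min_gen (D.mem_S_of_gen hz hzx)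
      have h1 := D.δ_le_b_add hz hzx hp
      rcases h1.lt_or_eq with hlt | heq
      · exact absurd hdw fun _ => h (D.b x + D.δ x) ⟨w, D.mem_Ass_of_b_eq_zero hw hbw, hwx, hpw, hdw⟩
          (D.δ z) hlt z (D.mem_Ass_of_b_eq_zero hz hb) hzx hp rfl
      · exact heq
  rw [this]
  refine (D.isOpen_sk k).inter (isClosed_iUnion_of_bdd _ (fun j =>
    (D.isClosed_AssDim j).inter (D.isClosed_iUnion_AssDim (· < j))) fun x => ?_).isOpen_compl
  obtain ⟨U, N, hU, hxU, hN⟩ := D.AssDim_bdd x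
  exact ⟨U, N, hU, hxU, fun z hz j hj => hN z hz j hj.1⟩

theorem isOpen_hasComp [TopologicalSpace Y] (hopen : ∀ N : Set X, IsOpen N → IsOpen (π '' (N ∩ D.S))) (n : ℕ) :
    IsOpen {y | D.HasComp n y} := by
  rw [isOpen_iff_forall_mem_open]
  rintro _ ⟨z, hz, rfl, hb, hd⟩
  let N : Set X := {x | x ∈ D.S → n ≤ D.a x + D.δ x} ∩ (LD π D.δ D.S (n + 1))ᶜ
  refine ⟨π '' (N ∩ D.S), ?_, hopen N ((D.isOpen_le n).inter (D.isClosed_LD _ D.isClosed_S _).isOpen_compl),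
    ⟨z, ⟨⟨fun _ => by omega, fun h => ?_⟩, hz⟩, rfl⟩⟩
  · rintro _ ⟨x, ⟨⟨h1, h2⟩, hx⟩, rfl⟩
    obtain ⟨w, hw, hwx, hpw, hbw, hdw⟩ := D.exists_min_gen hx
    have h3 : ¬ n + 1 ≤ D.b x + D.δ x := fun h => h2 ((D.le_iff x hx _).1 h)
    have := h1 hx
    have := D.a_le_b x hx
    exact ⟨w, hw, hpw, hbw, by omega⟩
  · have := (D.le_iff z hz _).2 h
    omega

theorem isClopen_dimGe [TopologicalSpace Y] (hclosed : IsClosedMap π)
    (hopen : ∀ N : Set X, IsOpen N → IsOpen (π '' (N ∩ D.S))) (j : ℕ) : IsClopen {y | D.DimGe j y} := by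
  constructor
  · have : {y | D.DimGe j y} = π '' LD π D.δ D.S j := by
      ext y
      constructor
      · rintro ⟨z, hz, rfl, hd⟩; exact ⟨z, D.mem_LD_self hz hd, rfl⟩
      · rintro ⟨x, ⟨z, hz, -, hp, hd⟩, rfl⟩; exact ⟨z, hz, hp, hd⟩
    rw [this]
    exact hclosed _ (D.isClosed_LD _ D.isClosed_S _)
  · rw [isOpen_iff_forall_mem_open]
    rintro _ ⟨z, hz, rfl, hd⟩
    obtain ⟨w, hw, -, hp, hb, hdw⟩ := D.exists_min_gen hz
    exact ⟨{y | D.HasComp (D.δ w) y}, fun y ⟨v, hv, hpv, _, hdv⟩ => ⟨v, hv, hpv, by omega⟩, D.isOpen_hasComp hopen (D.δ w),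
      w, hw, hp, hb, rfl⟩

end Data

end L02.FibDepth
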