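import Groth.Prelude.Def_EGA4b
import Groth.Agent.L04.RegularPd
import Groth.Agent.L04.DepthLoc
import Groth.Agent.L03.AuslanderBuchsbaum
import Groth.Agent.L22.AffineDim
import Groth.Agent.L04.CMBasic

/-! Depth, dimension and projective dimension of a localised module over an affine regular domain. -/

set_option autoImplicit false
set_option linter.style.haveILetI false
universe u

open CategoryTheory IsLocalRing TensorProduct

namespace L02.FibDepth

variable (k : Type u) {C : Type u} [Field k] [CommRing C] [IsDomain C] [IsRegularRing C] [Algebra k C]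
  [Algebra.FiniteType k C] {n : ℕ} (hn : ringKrullDim C = n) (Q : Ideal C) [Q.IsPrime]
  (L : Type u) [CommRing L] [Algebra C L] [IsLocalization.AtPrime L Q]
  (M : Type u) [AddCommGroup M] [Module C M] [Module.Finite C M]

include Q in
theorem mem_support_localization (𝔭 : PrimeSpectrum L) :
    𝔭 ∈ Module.support L (L ⊗[C] M) ↔ PrimeSpectrum.comap (algebraMap C L) 𝔭 ∈ Module.support C M := by
  let f : M →ₗ[C] L ⊗[C] M := TensorProduct.mk C L M 1
  haveI : IsLocalizedModule Q.primeCompl f :=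
    (isLocalizedModule_iff_isBaseChange Q.primeCompl L f).2 (TensorProduct.isBaseChange C M L)
  rw [Module.mem_support_iff', Module.mem_support_iff']
  constructor
  · rintro ⟨x, hx⟩
    obtain ⟨⟨m, s⟩, hms⟩ := IsLocalizedModule.surj Q.primeCompl f x
    refine ⟨m, fun r hr hrm => ?_⟩
    refine hx (algebraMap C L r * algebraMap C L (s : C)) ?_ ?_
    · exact fun h => (𝔭.isPrime.mem_or_mem h).elim hr fun hs =>
        𝔭.isPrime.ne_top (Ideal.eq_top_of_isUnit_mem _ hs (IsLocalization.map_units L s))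
    · rw [mul_smul, algebraMap_smul, algebraMap_smul]
      have hms' : (s : C) • x = f m := hms
      rw [hms', ← map_smul, hrm, map_zero]
  · rintro ⟨m, hm⟩
    refine ⟨f m, fun r hr hrm => ?_⟩
    obtain ⟨a, s, rfl⟩ := IsLocalization.exists_mk'_eq Q.primeCompl r
    have hne : PrimeSpectrum.comap (algebraMap C L) 𝔭 = PrimeSpectrum.comap (algebraMap C L) 𝔭 := rfl
    have ha : algebraMap C L a ∉ 𝔭.asIdeal := fun h => hr (by
      rwa [IsLocalization.mk'_mem_iff])
    have h0 : f (a • m) = f 0 := by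
      rw [map_smul, map_zero, ← algebraMap_smul L a (f m), ← IsLocalization.mk'_spec L a s, mul_comm, mul_smul,
        hrm, smul_zero]
    obtain ⟨t, ht⟩ := IsLocalizedModule.exists_of_eq (S := Q.primeCompl) (f := f) h0
    rw [smul_zero] at ht
    refine hm ((t : C) * a) (fun h => ((PrimeSpectrum.comap (algebraMap C L) 𝔭).isPrime.mem_or_mem h).elim
      (fun hs => 𝔭.isPrime.ne_top (Ideal.eq_top_of_isUnit_mem _ hs (IsLocalization.map_units L t))) ha) ?_
    rw [mul_smul]
    exact ht

include k in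
theorem dim_quotient {p : Ideal C} [p.IsPrime] (hpQ : p ≤ Q) :
    ∃ e δp δq : ℕ, ringKrullDim (L ⧸ p.map (algebraMap C L)) = (e : WithBot ℕ∞) ∧
      ringKrullDim (C ⧸ p) = (δp : WithBot ℕ∞) ∧ ringKrullDim (C ⧸ Q) = (δq : WithBot ℕ∞) ∧ e + δq = δp := by
  haveI hprime : (Q.map (Ideal.Quotient.mk p)).IsPrime :=
    Ideal.map_isPrime_of_surjective Ideal.Quotient.mk_surjective (by simpa using hpQ)
  obtain ⟨h, e, d, hh, he, hd, hhe⟩ := Groth.L22.AffineDim.dim_formula k (C ⧸ p) (Q.map (Ideal.Quotient.mk p))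
  refine ⟨h, d, e, ?_, hd, ?_, hhe⟩
  · let ε : Localization.AtPrime Q ≃ₐ[C] L := IsLocalization.algEquiv Q.primeCompl _ _
    have hI : p.map (algebraMap C L) =
        (p.map (algebraMap C (Localization.AtPrime Q))).map ε.toRingEquiv.toRingHom := by
      rw [Ideal.map_map]
      exact congrArg (fun g => p.map g) (RingHom.ext fun x => (ε.commutes x).symm)
    rw [← ringKrullDim_eq_of_ringEquiv (Ideal.quotientEquiv _ _ ε.toRingEquiv hI),
      Groth.L04.ringKrullDim_localization_quotient hpQ, hh]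
    rfl
  · rw [← he]
    refine (ringKrullDim_eq_of_ringEquiv ?_).symm
    exact (DoubleQuot.quotQuotEquivQuotOfLE hpQ)

include k hn in
/-- Height plus dimension of the quotient is the dimension. -/
theorem dim_localization :
    ∃ h δ : ℕ, ringKrullDim L = (h : WithBot ℕ∞) ∧ ringKrullDim (C ⧸ Q) = (δ : WithBot ℕ∞) ∧ h + δ = n := by
  obtain ⟨h, e, d, hh, he, hd, hhe⟩ := Groth.L22.AffineDim.dim_formula k C Q
  refine ⟨h, e, ?_, he, ?_⟩
  · rw [IsLocalization.AtPrime.ringKrullDim_eq_height Q L, hh]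
    rfl
  · rw [hn] at hd
    exact hhe.trans (by exact_mod_cast hd.symm)

include Q in
theorem isRegularLocalRing_localization : IsRegularLocalRing L := by
  haveI : IsRegularLocalRing (Localization.AtPrime Q) := IsRegularRing.isRegularLocalRing_localization Q
  exact IsRegularLocalRing.of_ringEquiv (IsLocalization.algEquiv Q.primeCompl (Localization.AtPrime Q) L).toRingEquiv

include k hn in
/-- The invariants at a point of the support. -/
theorem invariants [IsLocalRing L] (hQ : (⟨Q, inferInstance⟩ : PrimeSpectrum C) ∈ Module.support C M) :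
    ∃ δ a b : ℕ, ringKrullDim (C ⧸ Q) = (δ : WithBot ℕ∞) ∧ a + δ ≤ n ∧
      LocCoh.depth L (L ⊗[C] M) = (a : ℕ∞) ∧ Module.supportDim L (L ⊗[C] M) = (b : WithBot ℕ∞) ∧ a ≤ b ∧
      (∀ t : ℕ, HasProjectiveDimensionLT (ModuleCat.of L (L ⊗[C] M)) t ↔ n < t + a + δ) ∧
      (∀ j : ℕ, j ≤ b + δ ↔ ∃ p ∈ Module.support C M, p.asIdeal ≤ Q ∧
        (j : WithBot ℕ∞) ≤ ringKrullDim (C ⧸ p.asIdeal)) := by
  haveI := isRegularLocalRing_localization Q L
  haveI : IsNoetherianRing L := inferInstance
  obtain ⟨h, δ, hh, hδ, hhδ⟩ := dim_localization k hn Q L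
  let m : PrimeSpectrum L := ⟨maximalIdeal L, inferInstance⟩
  have hm : PrimeSpectrum.comap (algebraMap C L) m = ⟨Q, inferInstance⟩ :=
    PrimeSpectrum.ext (IsLocalization.AtPrime.comap_maximalIdeal L Q)
  have hmem : m ∈ Module.support L (L ⊗[C] M) := by rw [mem_support_localization Q L M, hm]; exact hQ
  haveI : Nontrivial (L ⊗[C] M) := Module.nonempty_support_iff.1 ⟨m, hmem⟩
  obtain ⟨a, ha⟩ := WithTop.ne_top_iff_exists.1 (Groth.L03.AB.depth_ne_top (R := L) (L ⊗[C] M))
  have ha' : LocCoh.depth L (L ⊗[C] M) = (a : ℕ∞) := ha.symm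
  have hCM : LocCoh.depth L L = (h : ℕ∞) := by
    have h1 := (Groth.L04.isCohenMacaulayLocalRing_of_regular L).supportDim_eq_depth
    rw [Module.supportDim_self_eq_ringKrullDim, hh] at h1
    exact_mod_cast h1.symm
  have hpd : ∀ t : ℕ, HasProjectiveDimensionLE (ModuleCat.of L (L ⊗[C] M)) t ↔ h ≤ t + a := by
    intro t
    refine ⟨fun ht => ?_, fun ht => Groth.L04.hasProjectiveDimensionLE_of_dim_le_add_depth _ hh
      (by rw [ha']; exact_mod_cast ht)⟩
    classical
    let e := Nat.find (p := fun t => HasProjectiveDimensionLE (ModuleCat.of L (L ⊗[C] M)) t) ⟨t, ht⟩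
    have h1 := Groth.L03.AB.auslander_buchsbaum (R := L) e (L ⊗[C] M)
      (Nat.find_spec (p := fun t => HasProjectiveDimensionLE (ModuleCat.of L (L ⊗[C] M)) t) ⟨t, ht⟩)
      fun e' he' => Nat.find_min (p := fun t => HasProjectiveDimensionLE (ModuleCat.of L (L ⊗[C] M)) t) ⟨t, ht⟩ he'
    rw [hCM, ha'] at h1
    have h2 : h = e + a := by exact_mod_cast h1
    have h3 : e ≤ t := Nat.find_min' (p := fun t => HasProjectiveDimensionLE (ModuleCat.of L (L ⊗[C] M)) t) _ ht
    omega
  have hbtop : Module.supportDim L (L ⊗[C] M) ≤ (h : WithBot ℕ∞) := hh ▸ Module.supportDim_le_ringKrullDim L _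
  obtain ⟨b, hb⟩ : ∃ b : ℕ, Module.supportDim L (L ⊗[C] M) = (b : WithBot ℕ∞) := by
    have hne := Module.supportDim_ne_bot_of_nontrivial L (L ⊗[C] M)
    obtain ⟨x, hx⟩ := WithBot.ne_bot_iff_exists.1 hne
    rw [← hx] at hbtop ⊢
    have hxh : x ≤ (h : ℕ∞) := by exact_mod_cast hbtop
    lift x to ℕ using ne_top_of_le_ne_top (ENat.coe_ne_top h) hxh with b
    exact ⟨b, rfl⟩
  have hab : a ≤ b := by
    have h1 : ((LocCoh.depth L (L ⊗[C] M) : ℕ∞) : WithBot ℕ∞) ≤ Module.supportDim L (L ⊗[C] M) :=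
      Groth.L04.depth_le_supportDim
    rw [ha', hb] at h1
    exact_mod_cast h1
  have hah : a ≤ h := hab.trans (by rw [hb] at hbtop; exact_mod_cast hbtop)
  refine ⟨δ, a, b, hδ, by omega, ha', hb, hab, fun t => ?_, fun j => ⟨fun hj => ?_, ?_⟩⟩
  · cases t with
    | zero =>
      refine ⟨fun ht => ?_, fun ht => absurd ht (by omega)⟩
      rw [hasProjectiveDimensionLT_zero_iff_isZero, ModuleCat.isZero_iff_subsingleton] at ht
      exact absurd ht (not_subsingleton (L ⊗[C] M))
    | succ t => rw [show HasProjectiveDimensionLT (ModuleCat.of L (L ⊗[C] M)) (t + 1) ↔ _ from hpd t]; omega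
  · have hb' : (b : WithBot ℕ∞) ≤ Order.krullDim (Module.support L (L ⊗[C] M)) := hb.ge
    obtain ⟨l, hl⟩ := Order.le_krullDim_iff.1 hb'
    let P : PrimeSpectrum L := l.head.1
    haveI := (PrimeSpectrum.comap (algebraMap C L) P).isPrime
    have hpQ : (PrimeSpectrum.comap (algebraMap C L) P).asIdeal ≤ Q := by
      refine (Ideal.comap_mono (IsLocalRing.le_maximalIdeal P.isPrime.ne_top)).trans ?_
      exact le_of_eq (congrArg PrimeSpectrum.asIdeal hm)
    refine ⟨_, (mem_support_localization Q L M P).1 l.head.2, hpQ, ?_⟩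
    obtain ⟨e, δp, δq, he, hδp, hδq, heq⟩ := dim_quotient k Q L hpQ
    have hmap : (PrimeSpectrum.comap (algebraMap C L) P).asIdeal.map (algebraMap C L) = P.asIdeal :=
      IsLocalization.map_comap Q.primeCompl L P.asIdeal
    rw [hmap, ringKrullDim_quotient] at he
    let g : Module.support L (L ⊗[C] M) → PrimeSpectrum L := Subtype.val
    let l' : LTSeries (PrimeSpectrum.zeroLocus (P.asIdeal : Set L)) :=
      { length := l.length
        toFun := fun i => ⟨(l i).1, show P.asIdeal ≤ (l i).1.asIdeal from l.head_le i⟩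
        step := fun i => l.step i }
    have h1 : (l.length : WithBot ℕ∞) ≤ (e : WithBot ℕ∞) := he ▸ Order.LTSeries.length_le_krullDim l'
    have h2 : δq = δ := by rw [hδ] at hδq; exact_mod_cast hδq.symm
    have h3 : b ≤ e := by rw [← hl]; exact_mod_cast h1
    rw [hδp]
    exact_mod_cast (show j ≤ δp by omega)
  · rintro ⟨p, hp, hpQ, hj⟩
    obtain ⟨e, δp, δq, he, hδp, hδq, heq⟩ := dim_quotient k Q L (p := p.asIdeal) hpQ
    have h2 : δq = δ := by rw [hδ] at hδq; exact_mod_cast hδq.symm
    have hdisj : Disjoint (Q.primeCompl : Set C) (p.asIdeal : Set C) :=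
      Set.disjoint_left.2 fun x hx hxp => hx (hpQ hxp)
    haveI := IsLocalization.isPrime_of_isPrime_disjoint Q.primeCompl L p.asIdeal p.isPrime hdisj
    let P : PrimeSpectrum L := ⟨p.asIdeal.map (algebraMap C L), inferInstance⟩
    have hP : P ∈ Module.support L (L ⊗[C] M) := by
      rw [mem_support_localization Q L M]
      rwa [show PrimeSpectrum.comap (algebraMap C L) P = p from
        PrimeSpectrum.ext (IsLocalization.comap_map_of_isPrime_disjoint Q.primeCompl L p.isPrime hdisj)]
    have h1 : Order.krullDim (PrimeSpectrum.zeroLocus (P.asIdeal : Set L)) ≤ Module.supportDim L (L ⊗[C] M) :=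
      Order.krullDim_le_of_strictMono (fun x => (⟨x.1, Module.mem_support_mono (show P ≤ x.1 from x.2) hP⟩ :
        Module.support L (L ⊗[C] M))) fun _ _ hlt => hlt
    rw [← ringKrullDim_quotient, he, hb] at h1
    have h3 : e ≤ b := by exact_mod_cast h1
    have h4 : j ≤ δp := by rw [hδp] at hj; exact_mod_cast hj
    omega

include k in
theorem dim_quotient_lt {p : Ideal C} [p.IsPrime] (hlt : p < Q) :
    ∃ δp δq : ℕ, ringKrullDim (C ⧸ p) = (δp : WithBot ℕ∞) ∧ ringKrullDim (C ⧸ Q) = (δq : WithBot ℕ∞) ∧ δq < δp := by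
  obtain ⟨e, δp, δq, he, hp, hq, h⟩ := dim_quotient k Q (Localization.AtPrime Q) hlt.le
  refine ⟨δp, δq, hp, hq, ?_⟩
  by_contra hle
  have he0 : e = 0 := by omega
  subst he0
  let L := Localization.AtPrime Q
  haveI := IsLocalization.isPrime_of_isPrime_disjoint Q.primeCompl L p ‹_›
    (Set.disjoint_left.2 fun x hx hxp => hx (hlt.le hxp))
  haveI : Ring.KrullDimLE 0 (L ⧸ p.map (algebraMap C L)) := Ring.krullDimLE_iff.2 he.le
  have hfield : IsField (L ⧸ p.map (algebraMap C L)) := Ring.KrullDimLE.isField_of_isDomain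
  have hmax := Ideal.Quotient.maximal_of_isField _ hfield
  have hc := congrArg (Ideal.comap (algebraMap C L)) (IsLocalRing.eq_maximalIdeal hmax)
  rw [← Ideal.under_def, IsLocalization.under_map_of_isPrime_disjoint Q.primeCompl L ‹_›
    (Set.disjoint_left.2 fun x hx hxp => hx (hlt.le hxp)), ← Ideal.under_def,
    IsLocalization.AtPrime.under_maximalIdeal L Q] at hc
  exact hlt.ne hc

include k in
/-- Equidimensionality of the localised module. -/
theorem isEquidim_iff_field [IsLocalRing L] {δ b : ℕ} (hδ : ringKrullDim (C ⧸ Q) = (δ : WithBot ℕ∞))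
    (hb : Module.supportDim L (L ⊗[C] M) = (b : WithBot ℕ∞)) :
    EGA4.IsEquidimModule L (L ⊗[C] M) ↔ ∀ p ∈ Module.support C M, p.asIdeal ≤ Q →
      (∀ p' ∈ Module.support C M, p'.asIdeal ≤ p.asIdeal → p' = p) →
      ringKrullDim (C ⧸ p.asIdeal) = ((b + δ : ℕ) : WithBot ℕ∞) := by
  haveI : Module.Finite L (L ⊗[C] M) := inferInstance
  have hsupp : ∀ P : PrimeSpectrum L, Module.annihilator L (L ⊗[C] M) ≤ P.asIdeal ↔
      PrimeSpectrum.comap (algebraMap C L) P ∈ Module.support C M := fun P => by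
    rw [← mem_support_localization Q L M P, Module.mem_support_iff_of_finite]
  have hle : ∀ P : PrimeSpectrum L, (PrimeSpectrum.comap (algebraMap C L) P).asIdeal ≤ Q := fun P =>
    (Ideal.comap_mono (IsLocalRing.le_maximalIdeal P.isPrime.ne_top)).trans
      (le_of_eq (IsLocalization.AtPrime.under_maximalIdeal L Q))
  constructor
  · intro h p hp hpQ hmin
    have hdisj : Disjoint (Q.primeCompl : Set C) (p.asIdeal : Set C) :=
      Set.disjoint_left.2 fun x hx hxp => hx (hpQ hxp)
    haveI := IsLocalization.isPrime_of_isPrime_disjoint Q.primeCompl L p.asIdeal p.isPrime hdisj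
    let P : PrimeSpectrum L := ⟨p.asIdeal.map (algebraMap C L), inferInstance⟩
    have hP : PrimeSpectrum.comap (algebraMap C L) P = p :=
      PrimeSpectrum.ext (IsLocalization.under_map_of_isPrime_disjoint Q.primeCompl L p.isPrime hdisj)
    have hPmin : P.asIdeal ∈ (Module.annihilator L (L ⊗[C] M)).minimalPrimes := by
      refine ⟨⟨P.isPrime, (hsupp P).2 (hP.symm ▸ hp)⟩, fun I hI hIP => ?_⟩
      have h1 := hmin _ ((hsupp ⟨I, hI.1⟩).1 hI.2) ((Ideal.comap_mono hIP).trans
        (le_of_eq (congrArg PrimeSpectrum.asIdeal hP)))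
      have h2 : (⟨I, hI.1⟩ : PrimeSpectrum L) = P :=
        PrimeSpectrum.localization_comap_injective L Q.primeCompl (h1.trans hP.symm)
      exact (congrArg PrimeSpectrum.asIdeal h2).ge
    obtain ⟨e, δp, δq, he, hδp, hδq, heq⟩ := dim_quotient k Q L (p := p.asIdeal) hpQ
    have h2 : δq = δ := by rw [hδ] at hδq; exact_mod_cast hδq.symm
    have h3 : e = b := by
      have h4 := h _ hPmin
      rw [hb, show P.asIdeal = p.asIdeal.map (algebraMap C L) from rfl, he] at h4
      exact_mod_cast h4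
    rw [hδp]
    exact_mod_cast (show δp = b + δ by omega)
  · intro h I hI
    haveI := hI.1.1
    let P : PrimeSpectrum L := ⟨I, hI.1.1⟩
    haveI := (PrimeSpectrum.comap (algebraMap C L) P).isPrime
    obtain ⟨e, δp, δq, he, hδp, hδq, heq⟩ := dim_quotient k Q L (hle P)
    have h2 : δq = δ := by rw [hδ] at hδq; exact_mod_cast hδq.symm
    have hmap : (PrimeSpectrum.comap (algebraMap C L) P).asIdeal.map (algebraMap C L) = I :=
      IsLocalization.map_comap Q.primeCompl L I
    rw [hmap] at he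
    have h3 := h _ ((hsupp P).1 hI.1.2) (hle P) fun p' hp' hp'P => by
      have hdisj : Disjoint (Q.primeCompl : Set C) (p'.asIdeal : Set C) :=
        Set.disjoint_left.2 fun x hx hxp => hx ((hp'P.trans (hle P)) hxp)
      haveI := IsLocalization.isPrime_of_isPrime_disjoint Q.primeCompl L p'.asIdeal p'.isPrime hdisj
      let P' : PrimeSpectrum L := ⟨p'.asIdeal.map (algebraMap C L), inferInstance⟩
      have hP' : PrimeSpectrum.comap (algebraMap C L) P' = p' :=
        PrimeSpectrum.ext (IsLocalization.under_map_of_isPrime_disjoint Q.primeCompl L p'.isPrime hdisj)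
      have h5 : P'.asIdeal ≤ I := hmap ▸ Ideal.map_mono hp'P
      have h6 : P' = P := PrimeSpectrum.ext (le_antisymm h5 (hI.2 ⟨P'.isPrime, (hsupp P').2 (hP'.symm ▸ hp')⟩ h5))
      rw [← hP', h6]
    rw [hδp] at h3
    rw [he, hb]
    have h7 : δp = b + δ := by exact_mod_cast h3
    exact_mod_cast (show e = b by omega)

end L02.FibDepth
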