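import Groth.Agent.L02.FibDepth.Semi
import Groth.Agent.L02.FibDepth.Field
import Groth.Agent.L15.FibrePdSemi
import Groth.Agent.L22.SchemeDim
import Groth.Agent.L07.FibreDimSemi
import Groth.Agent.L22.FibreSemicont
import Groth.Agent.S6285
import Mathlib.RingTheory.RegularLocalRing.Polynomial

/-! Depth and dimension of the local fibres of a module over a polynomial algebra. -/

set_option autoImplicit false
set_option linter.style.haveILetI false
set_option maxSynthPendingDepth 3
universe u

open CategoryTheory IsLocalRing TensorProduct Topology PrimeSpectrum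
open Groth.L15.FibrePdSemi

namespace L02.FibDepth

theorem subsingleton_D {A B : Type u} [CommRing A] [CommRing B] [Algebra A B] (q : Ideal B) [q.IsPrime]
    (M : Type u) [AddCommGroup M] [Module B M] [Module.Finite B M] :
    Subsingleton (D (A := A) q ⊗[B] M) ↔ (⟨q, inferInstance⟩ : PrimeSpectrum B) ∉ Module.support B M := by
  let Bq := Localization.AtPrime q
  let e := AlgebraTensorModule.cancelBaseChange B Bq (D (A := A) q) (D (A := A) q) M
  constructor
  · intro h
    rw [Module.mem_support_iff_nontrivial_residueField_tensorProduct, not_nontrivial_iff_subsingleton]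
    let φ : D (A := A) q →+* q.ResidueField := Ideal.Quotient.lift _ (residue Bq) fun x hx =>
      (residue_eq_zero_iff x).2 (map_le q hx)
    letI := φ.toAlgebra
    haveI : IsScalarTower B (D (A := A) q) q.ResidueField := IsScalarTower.of_algebraMap_eq fun b => rfl
    exact (AlgebraTensorModule.cancelBaseChange B (D (A := A) q) q.ResidueField q.ResidueField M).symm.toEquiv.subsingleton
  · intro h
    rw [Module.mem_support_iff, not_nontrivial_iff_subsingleton] at h
    haveI : Subsingleton (Bq ⊗[B] M) :=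
      (IsLocalizedModule.isBaseChange q.primeCompl Bq (LocalizedModule.mkLinearMap q.primeCompl M)).equiv.toEquiv.subsingleton
    exact e.symm.toEquiv.subsingleton

theorem flat_loc {R B : Type u} [CommRing R] [CommRing B] [Algebra R B] (T : Submonoid B) (M : Type u)
    [AddCommGroup M] [Module B M] [Module R M] [IsScalarTower R B M] [Module.Flat R M] :
    Module.Flat R (LocalizedModule T M) :=
  Groth.L20.flat_localizedModule_of_forall T fun J z hz => ⟨1, T.one_mem, by
    rw [one_smul]
    exact (injective_iff_map_eq_zero _).1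
      (Module.Flat.lTensor_preserves_injective_linearMap (M := M) J.subtype Subtype.val_injective) z hz⟩

theorem exists_support_over {R B : Type u} [CommRing R] [CommRing B] [Algebra R B] (M : Type u)
    [AddCommGroup M] [Module B M] [Module R M] [IsScalarTower R B M] [Module.Finite B M] (y : PrimeSpectrum R)
    [Nontrivial (y.asIdeal.ResidueField ⊗[R] M)] :
    ∃ q ∈ Module.support B M, comap (algebraMap R B) q = y := by
  let C := B ⊗[R] y.asIdeal.ResidueField
  let e : M ⊗[B] C ≃ₗ[B] M ⊗[R] y.asIdeal.ResidueField :=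
    AlgebraTensorModule.cancelBaseChange R B B M y.asIdeal.ResidueField
  haveI : Nontrivial (C ⊗[B] M) :=
    ((TensorProduct.comm B C M).toEquiv.trans (e.toEquiv.trans
      (TensorProduct.comm R M y.asIdeal.ResidueField).toEquiv)).nontrivial
  obtain ⟨c, hc⟩ := Module.nonempty_support_of_nontrivial (R := C) (M := C ⊗[B] M)
  refine ⟨comap (algebraMap B C) c, ?_, ?_⟩
  · rw [Module.mem_support_iff_of_finite]
    intro b hb
    refine Module.annihilator_le_of_mem_support hc ?_
    rw [Module.mem_annihilator] at hb ⊢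
    intro m
    induction m using TensorProduct.induction_on with
    | zero => rw [smul_zero]
    | tmul x m =>
      rw [algebraMap_smul, ← TensorProduct.tmul_smul, hb, TensorProduct.tmul_zero]
    | add x m hx hm => rw [smul_add, hx, hm, add_zero]
  · refine PrimeSpectrum.ext (Ideal.ext fun r => ?_)
    show algebraMap B C (algebraMap R B r) ∈ c.asIdeal ↔ r ∈ y.asIdeal
    rw [← IsScalarTower.algebraMap_apply, ← Ideal.algebraMap_residueField_eq_zero (I := y.asIdeal)]
    have h : algebraMap R C r =
        (Algebra.TensorProduct.includeRight : y.asIdeal.ResidueField →ₐ[R] C) (algebraMap R _ r) :=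
      ((Algebra.TensorProduct.includeRight : y.asIdeal.ResidueField →ₐ[R] C).commutes r).symm
    rw [h]
    refine ⟨fun hr => ?_, fun hr => by rw [hr, map_zero]; exact zero_mem _⟩
    by_contra hne
    exact c.isPrime.ne_top (Ideal.eq_top_of_isUnit_mem _ hr ((isUnit_iff_ne_zero.2 hne).map _))

variable (A : Type u) [CommRing A] (d : ℕ)

/-- The polynomial algebra. -/
abbrev P : Type u := MvPolynomial (Fin d) A

/-- The fibre ring. -/
abbrev Fib (p : Ideal A) [p.IsPrime] : Type u := P A d ⊗[A] p.ResidueField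

/-- The dimension of the closure of a point in its fibre. -/
noncomputable def delta (q : PrimeSpectrum (P A d)) : WithBot ℕ∞ :=
  topologicalKrullDim ↥(closure {q} ∩ comap (algebraMap A (P A d)) ⁻¹' {comap (algebraMap A (P A d)) q})

variable {A d}

/-- The fibre ring as a polynomial ring over the residue field. -/
noncomputable def fibEquiv (p : Ideal A) [p.IsPrime] : Fib A d p ≃+* MvPolynomial (Fin d) p.ResidueField :=
  (Algebra.TensorProduct.comm A (P A d) p.ResidueField).toRingEquiv.trans
    (MvPolynomial.algebraTensorAlgEquiv A p.ResidueField).toRingEquiv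

/-- The fibre ring as an algebra over the residue field. -/
@[reducible] noncomputable def fibAlg (p : Ideal A) [p.IsPrime] : Algebra p.ResidueField (Fib A d p) :=
  ((fibEquiv p).symm.toRingHom.comp MvPolynomial.C).toAlgebra

theorem fib_props (p : Ideal A) [p.IsPrime] :
    IsDomain (Fib A d p) ∧ IsRegularRing (Fib A d p) ∧ ringKrullDim (Fib A d p) = d ∧
      (letI := fibAlg (d := d) p; Algebra.FiniteType p.ResidueField (Fib A d p)) := by
  letI := fibAlg (d := d) p
  refine ⟨(fibEquiv p).toMulEquiv.isDomain _, IsRegularRing.of_ringEquiv (fibEquiv p).symm, ?_, ?_⟩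
  · rw [ringKrullDim_eq_of_ringEquiv (fibEquiv p), MvPolynomial.ringKrullDim_of_isNoetherianRing,
      ringKrullDim_eq_zero_of_isField (Field.toIsField _), zero_add, Nat.card_fin]
  · exact Algebra.FiniteType.equiv (A := MvPolynomial (Fin d) p.ResidueField) inferInstance
      (AlgEquiv.ofRingEquiv (f := (fibEquiv p).symm) fun x => rfl)

/-- The inclusion of the fibre. -/
noncomputable abbrev incl (p : Ideal A) [p.IsPrime] : PrimeSpectrum (Fib A d p) → PrimeSpectrum (P A d) :=
  comap (algebraMap (P A d) (Fib A d p))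

theorem isEmbedding_incl (p : Ideal A) [p.IsPrime] :
    IsEmbedding (incl (d := d) p) ∧
      Set.range (incl (d := d) p) = comap (algebraMap A (P A d)) ⁻¹' {⟨p, inferInstance⟩} := by
  let h := preimageHomeomorphFiber A (P A d) ⟨p, inferInstance⟩
  let c : PrimeSpectrum (Fib A d p) ≃ₜ PrimeSpectrum (p.Fiber (P A d)) :=
    homeomorphOfRingEquiv (Algebra.TensorProduct.comm A (P A d) p.ResidueField).toRingEquiv
  have heq : incl (d := d) p = Subtype.val ∘ h.symm ∘ c := by
    funext Q
    refine PrimeSpectrum.ext (Ideal.ext fun x => ?_)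
    show (algebraMap (P A d) (Fib A d p) x) ∈ Q.asIdeal ↔
      (Algebra.TensorProduct.comm A (P A d) p.ResidueField).symm ((1 : p.ResidueField) ⊗ₜ[A] x) ∈ Q.asIdeal
    rfl
  rw [heq]
  refine ⟨IsEmbedding.subtypeVal.comp (h.symm.isEmbedding.comp c.isEmbedding), ?_⟩
  rw [Set.range_comp, Set.range_comp, c.surjective.range_eq, Set.image_univ, h.symm.surjective.range_eq,
    Set.image_univ, Subtype.range_coe]

theorem exists_incl_eq {p : Ideal A} [p.IsPrime] {z : PrimeSpectrum (P A d)}
    (hz : comap (algebraMap A (P A d)) z = ⟨p, inferInstance⟩) : ∃ Q, incl p Q = z := by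
  have : z ∈ Set.range (incl (d := d) p) := by rw [(isEmbedding_incl p).2]; exact hz
  exact this

theorem comap_incl (p : Ideal A) [p.IsPrime] (Q : PrimeSpectrum (Fib A d p)) :
    comap (algebraMap A (P A d)) (incl p Q) = ⟨p, inferInstance⟩ := by
  have : incl p Q ∈ comap (algebraMap A (P A d)) ⁻¹' {⟨p, inferInstance⟩} := (isEmbedding_incl p).2 ▸ ⟨Q, rfl⟩
  exact this

theorem incl_specializes (p : Ideal A) [p.IsPrime] (Q Q' : PrimeSpectrum (Fib A d p)) :
    incl p Q' ⤳ incl p Q ↔ Q'.asIdeal ≤ Q.asIdeal := by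
  rw [(isEmbedding_incl p).1.isInducing.specializes_iff, ← le_iff_specializes]
  rfl

theorem delta_eq (p : Ideal A) [p.IsPrime] (Q : PrimeSpectrum (Fib A d p)) :
    delta A d (incl p Q) = ringKrullDim (Fib A d p ⧸ Q.asIdeal) := by
  have he := (isEmbedding_incl (d := d) p).1
  have hS : closure {incl p Q} ∩ comap (algebraMap A (P A d)) ⁻¹' {comap (algebraMap A (P A d)) (incl p Q)} =
      incl p '' closure {Q} := by
    rw [comap_incl, ← (isEmbedding_incl p).2, he.closure_eq_preimage_closure_image, Set.image_singleton,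
      Set.image_preimage_eq_inter_range]
  have h1 : topologicalKrullDim ↥(incl p '' closure {Q}) = topologicalKrullDim ↥(closure {Q}) :=
    Groth.L22.SchemeDim.topologicalKrullDim_eq_of_isEmbedding (he.comp IsEmbedding.subtypeVal)
      (by rw [Set.range_comp, Subtype.range_coe])
  have h2 : topologicalKrullDim ↥(closure {Q}) = topologicalKrullDim (PrimeSpectrum (Fib A d p ⧸ Q.asIdeal)) :=
    Groth.L22.SchemeDim.topologicalKrullDim_eq_of_isEmbedding
      (isClosedEmbedding_comap_of_surjective _ _ Ideal.Quotient.mk_surjective).isEmbedding (by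
        rw [range_comap_of_surjective _ _ Ideal.Quotient.mk_surjective, Ideal.mk_ker,
          PrimeSpectrum.closure_singleton])
  rw [delta, hS, h1, h2, PrimeSpectrum.topologicalKrullDim_eq_ringKrullDim]

variable (M : Type u) [AddCommGroup M] [Module (P A d) M]

/-- Any localisation of the fibre ring gives the invariants of the point. -/
theorem semi_loc (p : Ideal A) [p.IsPrime] (Q : PrimeSpectrum (Fib A d p)) (z : PrimeSpectrum (P A d))
    (hz : incl p Q = z) (L : Type u) [CommRing L] [Algebra (Fib A d p) L] [IsLocalization.AtPrime L Q.asIdeal]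
    [Algebra (P A d) L] [IsScalarTower (P A d) (Fib A d p) L] :
    Nonempty (Semi (D (A := A) z.asIdeal) (D (A := A) z.asIdeal ⊗[P A d] M) L (L ⊗[P A d] M)) := by
  obtain rfl : p = z.asIdeal.under A := by
    rw [← hz]; exact (congrArg PrimeSpectrum.asIdeal (comap_incl p Q)).symm
  haveI : IsLocalization.AtPrime L (q' (A := A) z.asIdeal) := by
    have h : (⟨q' (A := A) z.asIdeal, inferInstance⟩ : PrimeSpectrum (Fib A d _)) = Q :=
      (isEmbedding_incl _).1.injective ((PrimeSpectrum.ext (comap_q' (A := A) z.asIdeal)).trans hz.symm)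
    have h' : q' (A := A) z.asIdeal = Q.asIdeal := congrArg PrimeSpectrum.asIdeal h
    show IsLocalization (q' (A := A) z.asIdeal).primeCompl L
    have h'' : (q' (A := A) z.asIdeal).primeCompl = Q.asIdeal.primeCompl :=
      SetLike.ext fun x => by show x ∉ q' (A := A) z.asIdeal ↔ x ∉ Q.asIdeal; rw [h']
    rw [h'']
    infer_instance
  let ε : D (A := A) z.asIdeal ≃ₐ[Fib A d _] L :=
    IsLocalization.algEquiv (q' (A := A) z.asIdeal).primeCompl _ _
  exact ⟨{ φ := ε.toRingEquiv.toRingHom
           surj := ε.surjective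
           e := (TensorProduct.congr (ε.toLinearEquiv.restrictScalars (P A d)) (LinearEquiv.refl _ M)).toAddEquiv
           map_smul := fun r m => by
            induction m using TensorProduct.induction_on with
            | zero => simp
            | tmul x y =>
              show (TensorProduct.congr _ _) ((r * x) ⊗ₜ y) = (ε r) • _
              simp [TensorProduct.smul_tmul']
            | add x y hx hy =>
              rw [smul_add, map_add, map_add, hx, hy, smul_add] }⟩

theorem mem_support_iff [Module.Finite (P A d) M] (p : Ideal A) [p.IsPrime] (Q : PrimeSpectrum (Fib A d p)) :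
    Q ∈ Module.support (Fib A d p) (Fib A d p ⊗[P A d] M) ↔ incl p Q ∈ Module.support (P A d) M := by
  let L := Localization.AtPrime Q.asIdeal
  obtain ⟨i1, i2, -, i4⟩ := fib_props (A := A) (d := d) p
  letI := fibAlg (d := d) p
  obtain ⟨E⟩ := semi_loc M p Q _ rfl L
  have h1 := subsingleton_D (A := A) (incl p Q).asIdeal M
  rw [E.e.toEquiv.subsingleton_congr,
    (AlgebraTensorModule.cancelBaseChange (P A d) (Fib A d p) L L M).symm.toEquiv.subsingleton_congr] at h1
  rw [← not_iff_not, ← h1]
  let m : PrimeSpectrum L := ⟨maximalIdeal L, inferInstance⟩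
  have hm : comap (algebraMap (Fib A d p) L) m = Q :=
    PrimeSpectrum.ext (IsLocalization.AtPrime.comap_maximalIdeal L Q.asIdeal)
  have h2 := mem_support_localization Q.asIdeal L (Fib A d p ⊗[P A d] M) m
  rw [hm] at h2
  rw [← h2]
  constructor
  · intro h
    by_contra hn
    haveI := not_subsingleton_iff_nontrivial.1 hn
    obtain ⟨𝔭, h𝔭⟩ := Module.nonempty_support_of_nontrivial (R := L) (M := L ⊗[Fib A d p] (Fib A d p ⊗[P A d] M))
    exact h (Module.mem_support_mono (IsLocalRing.le_maximalIdeal 𝔭.isPrime.ne_top) h𝔭)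
  · intro h hm'
    haveI := h
    rw [Module.support_eq_empty (R := L)] at hm'
    exact hm'

/-- The depth of the local fibre. -/
noncomputable def dep (q : PrimeSpectrum (P A d)) : ℕ∞ :=
  LocCoh.depth (D (A := A) q.asIdeal) (D (A := A) q.asIdeal ⊗[P A d] M)

/-- The support dimension of the local fibre. -/
noncomputable def sdim (q : PrimeSpectrum (P A d)) : WithBot ℕ∞ :=
  Module.supportDim (D (A := A) q.asIdeal) (D (A := A) q.asIdeal ⊗[P A d] M)

variable {M}

theorem point [Module.Finite (P A d) M] {q : PrimeSpectrum (P A d)} (hq : q ∈ Module.support (P A d) M) :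
    ∃ δ a b : ℕ, delta A d q = (δ : WithBot ℕ∞) ∧ dep M q = (a : ℕ∞) ∧ sdim M q = (b : WithBot ℕ∞) ∧
      a + δ ≤ d ∧ a ≤ b ∧
      (∀ t : ℕ, HasProjectiveDimensionLT
        (ModuleCat.of (D (A := A) q.asIdeal) (D (A := A) q.asIdeal ⊗[P A d] M)) t ↔ d < t + a + δ) ∧
      (∀ j : ℕ, j ≤ b + δ ↔ ∃ z ∈ Module.support (P A d) M, z ⤳ q ∧
        comap (algebraMap A (P A d)) z = comap (algebraMap A (P A d)) q ∧ (j : WithBot ℕ∞) ≤ delta A d z) := by
  let p := q.asIdeal.under A
  obtain ⟨h1, h2, h3, h4⟩ := fib_props (A := A) (d := d) p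
  letI := fibAlg (d := d) p
  let Q : PrimeSpectrum (Fib A d p) := ⟨q' (A := A) q.asIdeal, inferInstance⟩
  have hQ : incl p Q = q := PrimeSpectrum.ext (comap_q' (A := A) q.asIdeal)
  let L := D (A := A) q.asIdeal
  let e : L ⊗[Fib A d p] (Fib A d p ⊗[P A d] M) ≃ₗ[L] L ⊗[P A d] M :=
    AlgebraTensorModule.cancelBaseChange (P A d) (Fib A d p) L L M
  haveI : Module.Finite (Fib A d p) (Fib A d p ⊗[P A d] M) := inferInstance
  have hsp : ∀ P', incl p P' ⤳ q ↔ P'.asIdeal ≤ Q.asIdeal := fun P' => by
    have h := incl_specializes p Q P'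
    have e : (incl p P' ⤳ incl p Q) = (incl p P' ⤳ q) := congrArg (incl p P' ⤳ ·) hQ
    exact ⟨fun h' => h.1 (e.mpr h'), fun h' => e.mp (h.2 h')⟩
  obtain ⟨δ, a, b, hδ, had, ha, hb, hab, hpd, hj⟩ := invariants p.ResidueField h3 Q.asIdeal L
    (Fib A d p ⊗[P A d] M) ((mem_support_iff M p Q).2 (hQ.symm ▸ hq))
  refine ⟨δ, a, b, ?_, ?_, ?_, had, hab, fun t => ?_, fun j => ?_⟩
  · rw [← hQ, delta_eq, hδ]
  · rw [← ha]; exact (Groth.L04.idealDepth_congr e).symm
  · rw [← hb]; exact (Module.supportDim_eq_of_equiv e).symm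
  · rw [← hpd t]
    exact ⟨fun h => hasProjectiveDimensionLT_of_iso e.symm.toModuleIso t,
      fun h => hasProjectiveDimensionLT_of_iso e.toModuleIso t⟩
  · rw [hj j]
    constructor
    · rintro ⟨P', hP', hle, hjd⟩
      refine ⟨incl p P', (mem_support_iff M p P').1 hP', ?_, ?_, ?_⟩
      · exact (hsp P').2 hle
      · rw [comap_incl]; rfl
      · rw [delta_eq]; exact hjd
    · rintro ⟨z, hz, hzq, hzp, hjd⟩
      obtain ⟨P', rfl⟩ := exists_incl_eq (p := p) (z := z) hzp
      refine ⟨P', (mem_support_iff M p P').2 hz, ?_, ?_⟩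
      · exact (hsp P').1 hzq
      · rwa [delta_eq] at hjd

theorem isOpen_pdLT [Module A M] [IsScalarTower A (P A d) M] [Module.FinitePresentation (P A d) M]
    [Module.Flat A M] (t : ℕ) :
    IsOpen {q : PrimeSpectrum (P A d) | HasProjectiveDimensionLT
      (ModuleCat.of (D (A := A) q.asIdeal) (D (A := A) q.asIdeal ⊗[P A d] M)) t} := by
  cases t with
  | zero =>
    convert (Module.isClosed_support (R := P A d) (M := M)).isOpen_compl using 1
    ext q
    rw [Set.mem_setOf_eq, hasProjectiveDimensionLT_zero_iff_isZero, ModuleCat.isZero_iff_subsingleton]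
    exact subsingleton_D q.asIdeal M
  | succ t =>
    convert Module.isOpen_freeLocus (R := P A d)
      (M := (Groth.L07.SyzygyRes.syz A (P A d) M t).K) using 1
    ext q
    exact pdLT_iff_free q.asIdeal M t

theorem hasSk_iff [Module.Finite (P A d) M] (q : PrimeSpectrum (P A d)) (k : ℕ) :
    LocCoh.HasSk k (D (A := A) q.asIdeal) (D (A := A) q.asIdeal ⊗[P A d] M) ↔
      ∀ z ∈ Module.support (P A d) M, z ⤳ q →
        comap (algebraMap A (P A d)) z = comap (algebraMap A (P A d)) q →
        min (k : WithBot ℕ∞) (sdim M z) ≤ ((dep M z : ℕ∞) : WithBot ℕ∞) := by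
  let p := q.asIdeal.under A
  let Q : PrimeSpectrum (Fib A d p) := ⟨q' (A := A) q.asIdeal, inferInstance⟩
  have hQ : incl p Q = q := PrimeSpectrum.ext (comap_q' (A := A) q.asIdeal)
  let L := D (A := A) q.asIdeal
  let N := L ⊗[P A d] M
  let f : ∀ (𝔭 : Ideal L) [𝔭.IsPrime], ∀ z, incl p ⟨𝔭.comap (algebraMap (Fib A d p) L), inferInstance⟩ = z →
      (Module.supportDim (Localization.AtPrime 𝔭) (LocalizedModule 𝔭.primeCompl N) = sdim M z ∧
        LocCoh.depth (Localization.AtPrime 𝔭) (LocalizedModule 𝔭.primeCompl N) = dep M z ∧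
        (Subsingleton (LocalizedModule 𝔭.primeCompl N) ↔ z ∉ Module.support (P A d) M)) := by
    intro 𝔭 _ z hz
    let L' := Localization.AtPrime 𝔭
    haveI : IsLocalization.AtPrime L' (𝔭.comap (algebraMap (Fib A d p) L)) :=
      IsLocalization.isLocalization_isLocalization_atPrime_isLocalization (q' (A := A) q.asIdeal).primeCompl L' 𝔭
    obtain ⟨E⟩ := semi_loc M p ⟨𝔭.comap (algebraMap (Fib A d p) L), inferInstance⟩ z hz L'
    let e : LocalizedModule 𝔭.primeCompl N ≃ₗ[L'] L' ⊗[P A d] M :=
      (IsLocalizedModule.isBaseChange 𝔭.primeCompl L' (LocalizedModule.mkLinearMap 𝔭.primeCompl N)).equiv.symm ≪≫ₗ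
        AlgebraTensorModule.cancelBaseChange (P A d) L L' L' M
    refine ⟨?_, ?_, ?_⟩
    · rw [sdim, Module.supportDim_eq_of_equiv e, E.supportDim_eq]
    · rw [dep, E.depth_eq]; exact Groth.L04.idealDepth_congr e
    · rw [e.toEquiv.subsingleton_congr, ← E.e.toEquiv.subsingleton_congr]
      exact subsingleton_D z.asIdeal M
  have hsp : ∀ P', incl p P' ⤳ q ↔ P'.asIdeal ≤ Q.asIdeal := fun P' => by
    have h := incl_specializes p Q P'
    have e : (incl p P' ⤳ incl p Q) = (incl p P' ⤳ q) := congrArg (incl p P' ⤳ ·) hQ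
    exact ⟨fun h' => h.1 (e.mpr h'), fun h' => e.mp (h.2 h')⟩
  constructor
  · intro h z hz hzq hzp
    obtain ⟨P', rfl⟩ := exists_incl_eq (p := p) (z := z) hzp
    have hle : P'.asIdeal ≤ Q.asIdeal := (hsp P').1 hzq
    have hdisj : Disjoint (Q.asIdeal.primeCompl : Set (Fib A d p)) (P'.asIdeal : Set (Fib A d p)) :=
      Set.disjoint_left.2 fun x hx hxp => hx (hle hxp)
    haveI := IsLocalization.isPrime_of_isPrime_disjoint Q.asIdeal.primeCompl L P'.asIdeal P'.isPrime hdisj
    obtain ⟨e1, e2, -⟩ := f (P'.asIdeal.map (algebraMap (Fib A d p) L)) (incl p P') (congrArg (incl p)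
      (PrimeSpectrum.ext (IsLocalization.comap_map_of_isPrime_disjoint Q.asIdeal.primeCompl L P'.isPrime hdisj)))
    rw [← e1, ← e2]
    exact h _
  · intro h 𝔭 _
    obtain ⟨e1, e2, e3⟩ := f 𝔭 _ rfl
    by_cases hz : incl p ⟨𝔭.comap (algebraMap (Fib A d p) L), inferInstance⟩ ∈ Module.support (P A d) M
    · rw [e1, e2]
      refine h _ hz ?_ ?_
      · refine (hsp _).2 ?_
        exact Ideal.comap_mono (IsLocalRing.le_maximalIdeal ‹𝔭.IsPrime›.ne_top)
      · rw [comap_incl]; rfl
    · haveI := e3.2 hz
      rw [Module.supportDim_eq_bot_of_subsingleton]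
      exact (min_le_right _ _).trans bot_le

omit [AddCommGroup M] [Module (P A d) M] in
theorem delta_nat (q : PrimeSpectrum (P A d)) : ∃ δ : ℕ, delta A d q = (δ : WithBot ℕ∞) ∧ δ ≤ d := by
  let p := q.asIdeal.under A
  obtain ⟨i1, i2, h3, i4⟩ := fib_props (A := A) (d := d) p
  letI := fibAlg (d := d) p
  obtain ⟨Q, hQ⟩ := exists_incl_eq (p := p) (z := q) rfl
  obtain ⟨h, δ, -, hδ, hsum⟩ := dim_localization p.ResidueField h3 Q.asIdeal (Localization.AtPrime Q.asIdeal)
  exact ⟨δ, (congrArg (delta A d) hQ).symm.trans ((delta_eq p Q).trans hδ), by omega⟩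

omit [AddCommGroup M] [Module (P A d) M] in
theorem delta_lt {z q : PrimeSpectrum (P A d)} (hzq : z ⤳ q)
    (hp : comap (algebraMap A (P A d)) z = comap (algebraMap A (P A d)) q) (hne : z ≠ q) :
    delta A d q < delta A d z := by
  let p := q.asIdeal.under A
  obtain ⟨i1, i2, h3, i4⟩ := fib_props (A := A) (d := d) p
  letI := fibAlg (d := d) p
  obtain ⟨Q, hQ⟩ := exists_incl_eq (p := p) (z := q) rfl
  obtain ⟨Z, rfl⟩ := exists_incl_eq (p := p) (z := z) hp
  have hle : Z.asIdeal ≤ Q.asIdeal := (incl_specializes p Q Z).1 ((congrArg (incl p Z ⤳ ·) hQ).mpr hzq)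
  have hlt : Z.asIdeal < Q.asIdeal :=
    lt_of_le_of_ne hle fun h => hne ((congrArg (incl p) (PrimeSpectrum.ext h)).trans hQ)
  obtain ⟨δp, δq, h1, h2, h⟩ := dim_quotient_lt p.ResidueField Q.asIdeal hlt
  have e : delta A d q = ringKrullDim (Fib A d p ⧸ Q.asIdeal) :=
    (congrArg (delta A d) hQ).symm.trans (delta_eq p Q)
  rw [e, delta_eq, h1, h2]
  exact_mod_cast h

theorem isEquidim_iff [Module.Finite (P A d) M] {q : PrimeSpectrum (P A d)} {δ b : ℕ}
    (hδ : delta A d q = (δ : WithBot ℕ∞)) (hb : sdim M q = (b : WithBot ℕ∞)) :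
    EGA4.IsEquidimModule (D (A := A) q.asIdeal) (D (A := A) q.asIdeal ⊗[P A d] M) ↔
      ∀ z ∈ Module.support (P A d) M, z ⤳ q → comap (algebraMap A (P A d)) z = comap (algebraMap A (P A d)) q →
        (∀ z' ∈ Module.support (P A d) M, z' ⤳ z →
          comap (algebraMap A (P A d)) z' = comap (algebraMap A (P A d)) z → z' = z) →
        delta A d z = ((b + δ : ℕ) : WithBot ℕ∞) := by
  let p := q.asIdeal.under A
  obtain ⟨h1, h2, h3, h4⟩ := fib_props (A := A) (d := d) p
  letI := fibAlg (d := d) p
  let Q : PrimeSpectrum (Fib A d p) := ⟨q' (A := A) q.asIdeal, inferInstance⟩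
  have hQ : incl p Q = q := PrimeSpectrum.ext (comap_q' (A := A) q.asIdeal)
  let L := D (A := A) q.asIdeal
  let e : L ⊗[Fib A d p] (Fib A d p ⊗[P A d] M) ≃ₗ[L] L ⊗[P A d] M :=
    AlgebraTensorModule.cancelBaseChange (P A d) (Fib A d p) L L M
  let E : Semi L (L ⊗[Fib A d p] (Fib A d p ⊗[P A d] M)) L (L ⊗[P A d] M) :=
    { φ := RingHom.id L
      surj := Function.surjective_id
      e := e.toAddEquiv
      map_smul := fun r m => e.map_smul r m }
  have hδQ : ringKrullDim (Fib A d p ⧸ Q.asIdeal) = (δ : WithBot ℕ∞) :=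
    ((congrArg (delta A d) hQ).symm.trans (delta_eq p Q)).symm.trans hδ
  have hbQ : Module.supportDim L (L ⊗[Fib A d p] (Fib A d p ⊗[P A d] M)) = (b : WithBot ℕ∞) :=
    (Module.supportDim_eq_of_equiv e).trans hb
  rw [← E.isEquidimModule_iff, L02.FibDepth.isEquidim_iff_field p.ResidueField Q.asIdeal L (Fib A d p ⊗[P A d] M) hδQ hbQ]
  have hsp : ∀ P', incl p P' ⤳ q ↔ P'.asIdeal ≤ Q.asIdeal := fun P' => by
    have h := incl_specializes p Q P'
    have e : (incl p P' ⤳ incl p Q) = (incl p P' ⤳ q) := congrArg (incl p P' ⤳ ·) hQ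
    exact ⟨fun h' => h.1 (e.mpr h'), fun h' => e.mp (h.2 h')⟩
  constructor
  · intro h z hz hzq hzp hmin
    obtain ⟨P', rfl⟩ := exists_incl_eq (p := p) (z := z) hzp
    rw [delta_eq]
    refine h P' ((mem_support_iff M p P').2 hz) ((hsp P').1 hzq) fun P'' hP'' hle => ?_
    exact (isEmbedding_incl p).1.injective (hmin _ ((mem_support_iff M p P'').1 hP'')
      ((incl_specializes p P' P'').2 hle) (by rw [comap_incl, comap_incl]))
  · intro h P' hP' hle hmin
    rw [← delta_eq]
    refine h _ ((mem_support_iff M p P').1 hP') ((hsp P').2 hle) (by rw [comap_incl]; rfl) fun z hz hzz hzp => ?_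
    rw [comap_incl] at hzp
    obtain ⟨P'', rfl⟩ := exists_incl_eq (p := p) (z := z) hzp
    rw [hmin P'' ((mem_support_iff M p P'').2 hz) ((incl_specializes p P' P'').1 hzz)]

/-- Lower semicontinuity of depth plus dimension. -/
theorem isOpen_le_dep [Module A M] [IsScalarTower A (P A d) M] [Module.FinitePresentation (P A d) M]
    [Module.Flat A M] (m : ℕ) :
    IsOpen {q : PrimeSpectrum (P A d) | q ∈ Module.support (P A d) M →
      ∀ δ a : ℕ, delta A d q = (δ : WithBot ℕ∞) → dep M q = (a : ℕ∞) → m ≤ a + δ} := by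
  by_cases hm : m ≤ d + 1
  · convert isOpen_pdLT (A := A) (d := d) (M := M) (d + 1 - m) using 1
    ext q
    constructor
    · intro h
      by_cases hq : q ∈ Module.support (P A d) M
      · obtain ⟨δ, a, b, hδ, ha, hb, had, hab, hpd, -⟩ := point hq
        have := h hq δ a hδ ha
        exact (hpd _).2 (by omega)
      · haveI := (subsingleton_D (A := A) q.asIdeal M).2 hq
        haveI : HasProjectiveDimensionLT (ModuleCat.of (D (A := A) q.asIdeal) (D (A := A) q.asIdeal ⊗[P A d] M)) 0 := by
          rw [hasProjectiveDimensionLT_zero_iff_isZero, ModuleCat.isZero_iff_subsingleton]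
          infer_instance
        exact hasProjectiveDimensionLT_of_ge _ 0 _ (Nat.zero_le _)
    · intro h hq δ a hδ ha
      obtain ⟨δ', a', b, hδ', ha', hb, had, hab, hpd, -⟩ := point hq
      rw [hδ] at hδ'
      rw [ha] at ha'
      have e1 : δ = δ' := by exact_mod_cast hδ'
      have e2 : a = a' := by exact_mod_cast ha'
      have := (hpd _).1 h
      omega
  · convert (Module.isClosed_support (R := P A d) (M := M)).isOpen_compl using 1
    ext q
    refine ⟨fun h hq => ?_, fun h hq => absurd hq h⟩
    obtain ⟨δ, a, b, hδ, ha, hb, had, -⟩ := point hq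
    have := h hq δ a hδ ha
    omega

omit [AddCommGroup M] [Module (P A d) M] in
/-- Semicontinuity of the dimension of the fibres of a closed subset. -/
theorem isClosed_LD {W : Set (PrimeSpectrum (P A d))} (hW : IsClosed W) (n : ℕ) :
    IsClosed {q | ∃ z ∈ W, z ⤳ q ∧ comap (algebraMap A (P A d)) z = comap (algebraMap A (P A d)) q ∧
      (n : WithBot ℕ∞) ≤ delta A d z} := by
  cases n with
  | zero =>
    convert hW using 1
    ext q
    refine ⟨fun ⟨z, hz, hzq, _⟩ => hzq.mem_closed hW hz, fun hq => ⟨q, hq, specializes_rfl, rfl, ?_⟩⟩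
    obtain ⟨δ, hδ, -⟩ := delta_nat (A := A) (d := d) q
    rw [hδ]
    exact_mod_cast δ.zero_le
  | succ n =>
    obtain ⟨I, rfl⟩ := (isClosed_iff_zeroLocus_ideal W).1 hW
    let C := P A d ⧸ I
    let f : AlgebraicGeometry.Spec (CommRingCat.of C) ⟶ AlgebraicGeometry.Spec (CommRingCat.of A) :=
      AlgebraicGeometry.Spec.map (CommRingCat.ofHom (algebraMap A C))
    haveI : AlgebraicGeometry.LocallyOfFiniteType f :=
      (AlgebraicGeometry.HasRingHomProperty.Spec_iff (P := @AlgebraicGeometry.LocallyOfFiniteType)).mpr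
        (RingHom.finiteType_algebraMap.mpr inferInstance)
    let j : PrimeSpectrum C → PrimeSpectrum (P A d) := comap (Ideal.Quotient.mk I)
    have hj : IsClosedEmbedding j := isClosedEmbedding_comap_of_surjective _ _ Ideal.Quotient.mk_surjective
    have hrange : Set.range j = zeroLocus (I : Set (P A d)) := by
      rw [range_comap_of_surjective _ _ Ideal.Quotient.mk_surjective, Ideal.mk_ker]
    have hcomp : ∀ w, comap (algebraMap A (P A d)) (j w) = comap (algebraMap A C) w := fun w => rfl
    have hdim : ∀ w, topologicalKrullDim (closure ({w} : Set (PrimeSpectrum C)) ∩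
        comap (algebraMap A C) ⁻¹' {comap (algebraMap A C) w} : Set (PrimeSpectrum C)) = delta A d (j w) := fun w => by
      refine (Groth.L22.SchemeDim.topologicalKrullDim_eq_of_isEmbedding
        (f := fun v : ↥(closure ({w} : Set (PrimeSpectrum C)) ∩
          comap (algebraMap A C) ⁻¹' {comap (algebraMap A C) w} : Set (PrimeSpectrum C)) => j v.1)
        (hj.isEmbedding.comp IsEmbedding.subtypeVal) ?_).symm
      rw [Set.range_comp', Subtype.range_coe, Set.inter_comm]
      show j '' ((comap (algebraMap A (P A d)) ∘ j) ⁻¹' {comap (algebraMap A (P A d)) (j w)} ∩ closure {w}) = _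
      rw [Set.preimage_comp, Set.image_preimage_inter, ← hj.isClosedMap.closure_image_eq_of_continuous hj.continuous {w},
        Set.image_singleton, Set.inter_comm]
    have key : {q | ∃ z ∈ zeroLocus (I : Set (P A d)), z ⤳ q ∧
        comap (algebraMap A (P A d)) z = comap (algebraMap A (P A d)) q ∧ ((n + 1 : ℕ) : WithBot ℕ∞) ≤ delta A d z} =
        j '' {w | FlatMor.fibreDimAt f w ≤ n}ᶜ := by
      ext q
      constructor
      · rintro ⟨z, hz, hzq, hp, hd⟩
        have hq : q ∈ Set.range j := hrange ▸ hzq.mem_closed (isClosed_zeroLocus _) hz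
        obtain ⟨w, rfl⟩ := hq
        obtain ⟨v, rfl⟩ := hrange.ge hz
        refine ⟨w, fun hle => ?_, rfl⟩
        replace hle := (Groth.L22.FibreSemicont.fibreDimAt_eq_iSup f (w : AlgebraicGeometry.Spec (CommRingCat.of C))).ge.trans hle
        have hf : comap (algebraMap A C) v = comap (algebraMap A C) w := (hcomp v).symm.trans (hp.trans (hcomp w))
        have h1 := (le_iSup (fun z : {z : AlgebraicGeometry.Spec (CommRingCat.of C) // z ⤳ w ∧ f z = f w} =>
          topologicalKrullDim (closure ({z.1} : Set _) ∩ f ⁻¹' {f w} : Set _))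
          ⟨v, hj.isEmbedding.isInducing.specializes_iff.1 hzq, hf⟩).trans hle
        have h2 : topologicalKrullDim (closure ({v} : Set (PrimeSpectrum C)) ∩
            comap (algebraMap A C) ⁻¹' {comap (algebraMap A C) w} : Set (PrimeSpectrum C)) ≤ n := h1
        rw [← hf, hdim] at h2
        have h3 := hd.trans h2
        norm_cast at h3
        omega
      · rintro ⟨w, hw, rfl⟩
        replace hw := fun h => hw ((Groth.L22.FibreSemicont.fibreDimAt_eq_iSup f
          (w : AlgebraicGeometry.Spec (CommRingCat.of C))).le.trans h)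
        obtain ⟨⟨v, hvw, hf⟩, hv⟩ := not_forall.1 fun h => hw (iSup_le_iff.2 h)
        change PrimeSpectrum C at v
        have hf' : comap (algebraMap A C) v = comap (algebraMap A C) w := hf
        refine ⟨j v, hrange ▸ ⟨v, rfl⟩, hvw.map hj.continuous, by rw [hcomp, hcomp, hf'], ?_⟩
        have h2 : ¬ topologicalKrullDim (closure ({v} : Set (PrimeSpectrum C)) ∩
            comap (algebraMap A C) ⁻¹' {comap (algebraMap A C) w} : Set (PrimeSpectrum C)) ≤ n := hv
        rw [← hf', hdim] at h2
        obtain ⟨δ, hδ, -⟩ := delta_nat (A := A) (d := d) (j v)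
        rw [hδ] at h2 ⊢
        norm_cast at h2 ⊢
        omega
    rw [key]
    exact hj.isClosedMap _ (Groth.L07.FibreDim.isOpen_fibreDimAt_le f n).isClosed_compl

/-- The image of the support of a flat module of finite presentation is open. -/
theorem isOpen_image_support [Module A M] [IsScalarTower A (P A d) M] [Module.FinitePresentation (P A d) M]
    [Module.Flat A M] {N : Set (PrimeSpectrum (P A d))} (hN : IsOpen N) :
    IsOpen (comap (algebraMap A (P A d)) '' (N ∩ Module.support (P A d) M)) := by
  have hbasic : ∀ g : P A d, IsOpen (comap (algebraMap A (P A d)) '' ((basicOpen g : Set (PrimeSpectrum (P A d))) ∩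
      Module.support (P A d) M)) := fun g => by
    refine isOpen_of_stableUnderGeneralization_of_isConstructible ?_ ?_
    · intro x y hyx hx
      obtain ⟨q, ⟨hqg, hq⟩, rfl⟩ := hx
      haveI : Nontrivial (LocalizedModule q.asIdeal.primeCompl M) := Module.mem_support_iff.1 hq
      let p₀ := (comap (algebraMap A (P A d)) q).asIdeal
      let Aq := Localization.AtPrime p₀
      let Pq := Localization.AtPrime q.asIdeal
      let Mq := LocalizedModule q.asIdeal.primeCompl M
      haveI : Module.Flat A Mq := flat_loc q.asIdeal.primeCompl M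
      letI : Algebra Aq Pq := (Localization.localRingHom p₀ q.asIdeal (algebraMap A (P A d)) rfl).toAlgebra
      haveI : IsScalarTower A Aq Pq := IsScalarTower.of_algebraMap_eq fun a =>
        ((Localization.localRingHom_to_map p₀ q.asIdeal (algebraMap A (P A d)) rfl a).trans
          (IsScalarTower.algebraMap_apply A (P A d) Pq a).symm).symm
      letI : Module Aq Mq := Module.compHom Mq (algebraMap Aq Pq)
      haveI : IsScalarTower Aq Pq Mq := IsScalarTower.of_algebraMap_smul fun _ _ => rfl
      haveI : IsScalarTower A Aq Mq := IsScalarTower.of_algebraMap_smul fun a m => by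
        show algebraMap Aq Pq (algebraMap A Aq a) • m = a • m
        rw [← IsScalarTower.algebraMap_apply, algebraMap_smul]
      haveI : Module.Flat Aq Mq := (Module.flat_iff_of_isLocalization Aq p₀.primeCompl Mq).2 ‹_›
      haveI : IsLocalHom (algebraMap Aq Pq) := Localization.isLocalHom_localRingHom _ _ _ _
      haveI : Module.FaithfullyFlat Aq Mq := by
        refine { submodule_ne_top := fun {m} hm => ?_ }
        rw [IsLocalRing.eq_maximalIdeal hm]
        intro htop
        have h1 : (maximalIdeal Pq) • (⊤ : Submodule Pq Mq) = ⊤ := by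
          rw [eq_top_iff]
          intro x _
          have hx : x ∈ (maximalIdeal Aq) • (⊤ : Submodule Aq Mq) := by rw [htop]; trivial
          induction hx using Submodule.smul_induction_on' with
          | smul r hr y _ =>
            rw [← algebraMap_smul Pq r y]
            exact Submodule.smul_mem_smul (map_nonunit (algebraMap Aq Pq) r hr) trivial
          | add a ha b hb iha ihb => exact add_mem (iha trivial) (ihb trivial)
        have h2 : (⊤ : Submodule Pq Mq) ≤ ⊥ := Submodule.le_of_le_smul_of_le_jacobson_bot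
          Module.Finite.fg_top (IsLocalRing.maximalIdeal_le_jacobson _) (by rw [bot_sup_eq, h1])
        exact not_subsingleton Mq ((Submodule.subsingleton_iff Pq).1
          (subsingleton_of_bot_eq_top (le_bot_iff.1 h2).symm))
      have hy : y.asIdeal ≤ p₀ := (le_iff_specializes y _).2 hyx
      have hdisj : Disjoint (p₀.primeCompl : Set A) (y.asIdeal : Set A) :=
        Set.disjoint_left.2 fun a ha hay => ha (hy hay)
      haveI := IsLocalization.isPrime_of_isPrime_disjoint p₀.primeCompl Aq y.asIdeal y.isPrime hdisj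
      let y' : PrimeSpectrum Aq := ⟨y.asIdeal.map (algebraMap A Aq), inferInstance⟩
      haveI : Nontrivial (y'.asIdeal.ResidueField ⊗[Aq] Mq) :=
        Module.FaithfullyFlat.rTensor_nontrivial Aq Mq y'.asIdeal.ResidueField
      obtain ⟨q₁, hq₁⟩ : ∃ q₁ : PrimeSpectrum Pq, q₁ ∈ Module.support Pq Mq ∧ comap (algebraMap Aq Pq) q₁ = y' :=
        exists_support_over Mq y'
      refine ⟨comap (algebraMap (P A d) Pq) q₁, ⟨?_, ?_⟩, ?_⟩
      · intro hg
        exact hqg ((le_of_eq (IsLocalization.AtPrime.under_maximalIdeal Pq q.asIdeal)) (IsLocalRing.le_maximalIdeal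
          q₁.isPrime.ne_top hg))
      · rw [Module.mem_support_iff_of_finite]
        intro b hb
        refine Module.annihilator_le_of_mem_support hq₁.1 ?_
        rw [Module.mem_annihilator] at hb ⊢
        intro m
        obtain ⟨⟨m, s⟩, rfl⟩ := IsLocalizedModule.mk'_surjective q.asIdeal.primeCompl
          (LocalizedModule.mkLinearMap q.asIdeal.primeCompl M) m
        show algebraMap (P A d) Pq b • IsLocalizedModule.mk' _ m s = 0
        rw [algebraMap_smul, ← IsLocalizedModule.mk'_smul, hb, IsLocalizedModule.mk'_zero]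
      · have h1 := congrArg (comap (algebraMap A Aq)) hq₁.2
        rw [← comap_comp_apply, ← IsScalarTower.algebraMap_eq] at h1
        rw [← comap_comp_apply, ← IsScalarTower.algebraMap_eq, h1]
        exact PrimeSpectrum.ext (IsLocalization.under_map_of_isPrime_disjoint p₀.primeCompl Aq y.isPrime hdisj)
    · refine isConstructible_comap_image (RingHom.finitePresentation_algebraMap.2 inferInstance) ?_
      refine (isConstructible_basicOpen).inter ?_
      have h := Groth.Agent.S6285.result (P A d) M
      exact (h.2.isConstructible h.1.isOpen_compl).of_compl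
  rw [isOpen_iff_forall_mem_open]
  rintro _ ⟨q, ⟨hqN, hq⟩, rfl⟩
  obtain ⟨_, ⟨g, rfl⟩, hqg, hgN⟩ := isTopologicalBasis_basic_opens.exists_subset_of_mem_open hqN hN
  exact ⟨_, Set.image_mono (Set.inter_subset_inter_left _ hgN), hbasic g, q, ⟨hqg, hq⟩, rfl⟩

end L02.FibDepth
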