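import Groth.Agent.L02.FibDepth.Field
import Groth.Agent.L02.CMMor.FlatDepth
import Mathlib.RingTheory.RingHom.Flat

/-! Behaviour of the rectified invariants under a flat extension of affine regular domains of equal dimension. -/

set_option autoImplicit false
set_option linter.style.haveILetI false
universe u

open CategoryTheory IsLocalRing TensorProduct

namespace L02.FibDepth

variable (k k' : Type u) {C C' : Type u} [Field k] [Field k'] [CommRing C] [IsDomain C] [IsRegularRing C]
  [Algebra k C] [Algebra.FiniteType k C] [CommRing C'] [IsDomain C'] [IsRegularRing C'] [Algebra k' C']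
  [Algebra.FiniteType k' C'] [Algebra C C'] [Module.Flat C C'] {n : ℕ}
  (M : Type u) [AddCommGroup M] [Module C M] [Module.Finite C M]
  (Q' : Ideal C') [Q'.IsPrime]

section Loc

/-- The map of local rings. -/
noncomputable abbrev locMap : Localization.AtPrime (Q'.under C) →+* Localization.AtPrime Q' :=
  Localization.localRingHom (Q'.under C) Q' (algebraMap C C') rfl

/-- The algebra of local rings. -/
@[reducible] noncomputable def locAlg : Algebra (Localization.AtPrime (Q'.under C)) (Localization.AtPrime Q') :=
  (locMap (C := C) Q').toAlgebra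

omit [IsDomain C] [IsRegularRing C] [IsDomain C'] [IsRegularRing C'] in
theorem loc_props :
    letI := locAlg (C := C) Q'
    IsScalarTower C (Localization.AtPrime (Q'.under C)) (Localization.AtPrime Q') ∧
      Module.Flat (Localization.AtPrime (Q'.under C)) (Localization.AtPrime Q') ∧
      IsLocalHom (algebraMap (Localization.AtPrime (Q'.under C)) (Localization.AtPrime Q')) := by
  letI := locAlg (C := C) Q'
  refine ⟨IsScalarTower.of_algebraMap_eq fun c => ?_, ?_, Localization.isLocalHom_localRingHom (Q'.under C) Q' (algebraMap C C') rfl⟩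
  · show _ = locMap (C := C) Q' (algebraMap C _ c)
    rw [locMap, Localization.localRingHom_to_map (Q'.under C) Q' (algebraMap C C') rfl, ← IsScalarTower.algebraMap_apply]
  · exact RingHom.flat_algebraMap_iff.1
      (RingHom.Flat.localRingHom (RingHom.flat_algebraMap_iff.2 inferInstance) Q' (Q'.under C) rfl)

omit [IsDomain C] [IsRegularRing C] [IsDomain C'] [IsRegularRing C'] in
theorem mem_support_extend :
    (⟨Q', inferInstance⟩ : PrimeSpectrum C') ∈ Module.support C' (C' ⊗[C] M) ↔
      (⟨Q'.under C, inferInstance⟩ : PrimeSpectrum C) ∈ Module.support C M := by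
  letI := locAlg (C := C) Q'
  obtain ⟨_, _, _⟩ := loc_props (C := C) Q'
  let L := Localization.AtPrime (Q'.under C)
  let L' := Localization.AtPrime Q'
  let e := AlgebraTensorModule.cancelBaseChange C C' L' L' M
  let e' := AlgebraTensorModule.cancelBaseChange C L L' L' M
  haveI : Module.FaithfullyFlat L L' := Module.FaithfullyFlat.of_flat_of_isLocalHom
  haveI : IsLocalizedModule (Q'.under C).primeCompl (TensorProduct.mk C L M 1) :=
    (isLocalizedModule_iff_isBaseChange (Q'.under C).primeCompl L _).2 (TensorProduct.isBaseChange C M L)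
  haveI : IsLocalizedModule Q'.primeCompl (TensorProduct.mk C' L' (C' ⊗[C] M) 1) :=
    (isLocalizedModule_iff_isBaseChange Q'.primeCompl L' _).2 (TensorProduct.isBaseChange C' (C' ⊗[C] M) L')
  rw [Module.mem_support_iff, Module.mem_support_iff,
    (IsLocalizedModule.iso Q'.primeCompl (TensorProduct.mk C' L' (C' ⊗[C] M) 1)).toEquiv.nontrivial_congr,
    (IsLocalizedModule.iso (Q'.under C).primeCompl (TensorProduct.mk C L M 1)).toEquiv.nontrivial_congr,
    (e.trans e'.symm).toEquiv.nontrivial_congr]
  exact ⟨fun h => by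
      by_contra hn
      haveI := not_nontrivial_iff_subsingleton.1 hn
      exact not_subsingleton (L' ⊗[L] (L ⊗[C] M)) inferInstance,
    fun h => Module.FaithfullyFlat.lTensor_nontrivial L L' (L ⊗[C] M)⟩

end Loc

include k k' in
/-- Invariance of the rectified invariants. -/
theorem ext_invariants (hn : ringKrullDim C = n) (hn' : ringKrullDim C' = n)
    (hQ : (⟨Q'.under C, inferInstance⟩ : PrimeSpectrum C) ∈ Module.support C M) {δ δ' a a' b b' : ℕ}
    (hδ : ringKrullDim (C ⧸ Q'.under C) = (δ : WithBot ℕ∞)) (hδ' : ringKrullDim (C' ⧸ Q') = (δ' : WithBot ℕ∞))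
    (ha : LocCoh.depth (Localization.AtPrime (Q'.under C)) (Localization.AtPrime (Q'.under C) ⊗[C] M) = (a : ℕ∞))
    (ha' : LocCoh.depth (Localization.AtPrime Q') (Localization.AtPrime Q' ⊗[C'] (C' ⊗[C] M)) = (a' : ℕ∞))
    (hb : Module.supportDim (Localization.AtPrime (Q'.under C)) (Localization.AtPrime (Q'.under C) ⊗[C] M) =
      (b : WithBot ℕ∞))
    (hb' : Module.supportDim (Localization.AtPrime Q') (Localization.AtPrime Q' ⊗[C'] (C' ⊗[C] M)) =
      (b' : WithBot ℕ∞)) :
    a' + δ' = a + δ ∧ b' + δ' = b + δ ∧ δ' ≤ δ ∧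
      (Q' ∈ ((Q'.under C).map (algebraMap C C')).minimalPrimes → δ' = δ) := by
  letI := locAlg (C := C) Q'
  obtain ⟨_, _, _⟩ := loc_props (C := C) Q'
  let L := Localization.AtPrime (Q'.under C)
  let L' := Localization.AtPrime Q'
  haveI : IsRegularLocalRing L := isRegularLocalRing_localization (Q'.under C) L
  haveI : IsRegularLocalRing L' := isRegularLocalRing_localization Q' L'
  haveI : IsNoetherianRing L := inferInstance
  haveI : IsNoetherianRing L' := inferInstance
  obtain ⟨h, δ₁, hh, hδ₁, hsum⟩ := dim_localization k hn (Q'.under C) L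
  obtain ⟨h', δ₂, hh', hδ₂, hsum'⟩ := dim_localization k' hn' Q' L'
  have e1 : δ₁ = δ := by rw [hδ] at hδ₁; exact_mod_cast hδ₁.symm
  have e2 : δ₂ = δ' := by rw [hδ'] at hδ₂; exact_mod_cast hδ₂.symm
  have hdL : LocCoh.depth L L = (h : ℕ∞) := by
    have h1 := (Groth.L04.isCohenMacaulayLocalRing_of_regular L).supportDim_eq_depth
    rw [Module.supportDim_self_eq_ringKrullDim, hh] at h1
    exact_mod_cast h1.symm
  have hdL' : LocCoh.depth L' L' = (h' : ℕ∞) := by
    have h1 := (Groth.L04.isCohenMacaulayLocalRing_of_regular L').supportDim_eq_depth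
    rw [Module.supportDim_self_eq_ringKrullDim, hh'] at h1
    exact_mod_cast h1.symm
  let e : L' ⊗[C'] (C' ⊗[C] M) ≃ₗ[L'] L' ⊗[L] (L ⊗[C] M) :=
    AlgebraTensorModule.cancelBaseChange C C' L' L' M ≪≫ₗ (AlgebraTensorModule.cancelBaseChange C L L' L' M).symm
  let eL : L' ⊗[L] L ≃ₗ[L'] L' := AlgebraTensorModule.rid L L' L'
  haveI : Module.Finite L (L ⊗[C] M) := inferInstance
  haveI : Nontrivial (L ⊗[C] M) := by
    haveI : IsLocalizedModule (Q'.under C).primeCompl (TensorProduct.mk C L M 1) :=
      (isLocalizedModule_iff_isBaseChange (Q'.under C).primeCompl L _).2 (TensorProduct.isBaseChange C M L)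
    rw [← (IsLocalizedModule.iso (Q'.under C).primeCompl (TensorProduct.mk C L M 1)).toEquiv.nontrivial_congr]
    exact Module.mem_support_iff.1 hQ
  have hD := L02.CMMor.depth_tensor (A := L) (B := L') L' (L ⊗[C] M)
  have hD0 := L02.CMMor.depth_tensor (A := L) (B := L') L' L
  have hS := L02.CMMor.supportDim_tensor (A := L) (B := L') L' (L ⊗[C] M)
  have hS0 := L02.CMMor.supportDim_tensor (A := L) (B := L') L' L
  have hadd : a' + h = a + h' := by
    rw [show LocCoh.depth L' (L' ⊗[L] (L ⊗[C] M)) = LocCoh.depth L' (L' ⊗[C'] (C' ⊗[C] M)) from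
      Groth.L04.idealDepth_congr e.symm] at hD
    rw [show LocCoh.depth L' (L' ⊗[L] L) = LocCoh.depth L' L' from Groth.L04.idealDepth_congr eL] at hD0
    rw [ha', ha] at hD
    rw [hdL', hdL] at hD0
    generalize LocCoh.depth L' (EGA4.FibMod L L' L') = x at hD hD0
    cases x with
    | top => rw [add_top] at hD0; exact absurd hD0 (ENat.coe_ne_top h')
    | coe x =>
      have h1 : a' = a + x := by exact_mod_cast hD
      have h2 : h' = h + x := by exact_mod_cast hD0
      omega
  have hbdd : b' + h = b + h' := by
    rw [Module.supportDim_eq_of_equiv e.symm, hb', hb] at hS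
    rw [Module.supportDim_eq_of_equiv eL, Module.supportDim_self_eq_ringKrullDim,
      Module.supportDim_self_eq_ringKrullDim, hh, hh'] at hS0
    generalize Module.supportDim L' (EGA4.FibMod L L' L') = x at hS hS0
    cases x with
    | bot => rw [WithBot.add_bot] at hS0; exact absurd hS0 (by simp)
    | coe x =>
      cases x with
      | top =>
        have : ((h' : ℕ∞) : WithBot ℕ∞) = ((h + ⊤ : ℕ∞) : WithBot ℕ∞) := hS0
        rw [add_top] at this
        exact absurd (WithBot.coe_injective this) (ENat.coe_ne_top h')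
      | coe x =>
        have h1 : b' = b + x := by exact_mod_cast hS
        have h2 : h' = h + x := by exact_mod_cast hS0
        omega
  have hle : h ≤ h' := by
    rw [show LocCoh.depth L' (L' ⊗[L] L) = LocCoh.depth L' L' from Groth.L04.idealDepth_congr eL] at hD0
    rw [hdL', hdL] at hD0
    have : (h : ℕ∞) ≤ (h' : ℕ∞) := hD0 ▸ le_self_add
    exact_mod_cast this
  refine ⟨by omega, by omega, by omega, fun hmin => ?_⟩
  have hfib : Module.supportDim L' (EGA4.FibMod L L' L') ≤ 0 := by
    haveI : Subsingleton (Module.support L' (EGA4.FibMod L L' L')) := by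
      have key : ∀ P ∈ Module.support L' (EGA4.FibMod L L' L'), P = (⟨maximalIdeal L', inferInstance⟩ : PrimeSpectrum L') := by
        intro P hP
        unfold EGA4.FibMod at hP
        rw [Module.support_quotient] at hP
        have h1 : EGA4.mB L L' ≤ P.asIdeal := hP.2
        have h2 : (PrimeSpectrum.comap (algebraMap C' L') P).asIdeal ≤ Q' :=
          (Ideal.comap_mono (IsLocalRing.le_maximalIdeal P.isPrime.ne_top)).trans
            (le_of_eq (IsLocalization.AtPrime.under_maximalIdeal L' Q'))
        have h3 : (Q'.under C).map (algebraMap C C') ≤ (PrimeSpectrum.comap (algebraMap C' L') P).asIdeal := by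
          rw [PrimeSpectrum.comap_asIdeal, ← Ideal.map_le_iff_le_comap, Ideal.map_map, ← IsScalarTower.algebraMap_eq,
            IsScalarTower.algebraMap_eq C L L', ← Ideal.map_map]
          exact (Ideal.map_mono (Ideal.map_le_iff_le_comap.2
            (le_of_eq (IsLocalization.AtPrime.under_maximalIdeal L (Q'.under C)).symm))).trans h1
        have h4 : (PrimeSpectrum.comap (algebraMap C' L') P).asIdeal = Q' :=
          le_antisymm h2 (hmin.2 ⟨(PrimeSpectrum.comap (algebraMap C' L') P).isPrime, h3⟩ h2)
        exact PrimeSpectrum.localization_comap_injective L' Q'.primeCompl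
          (PrimeSpectrum.ext (h4.trans (IsLocalization.AtPrime.under_maximalIdeal L' Q').symm))
      exact ⟨fun P P' => Subtype.ext ((key _ P.2).trans (key _ P'.2).symm)⟩
    exact Order.krullDim_nonpos_of_subsingleton
  rw [Module.supportDim_eq_of_equiv eL, Module.supportDim_self_eq_ringKrullDim,
    Module.supportDim_self_eq_ringKrullDim, hh, hh'] at hS0
  have : ((h' : ℕ) : WithBot ℕ∞) ≤ ((h : ℕ) : WithBot ℕ∞) := by
    rw [hS0]; exact (add_le_add le_rfl hfib).trans (add_zero _).le
  have : h' ≤ h := by exact_mod_cast this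
  omega

end L02.FibDepth
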