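import Groth.Agent.L02.FibDepth.Affine
import Groth.Agent.L02.FibDepth.Extension
import Mathlib.RingTheory.Ideal.GoingDown
import Mathlib.RingTheory.Flat.Stability

/-! Invariance of the rectified fibre invariants under base change. -/

set_option autoImplicit false
set_option linter.style.haveILetI false
set_option maxSynthPendingDepth 3
universe u

open CategoryTheory IsLocalRing TensorProduct Topology PrimeSpectrum
open Groth.L15.FibrePdSemi (D)

namespace L02.FibDepth

variable {A : Type u} [CommRing A] {d : ℕ}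

/-- The invariants at a point of a fibre in terms of the fibre ring. -/
theorem loc_values (M : Type u) [AddCommGroup M] [Module (P A d) M] [Module.Finite (P A d) M]
    (p : Ideal A) [p.IsPrime] (Q : PrimeSpectrum (Fib A d p)) (z : PrimeSpectrum (P A d)) (hz : incl p Q = z) :
    dep M z = LocCoh.depth (Localization.AtPrime Q.asIdeal)
        (Localization.AtPrime Q.asIdeal ⊗[Fib A d p] (Fib A d p ⊗[P A d] M)) ∧
      sdim M z = Module.supportDim (Localization.AtPrime Q.asIdeal)
        (Localization.AtPrime Q.asIdeal ⊗[Fib A d p] (Fib A d p ⊗[P A d] M)) := by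
  obtain ⟨E⟩ := semi_loc M p Q z hz (Localization.AtPrime Q.asIdeal)
  let e := AlgebraTensorModule.cancelBaseChange (P A d) (Fib A d p) (Localization.AtPrime Q.asIdeal)
    (Localization.AtPrime Q.asIdeal) M
  exact ⟨E.depth_eq.trans (Groth.L04.idealDepth_congr e).symm,
    E.supportDim_eq.trans (Module.supportDim_eq_of_equiv e).symm⟩

variable (A' : Type u) [CommRing A'] [Algebra A A']

/-- The map of polynomial algebras. -/
@[reducible] noncomputable def polyAlg : Algebra (P A d) (P A' d) := (MvPolynomial.map (algebraMap A A')).toAlgebra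

/-- The base change of a module over a polynomial algebra. -/
abbrev bcMod (M : Type u) [AddCommGroup M] [Module (P A d) M] : Type u :=
  letI := polyAlg (A := A) (d := d) A'
  P A' d ⊗[P A d] M

variable {A'}

section Fib

variable (p' : Ideal A') [p'.IsPrime]

/-- The map of residue fields. -/
noncomputable abbrev resMap : (p'.under A).ResidueField →+* p'.ResidueField :=
  Ideal.ResidueField.map (p'.under A) p' (algebraMap A A') rfl

/-- The map of fibre rings. -/
noncomputable def fibMap : Fib A d (p'.under A) →+* Fib A' d p' :=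
  (fibEquiv p').symm.toRingHom.comp ((MvPolynomial.map (resMap (A := A) p')).comp (fibEquiv (p'.under A)).toRingHom)

theorem fibEquiv_algebraMap {B : Type u} [CommRing B] (p : Ideal B) [p.IsPrime] (x : P B d) :
    fibEquiv p (algebraMap (P B d) (Fib B d p) x) = MvPolynomial.map (algebraMap B p.ResidueField) x := by
  show MvPolynomial.algebraTensorAlgEquiv B p.ResidueField ((1 : p.ResidueField) ⊗ₜ[B] x) = _
  rw [MvPolynomial.algebraTensorAlgEquiv_tmul, one_smul]

theorem fibMap_algebraMap (x : P A d) :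
    fibMap p' (algebraMap (P A d) (Fib A d (p'.under A)) x) =
      algebraMap (P A' d) (Fib A' d p') (MvPolynomial.map (algebraMap A A') x) := by
  apply (fibEquiv p').injective
  rw [fibEquiv_algebraMap]
  show fibEquiv p' ((fibEquiv p').symm (MvPolynomial.map _ (fibEquiv (p'.under A) _))) = _
  rw [RingEquiv.apply_symm_apply, fibEquiv_algebraMap, MvPolynomial.map_map, MvPolynomial.map_map]
  exact congrArg (fun g => MvPolynomial.map g x) (RingHom.ext fun a =>
    Ideal.ResidueField.map_algebraMap (p'.under A) p' (algebraMap A A') rfl a)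

attribute [local instance] MvPolynomial.algebraMvPolynomial in
theorem flat_fibMap : (fibMap (A := A) (d := d) p').Flat := by
  refine RingHom.Flat.comp (RingHom.Flat.comp (RingHom.Flat.of_bijective (fibEquiv (p'.under A)).bijective) ?_)
    (RingHom.Flat.of_bijective (fibEquiv p').symm.bijective)
  letI := (resMap (A := A) p').toAlgebra
  have h : Module.Flat (MvPolynomial (Fin d) (p'.under A).ResidueField) (MvPolynomial (Fin d) p'.ResidueField) :=
    Module.Flat.isBaseChange (R := (p'.under A).ResidueField) (M := p'.ResidueField) _ _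
      (Algebra.IsPushout.out (R := (p'.under A).ResidueField) (S := MvPolynomial (Fin d) (p'.under A).ResidueField)
        (R' := p'.ResidueField) (S' := MvPolynomial (Fin d) p'.ResidueField))
  exact h

/-- Invariance at a point of a fibre. -/
theorem bc_fib (M : Type u) [AddCommGroup M] [Module (P A d) M] [Module.Finite (P A d) M]
    (Q' : PrimeSpectrum (Fib A' d p')) :
    letI := polyAlg (A := A) (d := d) A'
    incl (p'.under A) (comap (fibMap p') Q') = comap (algebraMap (P A d) (P A' d)) (incl p' Q') ∧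
      (incl p' Q' ∈ Module.support (P A' d) (bcMod (A := A) (d := d) A' M) ↔
        incl (p'.under A) (comap (fibMap p') Q') ∈ Module.support (P A d) M) ∧
      (incl (p'.under A) (comap (fibMap p') Q') ∈ Module.support (P A d) M →
        ∀ δ δ' a a' b b' : ℕ, delta A d (incl (p'.under A) (comap (fibMap p') Q')) = (δ : WithBot ℕ∞) →
          delta A' d (incl p' Q') = (δ' : WithBot ℕ∞) →
          dep M (incl (p'.under A) (comap (fibMap p') Q')) = (a : ℕ∞) →
          dep (bcMod (A := A) (d := d) A' M) (incl p' Q') = (a' : ℕ∞) →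
          sdim M (incl (p'.under A) (comap (fibMap p') Q')) = (b : WithBot ℕ∞) →
          sdim (bcMod (A := A) (d := d) A' M) (incl p' Q') = (b' : WithBot ℕ∞) →
          a' + δ' = a + δ ∧ b' + δ' = b + δ ∧ δ' ≤ δ ∧
            (Q'.asIdeal ∈ ((comap (fibMap (A := A) p') Q').asIdeal.map (fibMap p')).minimalPrimes → δ' = δ)) := by
  letI := polyAlg (A := A) (d := d) A'
  let p := p'.under A
  letI : Algebra (Fib A d p) (Fib A' d p') := (fibMap p').toAlgebra
  haveI : IsScalarTower (P A d) (Fib A d p) (Fib A' d p') :=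
    IsScalarTower.of_algebraMap_eq fun x => (fibMap_algebraMap p' x).symm
  haveI : Module.Flat (Fib A d p) (Fib A' d p') := flat_fibMap p'
  obtain ⟨i1, i2, hn, i4⟩ := fib_props (A := A) (d := d) p
  obtain ⟨j1, j2, hn', j4⟩ := fib_props (A := A') (d := d) p'
  letI := fibAlg (d := d) p
  letI := fibAlg (d := d) p'
  let Q := comap (fibMap (A := A) p') Q'
  let eM : Fib A' d p' ⊗[P A' d] bcMod (A := A) (d := d) A' M ≃ₗ[Fib A' d p'] Fib A' d p' ⊗[Fib A d p] (Fib A d p ⊗[P A d] M) :=
    AlgebraTensorModule.cancelBaseChange (P A d) (P A' d) (Fib A' d p') (Fib A' d p') M ≪≫ₗ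
      (AlgebraTensorModule.cancelBaseChange (P A d) (Fib A d p) (Fib A' d p') (Fib A' d p') M).symm
  haveI : Module.Finite (Fib A d p) (Fib A d p ⊗[P A d] M) := inferInstance
  refine ⟨?_, ?_, fun hQ δ δ' a a' b b' hδ hδ' ha ha' hb hb' => ?_⟩
  · refine PrimeSpectrum.ext (Ideal.ext fun x => ?_)
    show fibMap p' (algebraMap (P A d) (Fib A d (p'.under A)) x) ∈ Q'.asIdeal ↔
      algebraMap (P A' d) (Fib A' d p') (algebraMap (P A d) (P A' d) x) ∈ Q'.asIdeal
    rw [fibMap_algebraMap]
    rfl
  · rw [← mem_support_iff (bcMod (A := A) (d := d) A' M) p' Q', ← mem_support_iff M p Q, eM.support_eq]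
    exact mem_support_extend (C := Fib A d p) (Fib A d p ⊗[P A d] M) Q'.asIdeal
  · rw [delta_eq] at hδ hδ'
    rw [(loc_values M p Q _ rfl).1] at ha
    rw [(loc_values M p Q _ rfl).2] at hb
    rw [(loc_values (bcMod (A := A) (d := d) A' M) p' Q' _ rfl).1] at ha'
    rw [(loc_values (bcMod (A := A) (d := d) A' M) p' Q' _ rfl).2] at hb'
    let e' := AlgebraTensorModule.congr (LinearEquiv.refl (Localization.AtPrime Q'.asIdeal) (Localization.AtPrime Q'.asIdeal)) eM
    exact ext_invariants p.ResidueField p'.ResidueField (Fib A d p ⊗[P A d] M) Q'.asIdeal hn hn'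
      ((mem_support_iff M p Q).2 hQ) hδ hδ' ha ((Groth.L04.idealDepth_congr e').symm.trans ha') hb
      ((Module.supportDim_eq_of_equiv e').symm.trans hb')

end Fib

section Points

variable (M : Type u) [AddCommGroup M] [Module (P A d) M] [Module.Finite (P A d) M]

omit [Module.Finite (P A d) M] [AddCommGroup M] [Module (P A d) M] in
theorem comap_poly (z' : PrimeSpectrum (P A' d)) :
    letI := polyAlg (A := A) (d := d) A'
    comap (algebraMap A (P A d)) (comap (algebraMap (P A d) (P A' d)) z') =
      comap (algebraMap A A') (comap (algebraMap A' (P A' d)) z') := by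
  letI := polyAlg (A := A) (d := d) A'
  rw [← comap_comp_apply, ← comap_comp_apply]
  refine congrArg (fun g => comap g z') (RingHom.ext fun a => ?_)
  exact MvPolynomial.map_C _ a

theorem bc_support (q' : PrimeSpectrum (P A' d)) :
    letI := polyAlg (A := A) (d := d) A'
    q' ∈ Module.support (P A' d) (bcMod (A := A) (d := d) A' M) ↔
      comap (algebraMap (P A d) (P A' d)) q' ∈ Module.support (P A d) M := by
  letI := polyAlg (A := A) (d := d) A'
  obtain ⟨Q', hQ'⟩ := exists_incl_eq (p := q'.asIdeal.under A') (z := q') rfl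
  obtain ⟨h1, h2, -⟩ := bc_fib (A := A) (q'.asIdeal.under A') M Q'
  rw [h1, hQ'] at h2
  exact h2

theorem bc_point (q' : PrimeSpectrum (P A' d)) :
    letI := polyAlg (A := A) (d := d) A'
    comap (algebraMap (P A d) (P A' d)) q' ∈ Module.support (P A d) M →
      ∀ δ δ' a a' b b' : ℕ, delta A d (comap (algebraMap (P A d) (P A' d)) q') = (δ : WithBot ℕ∞) →
        delta A' d q' = (δ' : WithBot ℕ∞) →
        dep M (comap (algebraMap (P A d) (P A' d)) q') = (a : ℕ∞) → dep (bcMod (A := A) (d := d) A' M) q' = (a' : ℕ∞) →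
        sdim M (comap (algebraMap (P A d) (P A' d)) q') = (b : WithBot ℕ∞) →
        sdim (bcMod (A := A) (d := d) A' M) q' = (b' : WithBot ℕ∞) → a' + δ' = a + δ ∧ b' + δ' = b + δ ∧ δ' ≤ δ := by
  letI := polyAlg (A := A) (d := d) A'
  obtain ⟨Q', hQ'⟩ := exists_incl_eq (p := q'.asIdeal.under A') (z := q') rfl
  obtain ⟨h1, -, h3⟩ := bc_fib (A := A) (q'.asIdeal.under A') M Q'
  rw [h1, hQ'] at h3
  intro hq δ δ' a a' b b' e1 e2 e3 e4 e5 e6
  obtain ⟨r1, r2, r3, -⟩ := h3 hq δ δ' a a' b b' e1 e2 e3 e4 e5 e6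
  exact ⟨r1, r2, r3⟩

omit [AddCommGroup M] [Module (P A d) M] [Module.Finite (P A d) M] in
/-- Generisations lift with the same dimension. -/
theorem bc_lift (q' : PrimeSpectrum (P A' d)) (z : PrimeSpectrum (P A d)) :
    letI := polyAlg (A := A) (d := d) A'
    z ⤳ comap (algebraMap (P A d) (P A' d)) q' →
    comap (algebraMap A (P A d)) z = comap (algebraMap A (P A d)) (comap (algebraMap (P A d) (P A' d)) q') →
    ∃ z', z' ⤳ q' ∧ comap (algebraMap A' (P A' d)) z' = comap (algebraMap A' (P A' d)) q' ∧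
      comap (algebraMap (P A d) (P A' d)) z' = z ∧ delta A' d z' = delta A d z := by
  letI := polyAlg (A := A) (d := d) A'
  intro hzq hzp
  let p' := q'.asIdeal.under A'
  obtain ⟨Q', hQ'⟩ := exists_incl_eq (p := p') (z := q') rfl
  letI : Algebra (Fib A d (p'.under A)) (Fib A' d p') := (fibMap p').toAlgebra
  haveI : Module.Flat (Fib A d (p'.under A)) (Fib A' d p') := flat_fibMap p'
  have hz : comap (algebraMap A (P A d)) z = ⟨p'.under A, inferInstance⟩ := by
    rw [hzp, comap_poly]; rfl
  obtain ⟨Z, rfl⟩ := exists_incl_eq (p := p'.under A) hz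
  obtain ⟨h1, -, -⟩ := bc_fib (A := A) p' (P A d) Q'
  have hle : Z.asIdeal ≤ (comap (fibMap (A := A) p') Q').asIdeal :=
    (incl_specializes _ _ _).1 (by rw [h1, hQ']; exact hzq)
  obtain ⟨W, hW, hWQ, hWover⟩ : ∃ W : PrimeSpectrum (Fib A' d p'),
      W.asIdeal ∈ (Z.asIdeal.map (fibMap (A := A) p')).minimalPrimes ∧ W.asIdeal ≤ Q'.asIdeal ∧
        comap (fibMap (A := A) p') W = Z := by
    obtain ⟨W, hW, hWQ⟩ := Ideal.exists_minimalPrimes_le (J := Q'.asIdeal)
      (Ideal.map_le_iff_le_comap.2 hle : Z.asIdeal.map (fibMap (A := A) p') ≤ Q'.asIdeal)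
    haveI := hW.1.1
    refine ⟨⟨W, hW.1.1⟩, hW, hWQ, ?_⟩
    have hZW : Z.asIdeal ≤ W.under (Fib A d (p'.under A)) := Ideal.map_le_iff_le_comap.1 hW.1.2
    obtain ⟨W₂, hW₂, hW₂p, hover⟩ := Ideal.exists_ideal_le_liesOver_of_le (p := Z.asIdeal)
      (q := W.under (Fib A d (p'.under A))) W hZW
    haveI := hW₂p
    have : W ≤ W₂ := hW.2 ⟨hW₂p, Ideal.map_le_iff_le_comap.2 (le_of_eq hover.over)⟩ hW₂
    refine PrimeSpectrum.ext (le_antisymm ?_ hZW)
    exact (Ideal.comap_mono this).trans (le_of_eq hover.over.symm)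
  obtain ⟨e1, -, e3⟩ := bc_fib (A := A) p' (P A d) W
  have he : incl (p'.under A) Z = comap (algebraMap (P A d) (P A' d)) (incl p' W) :=
    (congrArg (incl (p'.under A)) hWover).symm.trans e1
  refine ⟨incl p' W, (congrArg (incl p' W ⤳ ·) hQ').mp ((incl_specializes p' Q' W).2 hWQ), ?_, he.symm, ?_⟩
  · rw [comap_incl]; rfl
  have hsupp : ∀ z, z ∈ Module.support (P A d) (P A d) := fun z => by
    rw [Module.mem_support_iff_of_finite]
    intro x hx
    have := Module.mem_annihilator.1 hx 1
    rw [smul_eq_mul, mul_one] at this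
    rw [this]
    exact zero_mem _
  have hWs : incl (p'.under A) (comap (fibMap (A := A) p') W) ∈ Module.support (P A d) (P A d) := hsupp _
  obtain ⟨δ, a, b, hδ, ha, hb, -⟩ := point hWs
  obtain ⟨δ', a', b', hδ', ha', hb', -⟩ := point ((bc_fib (A := A) p' (P A d) W).2.1.2 hWs)
  obtain ⟨-, -, -, hmin⟩ := e3 hWs δ δ' a a' b b' hδ hδ' ha ha' hb hb'
  rw [hWover] at hδ hmin
  rw [hδ', hδ, hmin hW]

end Points

end L02.FibDepth
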