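import Groth.Agent.L02.FibDepth.Constructible
import Groth.Prelude.Def_CInt

/-! Constructibility statements for the depth and dimension invariants of fibres. -/

set_option autoImplicit false
set_option linter.style.haveILetI false
universe u

open CategoryTheory AlgebraicGeometry Topology

namespace L02.FibDepth

variable {X S : Scheme.{u}} (f : X ⟶ S) [LocallyOfFinitePresentation f]

theorem isLocallyConstructible_sk (k : ℕ) :
    IsLocallyConstructible {x : X | LocCoh.HasSk k (FR f x) (FR f x)} := by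
  have h := L02.Cons.isLocallyConstructible_compl (isLocallyConstructible_sk_fail (hasCharts₀_ring f) k)
  convert h using 1
  ext x
  exact (hasSk_iff_model (hasCharts₀_ring f) x k).trans not_not.symm

theorem isLocallyConstructible_codepth_ring (n : ℕ) :
    IsLocallyConstructible {x : X | ringKrullDim (FR f x) =
      ((LocCoh.depth (FR f x) (FR f x) : ℕ∞) : WithBot ℕ∞) + n} := by
  convert isLocallyConstructible_codepth_eq (hasCharts₀_ring f) n using 1
  ext x
  classical
  have hx : Nontrivial (FM f (RR f) x) := (inferInstance : Nontrivial (FR f x))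
  rw [Set.mem_ofPred_eq, ← Module.supportDim_self_eq_ringKrullDim, show LocCoh.depth (FR f x) (FR f x) = _ from
    (depth_eq_model (hasCharts₀_ring f) x).trans (if_pos hx),
    show Module.supportDim (FR f x) (FR f x) = _ from supportDim_eq_model (hasCharts₀_ring f) x hx]
  exact ⟨fun h => ⟨hx, by exact_mod_cast h⟩, fun h => by
    have h' : bN (FR f) (FM f (RR f)) x = aN (FR f) (FM f (RR f)) x + n := h.2
    exact_mod_cast h'⟩

variable (F : X.Modules) (hF : CohB1.IsFP F)
include hF

theorem isLocallyConstructible_rectified (n : ℕ∞) :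
    IsLocallyConstructible {x : X |
      ((CInt.fiberDepth f F x : ℕ∞) : WithBot ℕ∞) +
          topologicalKrullDim ↥(closure ({f.asFiber x} : Set ↥(f.fiber (f.base x)))) = ((n : ℕ∞) : WithBot ℕ∞)} := by
  classical
  have key : ∀ x, ((CInt.fiberDepth f F x : ℕ∞) : WithBot ℕ∞) +
      topologicalKrullDim ↥(closure ({f.asFiber x} : Set ↥(f.fiber (f.base x)))) =
      (((if x ∈ (pd f F hF).S then (((pd f F hF).a x + (pd f F hF).δ x : ℕ) : ℕ∞) else ⊤) : ℕ∞) : WithBot ℕ∞) := by
    intro x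
    rw [show CInt.fiberDepth f F x = LocCoh.depth (FR f x) (FM f (MM f F) x) from rfl, depth_fibre f F hF x,
      dim_closure_asFiber_eq (hasCharts₀_module f F hF) x]
    split_ifs with h
    · rfl
    · rfl
  induction n with
  | top =>
    convert L02.Cons.isLocallyConstructible_compl (isLocallyConstructible_S (hasCharts₀_module f F hF)) using 1
    ext x
    rw [Set.mem_ofPred_eq, key x, WithBot.coe_inj]
    split_ifs with h
    · exact iff_of_false (ENat.coe_ne_top _) fun h' => h' h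
    · exact iff_of_true rfl h
  | coe n =>
    convert isLocallyConstructible_rect_eq (hasCharts₀_module f F hF) n using 1
    ext x
    rw [Set.mem_ofPred_eq, key x, WithBot.coe_inj]
    split_ifs with h
    · exact ⟨fun he => ⟨h, by exact_mod_cast he⟩, fun he => congrArg (Nat.cast (R := ℕ∞)) he.2⟩
    · exact iff_of_false (ENat.coe_ne_top _).symm fun h' => h h'.1

variable [QuasiCompact f]

theorem isLocallyConstructible_noEmbedded :
    IsLocallyConstructible {s : S | AssSch.NoEmbedded ((Scheme.Modules.pullback (f.fiberι s)).obj F)} := by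
  convert L02.Cons.isLocallyConstructible_compl
    (f.isLocallyConstructible_image (isLocallyConstructible_emb (hasCharts₀_module f F hF))) using 1
  ext s
  rw [Set.mem_ofPred_eq, noEmbedded_iff f F hF s]
  exact ⟨fun h ⟨x, hx, hxs⟩ => hx (h x hxs), fun h x hxs => not_not.1 fun hx => h ⟨x, hx, hxs⟩⟩

omit hF in
theorem isLocallyConstructible_forall_mem_image (Φ : Finset ℕ) (E : ℕ → Set X)
    (hE : ∀ j, IsLocallyConstructible (E j)) :
    IsLocallyConstructible {s : S | ∀ j ∈ Φ, s ∈ f '' E j} := by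
  classical
  induction Φ using Finset.induction_on with
  | empty => convert (IsLocallyConstructible.univ : IsLocallyConstructible (Set.univ : Set S)) using 1; ext s; simp
  | insert a t _ ih =>
    convert (f.isLocallyConstructible_image (hE a)).inter ih using 1
    ext s
    simp only [Set.mem_ofPred_eq, Finset.forall_mem_insert, Set.mem_inter_iff]

theorem isLocallyConstructible_assDims (Φ : Finset ℕ) :
    IsLocallyConstructible {s : S |
      (fun z : ↥(f.fiber s) => topologicalKrullDim ↥(closure ({z} : Set ↥(f.fiber s)))) ''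
          AssSch.Ass ((Scheme.Modules.pullback (f.fiberι s)).obj F) =
        (fun n : ℕ => (n : WithBot ℕ∞)) '' (Φ : Set ℕ)} := by
  let D := pd f F hF
  convert (L02.Cons.isLocallyConstructible_compl (f.isLocallyConstructible_image
    (isLocallyConstructible_assDim_union (hasCharts₀_module f F hF) (· ∉ Φ)))).inter
    (isLocallyConstructible_forall_mem_image f Φ D.AssDim
      (isLocallyConstructible_assDim (hasCharts₀_module f F hF))) using 1
  ext s
  have hall := forall_ass_iff f F hF s (fun t w => ∃ n ∈ Φ,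
    topologicalKrullDim ↥(closure ({w} : Set ↥(f.fiber t))) = (n : WithBot ℕ∞))
  have hdim : ∀ z : X, topologicalKrullDim ↥(closure ({f.asFiber z} : Set ↥(f.fiber (f z)))) = (D.δ z : WithBot ℕ∞) :=
    fun z => dim_closure_asFiber_eq (hasCharts₀_module f F hF) z
  simp only [Set.mem_ofPred_eq, Set.mem_inter_iff, Set.mem_compl_iff, Set.mem_image, not_exists, not_and]
  constructor
  · intro h
    refine ⟨fun x ⟨j, hj, hx⟩ hxs => ?_, fun j hj => ?_⟩
    · obtain ⟨z, hz, -, hp, rfl⟩ := D.mem_AssDim.1 hx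
      have h1 := hall.1 (fun w hw => by
        obtain ⟨n, hn, he⟩ := h.subset ⟨w, hw, rfl⟩
        exact ⟨n, hn, he.symm⟩) z hz (hp.trans hxs)
      obtain ⟨n, hn, he⟩ := h1
      rw [hdim] at he
      exact hj ((Nat.cast_inj (R := WithBot ℕ∞)).1 he ▸ hn)
    · obtain ⟨w, hw, he⟩ := h.ge ⟨j, hj, rfl⟩
      have h2 : ∃ z, f z = s ∧ (f.asFiber z ∈ AssSch.Ass ((Scheme.Modules.pullback (f.fiberι (f z))).obj F) ∧
          topologicalKrullDim ↥(closure ({f.asFiber z} : Set ↥(f.fiber (f z)))) = (j : WithBot ℕ∞)) :=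
        (exists_fiber_iff (f := f) (P := fun t w => w ∈ AssSch.Ass ((Scheme.Modules.pullback (f.fiberι t)).obj F) ∧
          topologicalKrullDim ↥(closure ({w} : Set ↥(f.fiber t))) = (j : WithBot ℕ∞)) s).1 ⟨w, hw, he⟩
      obtain ⟨z, hzs, hz, he'⟩ := h2
      rw [hdim] at he'
      exact ⟨z, D.mem_AssDim.2 ⟨z, (mem_ass_fiber_iff f F hF z).1 hz, specializes_rfl, rfl,
        (Nat.cast_inj (R := WithBot ℕ∞)).1 he'⟩, hzs⟩
  · rintro ⟨h1, h2⟩
    refine Set.Subset.antisymm ?_ ?_
    · rintro _ ⟨w, hw, rfl⟩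
      have := hall.2 (fun z hz hzs => ⟨D.δ z, by
        by_contra hne
        exact h1 z ⟨_, hne, D.mem_AssDim.2 ⟨z, hz, specializes_rfl, rfl, rfl⟩⟩ hzs, hdim z⟩) w hw
      obtain ⟨n, hn, he⟩ := this
      exact ⟨n, hn, he.symm⟩
    · rintro _ ⟨j, hj, rfl⟩
      obtain ⟨x, hx, hxs⟩ := h2 j hj
      obtain ⟨z, hz, -, hp, rfl⟩ := D.mem_AssDim.1 hx
      obtain ⟨w, hw, he⟩ := (exists_fiber_iff (f := f)
        (P := fun t w => w ∈ AssSch.Ass ((Scheme.Modules.pullback (f.fiberι t)).obj F) ∧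
          topologicalKrullDim ↥(closure ({w} : Set ↥(f.fiber t))) = (D.δ z : WithBot ℕ∞)) s).2
        ⟨z, hp.trans hxs, (mem_ass_fiber_iff f F hF z).2 hz, hdim z⟩
      exact ⟨w, hw, he⟩

theorem isLocallyConstructible_compDims (Φ : Finset ℕ) :
    IsLocallyConstructible {s : S |
      (fun Z : Set ↥(CohB1.support ((Scheme.Modules.pullback (f.fiberι s)).obj F)) => topologicalKrullDim ↥Z) ''
          irreducibleComponents ↥(CohB1.support ((Scheme.Modules.pullback (f.fiberι s)).obj F)) =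
        (fun n : ℕ => (n : WithBot ℕ∞)) '' (Φ : Set ℕ)} := by
  let D := pd f F hF
  let E : ℕ → Set X := fun j => {x | x ∈ D.S ∧ D.b x + D.δ x = j}
  convert (L02.Cons.isLocallyConstructible_compl (f.isLocallyConstructible_image
    (isLocallyConstructible_dim_union (hasCharts₀_module f F hF) (· ∉ Φ)))).inter
    (isLocallyConstructible_forall_mem_image f Φ E
      (fun j => isLocallyConstructible_dim_eq (hasCharts₀_module f F hF) j)) using 1
  ext s
  have hcomp : ∀ n : ℕ, D.HasComp n s ↔ s ∈ f '' E n := by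
    intro n
    constructor
    · rintro ⟨z, hz, hzs, hb, hd⟩
      exact ⟨z, ⟨hz, by omega⟩, hzs⟩
    · rintro ⟨x, ⟨hx, hxe⟩, hxs⟩
      obtain ⟨w, hw, -, hp, hb, hd⟩ := D.exists_min_gen hx
      exact ⟨w, hw, hp.trans hxs, hb, by omega⟩
  have key : ∀ T : Set ↥(f.fiber s), T = {z : ↥(f.fiber s) | Nontrivial (MM f F s z)} →
      ((fun Z : Set ↥T => topologicalKrullDim ↥Z) '' irreducibleComponents ↥T =
          (fun n : ℕ => (n : WithBot ℕ∞)) '' (Φ : Set ℕ) ↔
        (∀ n : ℕ, D.HasComp n s → n ∈ Φ) ∧ ∀ n ∈ Φ, D.HasComp n s) := by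
    rintro _ rfl
    constructor
    · intro h
      refine ⟨fun n hn => ?_, fun n hn => ?_⟩
      · obtain ⟨Z, hZ, hd⟩ := (hasComp_iff f F hF s (· = (n : WithBot ℕ∞))).2 ⟨n, rfl, hn⟩
        obtain ⟨m, hm, he⟩ := h.subset ⟨Z, hZ, rfl⟩
        exact (Nat.cast_inj (R := WithBot ℕ∞)).1 (he.trans hd) ▸ hm
      · obtain ⟨Z, hZ, hd⟩ := h.ge ⟨n, hn, rfl⟩
        obtain ⟨m, hm, hc⟩ := (hasComp_iff f F hF s (· = (n : WithBot ℕ∞))).1 ⟨Z, hZ, hd⟩
        exact (Nat.cast_inj (R := WithBot ℕ∞)).1 hm ▸ hc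
    · rintro ⟨h1, h2⟩
      refine Set.Subset.antisymm ?_ ?_
      · rintro _ ⟨Z, hZ, rfl⟩
        obtain ⟨n, hn, hc⟩ := (hasComp_iff f F hF s (· = topologicalKrullDim ↥Z)).1 ⟨Z, hZ, rfl⟩
        exact ⟨n, h1 n hc, hn⟩
      · rintro _ ⟨n, hn, rfl⟩
        obtain ⟨Z, hZ, hd⟩ := (hasComp_iff f F hF s (· = (n : WithBot ℕ∞))).2 ⟨n, rfl, h2 n hn⟩
        exact ⟨Z, hZ, hd⟩
  refine (key (CohB1.support ((Scheme.Modules.pullback (f.fiberι s)).obj F))
    (Set.ext fun z => not_subsingleton_iff_nontrivial)).trans ?_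
  refine and_congr ?_ (forall₂_congr fun n _ => hcomp n)
  constructor
  · rintro h ⟨x, ⟨hx, hp⟩, hxs⟩
    exact hp (h _ ((hcomp _).2 ⟨x, ⟨hx, rfl⟩, hxs⟩))
  · intro h n hn
    obtain ⟨x, ⟨hx, he⟩, hxs⟩ := (hcomp n).1 hn
    by_contra hne
    exact h ⟨x, ⟨hx, by rw [he]; exact hne⟩, hxs⟩

end L02.FibDepth
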