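import Groth.Agent.L02.FibDepth.Charts
import Groth.Agent.L02.FibDepth.Fibres
import Mathlib.Topology.Sober
import Mathlib.AlgebraicGeometry.Properties

/-! Openness properties of depth and dimension of the fibres of flat modules. -/

set_option autoImplicit false
set_option linter.style.haveILetI false
universe u

open CategoryTheory AlgebraicGeometry Topology

namespace L02.FibDepth

theorem eq_of_forall_nat {a b : WithBot ℕ∞} (h : ∀ j : ℕ, (j : WithBot ℕ∞) ≤ a ↔ (j : WithBot ℕ∞) ≤ b) : a = b := by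
  have key : ∀ {a b : WithBot ℕ∞}, (∀ j : ℕ, (j : WithBot ℕ∞) ≤ a → (j : WithBot ℕ∞) ≤ b) → a ≤ b := by
    intro a b h
    induction a with
    | bot => exact bot_le
    | coe m =>
      induction b with
      | bot => exact absurd (h 0 (WithBot.coe_le_coe.2 zero_le)) (WithBot.not_coe_le_bot _)
      | coe n => exact WithBot.coe_le_coe.2 (ENat.forall_natCast_le_iff_le.1 fun j hj =>
          WithBot.coe_le_coe.1 (h j (WithBot.coe_le_coe.2 hj)))
  exact le_antisymm (key fun j => (h j).1) (key fun j => (h j).2)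

theorem components_iff {F : Type*} [TopologicalSpace F] [QuasiSober F] [T0Space F] {T : Set F} (hT : IsClosed T)
    (P : WithBot ℕ∞ → Prop) :
    (∃ Z ∈ irreducibleComponents ↥T, P (topologicalKrullDim ↥Z)) ↔
      ∃ g ∈ T, (∀ g' ∈ T, g' ⤳ g → g' = g) ∧ P (topologicalKrullDim ↥(closure ({g} : Set F))) := by
  haveI : QuasiSober T := hT.isClosedEmbedding_subtypeVal.quasiSober
  have hdim : ∀ g : T, topologicalKrullDim ↥(closure ({g} : Set T)) =
      topologicalKrullDim ↥(closure ({g.1} : Set F)) := fun g => by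
    refine (Groth.L22.SchemeDim.topologicalKrullDim_eq_of_isEmbedding
      (f := fun v : (closure ({g} : Set T)) => v.1.1)
      (IsEmbedding.subtypeVal.comp IsEmbedding.subtypeVal) ?_).symm
    have := hT.isClosedEmbedding_subtypeVal.isClosedMap.closure_image_eq_of_continuous continuous_subtype_val {g}
    rw [Set.image_singleton] at this
    rw [this]
    ext v
    exact ⟨fun ⟨w, hw⟩ => ⟨w.1, w.2, hw⟩, fun ⟨w, hw, he⟩ => ⟨⟨w, hw⟩, he⟩⟩
  constructor
  · rintro ⟨Z, hZ, hP⟩
    obtain ⟨g, hg⟩ := QuasiSober.sober hZ.1 (isClosed_of_mem_irreducibleComponents Z hZ)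
    refine ⟨g.1, g.2, fun g' hg' hs => ?_, by rwa [← hdim, hg.def]⟩
    have hs' : (⟨g', hg'⟩ : T) ⤳ g := IsInducing.subtypeVal.specializes_iff.1 hs
    have hle : Z ⊆ closure {(⟨g', hg'⟩ : T)} := by
      rw [← hg.def]
      exact closure_minimal (Set.singleton_subset_iff.2 hs'.mem_closure) isClosed_closure
    have hge : closure {(⟨g', hg'⟩ : T)} ⊆ Z := hZ.2 isIrreducible_singleton.closure hle
    exact (hs.antisymm ((specializes_iff_mem_closure.2 (hg.def.symm ▸ hge (subset_closure rfl))).map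
      continuous_subtype_val)).eq
  · rintro ⟨g, hg, hmin, hP⟩
    let g₀ : T := ⟨g, hg⟩
    refine ⟨closure {g₀}, ⟨isIrreducible_singleton.closure, fun W hW hle => ?_⟩, by rwa [hdim]⟩
    obtain ⟨g', hg'⟩ := QuasiSober.sober hW.closure isClosed_closure
    have hmem : g₀ ∈ closure {g'} := hg'.def.symm ▸ subset_closure (hle (subset_closure rfl))
    have he : g' = g₀ :=
      Subtype.ext (hmin g'.1 g'.2 ((specializes_iff_mem_closure.2 hmem).map continuous_subtype_val))
    rw [← he, hg'.def]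
    exact subset_closure

variable {X Y : Scheme.{u}} (f : X ⟶ Y) [LocallyOfFinitePresentation f]
  (F : X.Modules) (hF : CohB1.IsFP F) (hflat : FlatMod.IsFlatOver f F)

/-- The numerical data of a module of finite presentation. -/
noncomputable abbrev pd : Pre (fun x : X => f x) := preData (hasCharts₀_module f F hF)

/-- The numerical data of a flat module of finite presentation. -/
noncomputable abbrev md : Data (fun x : X => f x) where
  toPre := pd f F hF
  isOpen_le := (data (hasCharts_module f F hF hflat)).isOpen_le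

theorem depth_fibre (x : X) : open Classical in
    LocCoh.depth (FR f x) (FM f (MM f F) x) =
      if x ∈ (pd f F hF).S then (((pd f F hF).a x : ℕ) : ℕ∞) else ⊤ := by
  classical
  exact (depth_eq_model (hasCharts₀_module f F hF) x).trans (by congr)

theorem mem_S_iff (x : X) : x ∈ (pd f F hF).S ↔ Nontrivial (FM f (MM f F) x) := Iff.rfl

theorem codepth_le_iff (x : X) (k : ℕ) :
    Module.supportDim (FR f x) (FM f (MM f F) x) ≤
        ((LocCoh.depth (FR f x) (FM f (MM f F) x) : ℕ∞) : WithBot ℕ∞) + k ↔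
      (x ∈ (md f F hF hflat).S → (md f F hF hflat).b x ≤ (md f F hF hflat).a x + k) := by
  classical
  by_cases hx : x ∈ (md f F hF hflat).S
  · rw [depth_fibre f F hF x, if_pos hx,
      supportDim_eq_model (hasCharts₀_module f F hF) x hx]
    simp only [hx, forall_const]
    exact ⟨fun h => by exact_mod_cast h, fun h => by exact_mod_cast h⟩
  · haveI : Subsingleton (FM f (MM f F) x) := not_nontrivial_iff_subsingleton.1 hx
    simp [Module.supportDim_eq_bot_of_subsingleton, hx]

theorem cm_iff (x : X) :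
    (Subsingleton (FM f (MM f F) x) ∨ LocCoh.IsCohenMacaulayModule (FR f x) (FM f (MM f F) x)) ↔
      (x ∈ (md f F hF hflat).S → (md f F hF hflat).b x ≤ (md f F hF hflat).a x + 0) := by
  classical
  by_cases hx : x ∈ (md f F hF hflat).S
  · have hne : ¬ Subsingleton (FM f (MM f F) x) := not_subsingleton_iff_nontrivial.2 hx
    simp only [hne, false_or, hx, forall_const, add_zero]
    unfold LocCoh.IsCohenMacaulayModule
    rw [depth_fibre f F hF x, if_pos hx, supportDim_eq_model (hasCharts₀_module f F hF) x hx]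
    have := (md f F hF hflat).a_le_b x hx
    constructor
    · intro h
      have h' : bN (FR f) (FM f (MM f F)) x = aN (FR f) (FM f (MM f F)) x := by exact_mod_cast h
      exact h'.le
    · intro h
      have h' : bN (FR f) (FM f (MM f F)) x = aN (FR f) (FM f (MM f F)) x := le_antisymm h this
      exact_mod_cast h'
  · exact iff_of_true (Or.inl (not_nontrivial_iff_subsingleton.1 hx)) fun h => absurd h hx

theorem le_rectified_iff (x : X) (n : ℕ) :
    (n : WithBot ℕ∞) ≤ ((LocCoh.depth (FR f x) (FM f (MM f F) x) : ℕ∞) : WithBot ℕ∞) +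
        topologicalKrullDim ↥(closure ({f.asFiber x} : Set ↥(f.fiber (f.base x)))) ↔
      (x ∈ (md f F hF hflat).S → n ≤ (md f F hF hflat).a x + (md f F hF hflat).δ x) := by
  classical
  rw [dim_closure_asFiber_eq (hasCharts₀_module f F hF) x, depth_fibre f F hF x]
  by_cases hx : x ∈ (md f F hF hflat).S
  · simp only [hx, forall_const, if_true]
    exact ⟨fun h => by exact_mod_cast h, fun h => by exact_mod_cast h⟩
  · simp only [if_neg hx, hx, false_implies, iff_true]
    refine le_trans ?_ (le_add_of_nonneg_right (Nat.cast_nonneg _))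
    exact WithBot.coe_le_coe.2 le_top

theorem equi_sk_iff (x : X) (k : ℕ) :
    (EGA4.IsEquidimModule (FR f x) (FM f (MM f F) x) ∧ LocCoh.HasSk k (FR f x) (FM f (MM f F) x)) ↔
      ((md f F hF hflat).Equi x ∧ (md f F hF hflat).SkOK k x) :=
  and_congr (isEquidim_iff_model (hasCharts₀_module f F hF) x)
    (hasSk_iff_model (hasCharts₀_module f F hF) x k)

theorem mem_ass_fiber_iff (x : X) :
    f.asFiber x ∈ AssSch.Ass ((Scheme.Modules.pullback (f.fiberι (f.base x))).obj F) ↔
      x ∈ (pd f F hF).Ass :=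
  isAssPoint_iff_model (hasCharts₀_module f F hF) x

theorem forall_ass_iff (y : Y) (Q : ∀ s, ↥(f.fiber s) → Prop) :
    (∀ w ∈ AssSch.Ass ((Scheme.Modules.pullback (f.fiberι y)).obj F), Q y w) ↔
      ∀ z ∈ (pd f F hF).Ass, f z = y → Q (f z) (f.asFiber z) := by
  refine (forall_fiber_iff (f := f)
    (P := fun s w => w ∈ AssSch.Ass ((Scheme.Modules.pullback (f.fiberι s)).obj F) → Q s w) y).trans ?_
  exact ⟨fun h z hz hy => h z hy ((mem_ass_fiber_iff f F hF z).2 hz),
    fun h z hy hz => h z ((mem_ass_fiber_iff f F hF z).1 hz) hy⟩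

theorem forall_ass_gen_iff (x : X) (Q : ↥(f.fiber (f x)) → Prop) (Q' : X → Prop)
    (hQ : ∀ w, Q w ↔ Q' (f.fiberι (f x) w)) :
    (∀ w ∈ AssSch.Ass ((Scheme.Modules.pullback (f.fiberι (f.base x))).obj F), f.asFiber x ∈ closure {w} → Q w) ↔
      ∀ z ∈ (md f F hF hflat).Ass, z ⤳ x → f z = f x → Q' z := by
  have mem : ∀ w : ↥(f.fiber (f x)), w ∈ AssSch.Ass ((Scheme.Modules.pullback (f.fiberι (f.base x))).obj F) ↔
      f.fiberι _ w ∈ (md f F hF hflat).Ass := by
    have h := forall_fiber_iff (f := f) (P := fun s w =>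
      w ∈ AssSch.Ass ((Scheme.Modules.pullback (f.fiberι s)).obj F) ↔ f.fiberι s w ∈ (md f F hF hflat).Ass) (f x)
    exact h.2 fun z _ => by rw [f.fiberι_asFiber]; exact mem_ass_fiber_iff f F hF z
  constructor
  · intro h z hz hzx hp
    obtain ⟨w, rfl⟩ := (f.range_fiberι (f x)).ge (show z ∈ f ⁻¹' {f x} from hp)
    exact (hQ w).1 (h w ((mem w).2 hz) ((asFiber_specializes_iff x w).2 hzx).mem_closure)
  · intro h w hw hx
    exact (hQ w).2 (h _ ((mem w).1 hw) ((asFiber_specializes_iff x w).1 (specializes_iff_mem_closure.2 hx))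
      ((f.range_fiberι (f x)).subset ⟨w, rfl⟩))

theorem dim_closure_fiber (s : Y) (w : ↥(f.fiber s)) :
    topologicalKrullDim ↥(closure ({w} : Set ↥(f.fiber s))) = ((pd f F hF).δ (f.fiberι s w) : WithBot ℕ∞) := by
  have h := forall_fiber_iff (f := f) (P := fun s w =>
    topologicalKrullDim ↥(closure ({w} : Set ↥(f.fiber s))) = ((pd f F hF).δ (f.fiberι s w) : WithBot ℕ∞)) s
  exact h.2 (fun z _ => by
    rw [f.fiberι_asFiber]; exact dim_closure_asFiber_eq (hasCharts₀_module f F hF) z) w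

theorem nontrivial_fiber_iff (s : Y) (w : ↥(f.fiber s)) :
    Nontrivial (MM f F s w) ↔ f.fiberι s w ∈ (pd f F hF).S := by
  have h := forall_fiber_iff (f := f) (P := fun s w =>
    Nontrivial (MM f F s w) ↔ f.fiberι s w ∈ (pd f F hF).S) s
  exact h.2 (fun z _ => by rw [f.fiberι_asFiber]; rfl) w

theorem noEmbedded_iff (y : Y) :
    AssSch.NoEmbedded ((Scheme.Modules.pullback (f.fiberι y)).obj F) ↔
      ∀ x, f x = y → (pd f F hF).NoEmb x := by
  rw [(pd f F hF).forall_noEmb_iff]
  constructor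
  · intro h z hz hzy z' hz' hz'y hs
    subst hzy
    obtain ⟨v, rfl⟩ := (f.range_fiberι (f z)).ge (show z' ∈ f ⁻¹' {f z} from hz'y)
    have h2 := forall_fiber_iff (f := f) (P := fun s w =>
      w ∈ AssSch.Ass ((Scheme.Modules.pullback (f.fiberι s)).obj F) ↔ f.fiberι s w ∈ (pd f F hF).Ass) (f z)
    have hv := (h2.2 (fun x _ => by rw [f.fiberι_asFiber]; exact mem_ass_fiber_iff f F hF x) v).2 hz'
    rw [← h (f.asFiber z) ((mem_ass_fiber_iff f F hF z).2 hz) v hv ((asFiber_specializes_iff z v).2 hs),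
      f.fiberι_asFiber]
  · intro h w hw v hv hs
    have h2 := forall_fiber_iff (f := f) (P := fun s w =>
      w ∈ AssSch.Ass ((Scheme.Modules.pullback (f.fiberι s)).obj F) ↔ f.fiberι s w ∈ (pd f F hF).Ass) y
    have mem := h2.2 (fun x _ => by rw [f.fiberι_asFiber]; exact mem_ass_fiber_iff f F hF x)
    have hf : ∀ v : ↥(f.fiber y), f (f.fiberι _ v) = y := fun v => (f.range_fiberι y).subset ⟨v, rfl⟩
    exact ((eq_iff_fiberι v w).2 (h _ ((mem w).1 hw) (hf w) _ ((mem v).1 hv) (hf v)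
      (hs.map (f.fiberι y).continuous))).symm

theorem hasComp_iff (y : Y) (P : WithBot ℕ∞ → Prop) :
    (∃ Z ∈ irreducibleComponents ↥{z : ↥(f.fiber y) | Nontrivial (MM f F y z)}, P (topologicalKrullDim ↥Z)) ↔
      ∃ n : ℕ, P n ∧ (pd f F hF).HasComp n y := by
  have hS : {z : ↥(f.fiber y) | Nontrivial (MM f F y z)} = f.fiberι y ⁻¹' (pd f F hF).S :=
    Set.ext fun w => nontrivial_fiber_iff f F hF y w
  have hcl : IsClosed {z : ↥(f.fiber y) | Nontrivial (MM f F y z)} :=
    hS ▸ (pd f F hF).isClosed_S.preimage (f.fiberι y).continuous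
  rw [components_iff hcl]
  have hf : ∀ v : ↥(f.fiber y), f (f.fiberι _ v) = y := fun v => (f.range_fiberι y).subset ⟨v, rfl⟩
  constructor
  · rintro ⟨g, hg, hmin, hP⟩
    have hgS := (nontrivial_fiber_iff f F hF y g).1 hg
    rw [dim_closure_fiber f F hF] at hP
    obtain ⟨z, hz, hzg, hp, hb, hd⟩ := (pd f F hF).exists_min_gen hgS
    obtain ⟨v, rfl⟩ := (f.range_fiberι y).ge (show z ∈ f ⁻¹' {y} from hp.trans (hf g))
    obtain rfl := hmin v ((nontrivial_fiber_iff f F hF y v).2 hz)
      ((f.fiberι y).isEmbedding.isInducing.specializes_iff.1 hzg)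
    exact ⟨_, hP, f.fiberι y v, hz, hf v, hb, rfl⟩
  · rintro ⟨n, hP, z, hz, hzy, hb, rfl⟩
    obtain ⟨g, rfl⟩ := (f.range_fiberι y).ge (show z ∈ f ⁻¹' {y} from hzy)
    refine ⟨g, (nontrivial_fiber_iff f F hF y g).2 hz, fun v hv hs => ?_, ?_⟩
    · by_contra hne
      have hvS := (nontrivial_fiber_iff f F hF y v).1 hv
      have hs' := hs.map (f.fiberι y).continuous
      have h1 := (pd f F hF).strict _ _ hs' ((hf v).trans (hf g).symm)
        fun e => hne ((eq_iff_fiberι v g).2 e)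
      have h2 := (pd f F hF).δ_le_b_add hvS hs' ((hf v).trans (hf g).symm)
      omega
    · rw [dim_closure_fiber f F hF]
      exact hP

include hF hflat

theorem isOpen_codepth (k : ℕ) :
    IsOpen {x : X | Module.supportDim (FR f x) (FM f (MM f F) x) ≤
      ((LocCoh.depth (FR f x) (FM f (MM f F) x) : ℕ∞) : WithBot ℕ∞) + k} := by
  simp only [codepth_le_iff f F hF hflat]
  exact (md f F hF hflat).isOpen_codepth_le k

theorem isOpen_cm :
    IsOpen {x : X | Subsingleton (FM f (MM f F) x) ∨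
      LocCoh.IsCohenMacaulayModule (FR f x) (FM f (MM f F) x)} := by
  simp only [cm_iff f F hF hflat]
  exact (md f F hF hflat).isOpen_codepth_le 0

theorem isOpen_rectified (n : ℕ) :
    IsOpen {x : X | (n : WithBot ℕ∞) ≤ ((LocCoh.depth (FR f x) (FM f (MM f F) x) : ℕ∞) : WithBot ℕ∞) +
        topologicalKrullDim ↥(closure ({f.asFiber x} : Set ↥(f.fiber (f.base x))))} := by
  simp only [le_rectified_iff f F hF hflat]
  exact (md f F hF hflat).isOpen_le n

theorem isOpen_equiSk (k : ℕ) (hk : 1 ≤ k) :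
    IsOpen {x : X | EGA4.IsEquidimModule (FR f x) (FM f (MM f F) x) ∧
      LocCoh.HasSk k (FR f x) (FM f (MM f F) x)} := by
  simp only [equi_sk_iff f F hF hflat]
  exact (md f F hF hflat).isOpen_equi_sk hk

theorem isOpen_assDims (Φ : Finset ℕ) :
    IsOpen {x : X | ∀ z ∈ AssSch.Ass ((Scheme.Modules.pullback (f.fiberι (f.base x))).obj F), f.asFiber x ∈ closure {z} →
      ∃ n ∈ Φ, topologicalKrullDim ↥(closure ({z} : Set ↥(f.fiber (f.base x)))) = (n : WithBot ℕ∞)} := by
  convert (md f F hF hflat).isOpen_ass_dim (Φ : Set ℕ) using 1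
  ext x
  refine forall_ass_gen_iff f F hF hflat x _ _ fun w => ?_
  rw [dim_closure_fiber f F hF]
  exact ⟨fun ⟨n, hn, h⟩ => (show (md f F hF hflat).δ (f.fiberι _ w) = n by exact_mod_cast h) ▸ hn,
    fun h => ⟨_, h, rfl⟩⟩

theorem isOpen_noEmbedded_at :
    IsOpen {x : X | ∀ z ∈ AssSch.Ass ((Scheme.Modules.pullback (f.fiberι (f.base x))).obj F), f.asFiber x ∈ closure {z} →
      ∀ z' ∈ AssSch.Ass ((Scheme.Modules.pullback (f.fiberι (f.base x))).obj F), z ∈ closure {z'} → z' = z} := by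
  convert (md f F hF hflat).isOpen_noEmb using 1
  ext x
  refine forall_ass_gen_iff f F hF hflat x _
    (fun z => ∀ z' ∈ (md f F hF hflat).Ass, z' ⤳ z → f z' = f z → z' = z) fun w => ?_
  have mem : ∀ v : ↥(f.fiber (f x)), v ∈ AssSch.Ass ((Scheme.Modules.pullback (f.fiberι (f.base x))).obj F) ↔
      f.fiberι _ v ∈ (md f F hF hflat).Ass := by
    have h := forall_fiber_iff (f := f) (P := fun s w =>
      w ∈ AssSch.Ass ((Scheme.Modules.pullback (f.fiberι s)).obj F) ↔ f.fiberι s w ∈ (md f F hF hflat).Ass) (f x)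
    exact h.2 fun z _ => by rw [f.fiberι_asFiber]; exact mem_ass_fiber_iff f F hF z
  have hsp : ∀ v : ↥(f.fiber (f x)), w ∈ closure {v} ↔ f.fiberι _ v ⤳ f.fiberι _ w := fun v => by
    rw [← specializes_iff_mem_closure, (f.fiberι (f x)).isEmbedding.isInducing.specializes_iff]
  have hf : ∀ v : ↥(f.fiber (f x)), f (f.fiberι _ v) = f x := fun v => (f.range_fiberι (f x)).subset ⟨v, rfl⟩
  constructor
  · intro h z' hz' hs hp
    obtain ⟨v, rfl⟩ := (f.range_fiberι (f x)).ge (show z' ∈ f ⁻¹' {f x} from hp.trans (hf w))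
    rw [h v ((mem v).2 hz') ((hsp v).2 hs)]
  · intro h v hv hs
    exact (eq_iff_fiberι v w).2 (h _ ((mem v).1 hv) ((hsp v).1 hs) ((hf v).trans (hf w).symm))

variable [IsProper f]

theorem isOpen_forall_codepth (k : ℕ) :
    IsOpen {y : Y | ∀ x : ↥(f.fiber y), Module.supportDim (RR f y x) (MM f F y x) ≤
      ((LocCoh.depth (RR f y x) (MM f F y x) : ℕ∞) : WithBot ℕ∞) + k} := by
  convert Pre.isOpen_forall (π := fun x : X => f x) f.isClosedMap (isOpen_codepth f F hF hflat k) using 1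
  ext y
  exact forall_fiber_iff (f := f) (P := fun s w => Module.supportDim (RR f s w) (MM f F s w) ≤
    ((LocCoh.depth (RR f s w) (MM f F s w) : ℕ∞) : WithBot ℕ∞) + k) y

theorem isOpen_forall_cm :
    IsOpen {y : Y | ∀ x : ↥(f.fiber y), Subsingleton (MM f F y x) ∨
      LocCoh.IsCohenMacaulayModule (RR f y x) (MM f F y x)} := by
  convert Pre.isOpen_forall (π := fun x : X => f x) f.isClosedMap (isOpen_cm f F hF hflat) using 1
  ext y
  exact forall_fiber_iff (f := f) (P := fun s w => Subsingleton (MM f F s w) ∨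
      LocCoh.IsCohenMacaulayModule (RR f s w) (MM f F s w)) y

theorem isOpen_forall_rectified (n : ℕ) :
    IsOpen {y : Y | ∀ x : ↥(f.fiber y), (n : WithBot ℕ∞) ≤
      ((LocCoh.depth (RR f y x) (MM f F y x) : ℕ∞) : WithBot ℕ∞) +
        topologicalKrullDim ↥(closure ({x} : Set ↥(f.fiber y)))} := by
  convert Pre.isOpen_forall (π := fun x : X => f x) f.isClosedMap (isOpen_rectified f F hF hflat n) using 1
  ext y
  exact forall_fiber_iff (f := f) (P := fun s w => (n : WithBot ℕ∞) ≤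
      ((LocCoh.depth (RR f s w) (MM f F s w) : ℕ∞) : WithBot ℕ∞) +
        topologicalKrullDim ↥(closure ({w} : Set ↥(f.fiber s)))) y

theorem isOpen_forall_equiSk (k : ℕ) (hk : 1 ≤ k) :
    IsOpen {y : Y | ∀ x : ↥(f.fiber y),
      EGA4.IsEquidimModule (RR f y x) (MM f F y x) ∧ LocCoh.HasSk k (RR f y x) (MM f F y x)} := by
  convert Pre.isOpen_forall (π := fun x : X => f x) f.isClosedMap (isOpen_equiSk f F hF hflat k hk) using 1
  ext y
  exact forall_fiber_iff (f := f) (P := fun s w =>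
    EGA4.IsEquidimModule (RR f s w) (MM f F s w) ∧ LocCoh.HasSk k (RR f s w) (MM f F s w)) y

theorem isOpen_forall_assDims (Φ : Finset ℕ) :
    IsOpen {y : Y | ∀ z ∈ AssSch.Ass ((Scheme.Modules.pullback (f.fiberι y)).obj F), ∃ n ∈ Φ,
      topologicalKrullDim ↥(closure ({z} : Set ↥(f.fiber y))) = (n : WithBot ℕ∞)} := by
  convert Pre.isOpen_forall (π := fun x : X => f x) f.isClosedMap ((md f F hF hflat).isOpen_ass_dim (Φ : Set ℕ)) using 1
  ext y
  refine (forall_ass_iff f F hF y (fun s w => ∃ n ∈ Φ,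
    topologicalKrullDim ↥(closure ({w} : Set ↥(f.fiber s))) = (n : WithBot ℕ∞))).trans
    (Iff.trans ?_ ((md f F hF hflat).forall_ass_iff (Φ : Set ℕ) y).symm)
  refine forall₂_congr fun z hz => imp_congr_right fun _ => ?_
  rw [dim_closure_asFiber_eq (hasCharts₀_module f F hF) z]
  exact ⟨fun ⟨n, hn, h⟩ => by
    have e : (md f F hF hflat).δ z = n := by exact_mod_cast h
    rw [e]; exact hn, fun h => ⟨_, h, rfl⟩⟩

theorem isOpen_noEmbedded :
    IsOpen {y : Y | AssSch.NoEmbedded ((Scheme.Modules.pullback (f.fiberι y)).obj F)} := by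
  simp only [noEmbedded_iff f F hF]
  exact Pre.isOpen_forall (π := fun x : X => f x) f.isClosedMap ((md f F hF hflat).isOpen_noEmb)

theorem isOpen_compDims (Φ : Finset ℕ) :
    IsOpen {y : Y | ∀ n ∈ Φ, ∃ Z ∈ irreducibleComponents ↥{z : ↥(f.fiber y) | Nontrivial (MM f F y z)},
      topologicalKrullDim ↥Z = (n : WithBot ℕ∞)} := by
  have heq : {y : Y | ∀ n ∈ Φ, ∃ Z ∈ irreducibleComponents ↥{z : ↥(f.fiber y) | Nontrivial (MM f F y z)},
      topologicalKrullDim ↥Z = (n : WithBot ℕ∞)} = ⋂ n ∈ Φ, {y | (md f F hF hflat).HasComp n y} := by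
    ext y
    simp only [Set.mem_ofPred_eq, Set.mem_iInter]
    refine forall₂_congr fun n _ => ?_
    rw [hasComp_iff f F hF y (· = (n : WithBot ℕ∞))]
    exact ⟨fun ⟨m, hm, h⟩ => (show m = n by exact_mod_cast hm) ▸ h, fun h => ⟨n, rfl, h⟩⟩
  rw [heq]
  exact isOpen_biInter_finset fun n _ =>
    (md f F hF hflat).isOpen_hasComp (isOpen_image_S (hasCharts_module f F hF hflat)) n

theorem isOpen_noEmb_compDims (Φ : Finset ℕ) :
    IsOpen {y : Y | AssSch.NoEmbedded ((Scheme.Modules.pullback (f.fiberι y)).obj F) ∧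
      (fun Z : Set ↥{z : ↥(f.fiber y) | Nontrivial (MM f F y z)} => topologicalKrullDim ↥Z) ''
          irreducibleComponents ↥{z : ↥(f.fiber y) | Nontrivial (MM f F y z)} =
        (fun n : ℕ => (n : WithBot ℕ∞)) '' (Φ : Set ℕ)} := by
  convert ((isOpen_noEmbedded f F hF hflat).inter (isOpen_forall_assDims f F hF hflat Φ)).inter
    (isOpen_compDims f F hF hflat Φ) using 1
  ext y
  simp only [Set.mem_inter_iff, Set.mem_ofPred_eq]
  rw [and_assoc]
  refine and_congr_right fun hne => ?_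
  have hmin : ∀ z ∈ (md f F hF hflat).Ass, f z = y → (md f F hF hflat).b z = 0 := fun z hz hzy =>
    ((md f F hF hflat).noEmb_iff z).1 ((noEmbedded_iff f F hF y).1 hne z hzy) z hz specializes_rfl rfl
  have hass : (∀ z ∈ AssSch.Ass ((Scheme.Modules.pullback (f.fiberι y)).obj F), ∃ n ∈ Φ,
      topologicalKrullDim ↥(closure ({z} : Set ↥(f.fiber y))) = (n : WithBot ℕ∞)) ↔
      ∀ z ∈ (md f F hF hflat).Ass, f z = y → (md f F hF hflat).δ z ∈ Φ := by
    rw [forall_ass_iff f F hF y (fun s w => ∃ n ∈ Φ,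
      topologicalKrullDim ↥(closure ({w} : Set ↥(f.fiber s))) = (n : WithBot ℕ∞))]
    refine forall₂_congr fun z hz => imp_congr_right fun _ => ?_
    rw [dim_closure_asFiber_eq (hasCharts₀_module f F hF) z]
    exact ⟨fun ⟨n, hn, h⟩ => by
      have e : (md f F hF hflat).δ z = n := by exact_mod_cast h
      rw [e]; exact hn, fun h => ⟨_, h, rfl⟩⟩
  rw [hass]
  constructor
  · intro h
    refine ⟨fun z hz hzy => ?_, fun n hn => ?_⟩
    · obtain ⟨Z, hZ, hd⟩ := (hasComp_iff f F hF y (· = ((md f F hF hflat).δ z : WithBot ℕ∞))).2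
        ⟨_, rfl, z, hz.1, hzy, hmin z hz hzy, rfl⟩
      obtain ⟨n, hn, he⟩ := h.subset ⟨Z, hZ, rfl⟩
      replace he := he.trans hd
      exact (show (md f F hF hflat).δ z = n from (Nat.cast_inj (R := WithBot ℕ∞)).1 he.symm) ▸ hn
    · exact h.ge ⟨n, hn, rfl⟩
  · rintro ⟨h1, h2⟩
    refine Set.Subset.antisymm ?_ ?_
    · rintro _ ⟨Z, hZ, rfl⟩
      obtain ⟨n, hn, z, hz, hzy, hb, hd⟩ := (hasComp_iff f F hF y (· = topologicalKrullDim ↥Z)).1
        ⟨Z, hZ, rfl⟩
      exact ⟨n, hd ▸ h1 z ((md f F hF hflat).mem_Ass_of_b_eq_zero hz hb) hzy, hn⟩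
    · rintro _ ⟨n, hn, rfl⟩
      exact h2 n hn

theorem isLocallyConstant_dimSupp :
    IsLocallyConstant (fun y : Y => topologicalKrullDim ↥{z : ↥(f.fiber y) | Nontrivial (MM f F y z)}) := by
  set G : Y → WithBot ℕ∞ := fun y => topologicalKrullDim ↥{z : ↥(f.fiber y) | Nontrivial (MM f F y z)}
  let D := md f F hF hflat
  have hopen := isOpen_image_S (hasCharts_module f F hF hflat)
  have key : ∀ (y : Y) (j : ℕ), (j : WithBot ℕ∞) ≤ G y ↔ D.DimGe j y := by
    intro y j
    have hS : {z : ↥(f.fiber y) | Nontrivial (MM f F y z)} = f.fiberι y ⁻¹' D.S :=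
      Set.ext fun w => nontrivial_fiber_iff f F hF y w
    have hcl : IsClosed {z : ↥(f.fiber y) | Nontrivial (MM f F y z)} :=
      hS ▸ D.isClosed_S.preimage (f.fiberι y).continuous
    haveI : QuasiSober ↥{z : ↥(f.fiber y) | Nontrivial (MM f F y z)} :=
      hcl.isClosedEmbedding_subtypeVal.quasiSober
    have hdim : ∀ g : ↥{z : ↥(f.fiber y) | Nontrivial (MM f F y z)},
        topologicalKrullDim ↥(closure ({g} : Set ↥{z : ↥(f.fiber y) | Nontrivial (MM f F y z)})) =
          (D.δ (f.fiberι y g.1) : WithBot ℕ∞) := fun g => by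
      rw [← dim_closure_fiber f F hF y g.1]
      refine (Groth.L22.SchemeDim.topologicalKrullDim_eq_of_isEmbedding
        (f := fun v : (closure ({g} : Set ↥{z : ↥(f.fiber y) | Nontrivial (MM f F y z)})) => v.1.1)
        (IsEmbedding.subtypeVal.comp IsEmbedding.subtypeVal) ?_).symm
      have := hcl.isClosedEmbedding_subtypeVal.isClosedMap.closure_image_eq_of_continuous continuous_subtype_val {g}
      rw [Set.image_singleton] at this
      rw [this]
      ext v
      exact ⟨fun ⟨w, hw⟩ => ⟨w.1, w.2, hw⟩, fun ⟨w, hw, he⟩ => ⟨⟨w, hw⟩, he⟩⟩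
    constructor
    · intro h
      obtain ⟨g, hg⟩ := Groth.L22.FibreDim.exists_le_dim_closure h
      rw [hdim] at hg
      exact ⟨f.fiberι y g.1, (nontrivial_fiber_iff f F hF y g.1).1 g.2,
        (f.range_fiberι y).subset ⟨g.1, rfl⟩, by exact_mod_cast hg⟩
    · rintro ⟨z, hz, hzy, hj⟩
      obtain ⟨g, rfl⟩ := (f.range_fiberι y).ge (show z ∈ f ⁻¹' {y} from hzy)
      let g' : ↥{z : ↥(f.fiber y) | Nontrivial (MM f F y z)} := ⟨g, (nontrivial_fiber_iff f F hF y g).2 hz⟩
      refine le_trans (le_trans ?_ (hdim g').ge) (IsEmbedding.subtypeVal.isInducing.topologicalKrullDim_le)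
      exact_mod_cast hj
  have hbdd : ∀ y : Y, ∃ N : ℕ, ∀ j : ℕ, D.DimGe j y → j ≤ N := by
    intro y
    have hcomp : IsCompact (f ⁻¹' {y}) := by
      rw [← f.range_fiberι y]
      exact isCompact_range (f.fiberι y).continuous
    choose U N hU hxU hN using D.bdd
    obtain ⟨s, hs⟩ := hcomp.elim_finite_subcover U hU fun x _ => Set.mem_iUnion.2 ⟨x, hxU x⟩
    refine ⟨s.sup N, fun j ⟨z, _, hzy, hj⟩ => ?_⟩
    obtain ⟨x, hx, hzU⟩ := Set.mem_iUnion₂.1 (hs (show z ∈ f ⁻¹' {y} from hzy))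
    exact hj.trans (((hN x z hzU).1).trans (Finset.le_sup hx))
  have hclopen := fun j => D.isClopen_dimGe (j := j) f.isClosedMap hopen
  have hiff : ∀ y y' : Y, (∀ j : ℕ, D.DimGe j y ↔ D.DimGe j y') → G y = G y' := fun y y' h => by
    refine eq_of_forall_nat ?_
    intro j
    rw [key, key, h]
  rw [IsLocallyConstant.iff_exists_open]
  intro y
  obtain ⟨N, hN⟩ := hbdd y
  classical
  refine ⟨(⋂ j ∈ Finset.range (N + 2), if D.DimGe j y then {y' | D.DimGe j y'} else {y' | D.DimGe j y'}ᶜ),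
    isOpen_biInter_finset fun j _ => ?_, Set.mem_iInter₂.2 fun j _ => ?_, fun y' hy' => (hiff y y' fun j => ?_).symm⟩
  · split_ifs
    · exact (hclopen j).isOpen
    · exact (hclopen j).isClosed.isOpen_compl
  · split_ifs with h <;> exact h
  · have h1 : ∀ i ≤ N + 1, (D.DimGe i y ↔ D.DimGe i y') := fun i hi => by
      have := Set.mem_iInter₂.1 hy' i (Finset.mem_range.2 (by omega))
      split_ifs at this with h
      · exact iff_of_true h this
      · exact iff_of_false h this
    by_cases hj : j ≤ N + 1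
    · exact h1 j hj
    · refine iff_of_false (fun h => ?_) fun ⟨z, hz, hzy, hd⟩ => ?_
      · have := hN j h; omega
      · have := hN _ ((h1 (N + 1) le_rfl).2 ⟨z, hz, hzy, by omega⟩); omega

end L02.FibDepth
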