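import Groth.Agent.L02.FibDepth.Charts
import Groth.Agent.L02.FibDepth.Fibres
import Groth.Agent.L20.FlatStalk
import Groth.Agent.L07.CIScheme

/-! Openness properties of the local rings of the fibres. -/

set_option autoImplicit false
set_option linter.style.haveILetI false
universe u

open CategoryTheory AlgebraicGeometry IsLocalRing Topology

namespace L02.FibDepth

/-- A ring isomorphism as a semilinear bijection. -/
def semiRing {R S : Type u} [CommRing R] [CommRing S] (e : R ≃+* S) : Semi R R S S where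
  φ := e.toRingHom
  surj := e.surjective
  e := e.toAddEquiv
  map_smul := fun r m => map_mul e r m

variable {X Y : Scheme.{u}} (f : X ⟶ Y)

theorem nonempty_quot_equiv (x : X) : Nonempty
    ((X.presheaf.stalk x ⧸ (maximalIdeal (Y.presheaf.stalk (f x))).map (f.stalkMap x).hom) ≃+* FR f x) := by
  letI := (f.stalkMap x).hom.toAlgebra
  obtain ⟨e⟩ := Groth.L07.CIScheme.exists_fiberStalkEquiv f (f x) (f.asFiber x) x (f.fiberι_asFiber x)
  exact ⟨e⟩

theorem nonempty_FR_openImmersion_comp {U : Scheme.{u}} (j : U ⟶ X) [IsOpenImmersion j] (x : U) :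
    Nonempty (FR (j ≫ f) x ≃+* FR f (j x)) := by
  obtain ⟨e₁⟩ := nonempty_quot_equiv (j ≫ f) x
  obtain ⟨e₂⟩ := nonempty_quot_equiv f (j x)
  let e : X.presheaf.stalk (j x) ≃+* U.presheaf.stalk x := (asIso (j.stalkMap x)).commRingCatIsoToRingEquiv
  have h : ((j ≫ f).stalkMap x).hom = e.toRingHom.comp (f.stalkMap (j x)).hom :=
    congrArg CommRingCat.Hom.hom (Scheme.Hom.stalkMap_comp j f x)
  let q : (X.presheaf.stalk (j x) ⧸ (maximalIdeal (Y.presheaf.stalk (f (j x)))).map (f.stalkMap (j x)).hom) ≃+*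
      (U.presheaf.stalk x ⧸ (maximalIdeal (Y.presheaf.stalk ((j ≫ f) x))).map ((j ≫ f).stalkMap x).hom) :=
    Ideal.quotientEquiv _ _ e (by rw [h]; exact (Ideal.map_map _ e.toRingHom).symm)
  exact ⟨(e₁.symm.trans q.symm).trans e₂⟩

variable [LocallyOfFinitePresentation f]

theorem sk_ring_iff [Flat f] (x : X) (k : ℕ) :
    LocCoh.HasSk k (FR f x) (FR f x) ↔ (data (hasCharts_ring f)).SkOK k x :=
  hasSk_iff_model (hasCharts₀_ring f) x k

theorem isOpen_sk_ring [Flat f] (k : ℕ) : IsOpen {x : X | LocCoh.HasSk k (FR f x) (FR f x)} := by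
  simp only [sk_ring_iff f]
  exact (data (hasCharts_ring f)).isOpen_sk k

theorem codepth_ring_iff [Flat f] (x : X) (n : ℕ) :
    ringKrullDim (FR f x) ≤ ((LocCoh.depth (FR f x) (FR f x) : ℕ∞) : WithBot ℕ∞) + n ↔
      (data (hasCharts_ring f)).b x ≤ (data (hasCharts_ring f)).a x + n := by
  classical
  have hx : Nontrivial (FM f (RR f) x) := (inferInstance : Nontrivial (FR f x))
  rw [← Module.supportDim_self_eq_ringKrullDim, show LocCoh.depth (FR f x) (FR f x) = _ from
    (depth_eq_model (hasCharts₀_ring f) x).trans (if_pos hx),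
    show Module.supportDim (FR f x) (FR f x) = _ from supportDim_eq_model (hasCharts₀_ring f) x hx]
  exact ⟨fun h => by exact_mod_cast h, fun h => by exact_mod_cast h⟩

theorem isOpen_codepth_ring [Flat f] (n : ℕ) : IsOpen {x : X |
    ringKrullDim (FR f x) ≤ ((LocCoh.depth (FR f x) (FR f x) : ℕ∞) : WithBot ℕ∞) + n} := by
  simp only [codepth_ring_iff f]
  convert (data (hasCharts_ring f)).isOpen_codepth_le n using 1
  ext x
  exact ⟨fun h _ => h, fun h => h (inferInstance : Nontrivial (FR f x))⟩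

theorem isOpen_flat_and {P : ∀ (R : Type u) [CommRing R] [IsLocalRing R], Prop}
    (hinv : ∀ (R S : Type u) [CommRing R] [CommRing S] [IsLocalRing R] [IsLocalRing S], (R ≃+* S) → P R → P S)
    (hopen : ∀ {X Y : Scheme.{u}} (f : X ⟶ Y) [LocallyOfFinitePresentation f] [Flat f],
      IsOpen {x : X | P (FR f x)}) :
    IsOpen {x : X | (f.stalkMap x).hom.Flat ∧ P (FR f x)} := by
  let O : X.Opens := ⟨{y | (f.stalkMap y).hom.Flat}, Groth.L20.isOpen_flat_stalkMap f⟩
  haveI : Flat (O.ι ≫ f) := by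
    refine (Flat.iff_flat_stalkMap _).mpr fun y => ?_
    rw [Scheme.Hom.stalkMap_comp]
    exact RingHom.Flat.comp y.2 (RingHom.Flat.of_bijective
      (ConcreteCategory.bijective_of_isIso (O.ι.stalkMap y)))
  have h : {x : X | (f.stalkMap x).hom.Flat ∧ P (FR f x)} = O.ι '' {x | P (FR (O.ι ≫ f) x)} := by
    ext x
    constructor
    · rintro ⟨hx, hP⟩
      obtain ⟨e⟩ := nonempty_FR_openImmersion_comp f O.ι ⟨x, hx⟩
      exact ⟨⟨x, hx⟩, hinv _ _ e.symm hP, rfl⟩
    · rintro ⟨z, hz, rfl⟩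
      obtain ⟨e⟩ := nonempty_FR_openImmersion_comp f O.ι z
      exact ⟨z.2, hinv _ _ e hz⟩
  rw [h]
  exact O.ι.isOpenEmbedding.isOpenMap _ (hopen (O.ι ≫ f))

end L02.FibDepth
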