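import Groth.Agent.L02.FibDepth.ConstructibleP
import Groth.Agent.L02.FibDepth.Results
import Groth.Agent.L02.FibDepth.RingResults
import Groth.Agent.L02.Cons.CMFibre

/-! Constructibility of the loci of the rectified fibre invariants. -/

set_option autoImplicit false
set_option linter.style.haveILetI false
universe u

open CategoryTheory AlgebraicGeometry Topology

namespace L02.FibDepth

/-- Boolean combinations on a local model, uniformly in the module. -/
theorem isConstructible_ZP {A : Type u} [CommRing A] {d : ℕ} (N : Type u) [AddCommGroup N] [Module (P A d) N]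
    [Module.FinitePresentation (P A d) N] (m c : ℕ) : IsConstructible (ZP d m c A N) :=
  isConstructible_good (ZP_good d m c) A N

theorem isConstructible_LP {A : Type u} [CommRing A] {d : ℕ} (N : Type u) [AddCommGroup N] [Module (P A d) N]
    [Module.FinitePresentation (P A d) N] (m c n : ℕ) : IsConstructible (LP d m c n A N) :=
  isConstructible_good (LP_good d m c n) A N

variable {X Y : Scheme.{u}} {f : X ⟶ Y} [LocallyOfFiniteType f] {R : X → Type u} [∀ x, CommRing (R x)]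
  [∀ x, IsLocalRing (R x)] {M : X → Type u} [∀ x, AddCommGroup (M x)] [∀ x, Module (R x) (M x)]
  (hc : HasCharts₀ f R M)

/-- The set `a + δ ≤ m`, `c ≤ b + δ` of the support. -/
def ZS (m c : ℕ) : Set X := {x | x ∈ (preData hc).S ∧ (preData hc).a x + (preData hc).δ x ≤ m ∧
  c ≤ (preData hc).b x + (preData hc).δ x}

/-- The points with a generisation in `ZS` of fibre dimension at least `n`. -/
def LS (m c n : ℕ) : Set X := LD (fun x : X => f x) (preData hc).δ (ZS hc m c) n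

/-- A point on a chart. -/
theorem mem_ZS_iff {x : X} (ch : Chart f R M x) (z : ch.U) (m c : ℕ) :
    z.1 ∈ ZS hc m c ↔ ch.j z ∈ ZP ch.d m c ch.A ch.N := by
  refine (and_congr_left' (ch.nontrivial_iff z)).trans (and_congr_right fun hz => ?_)
  obtain ⟨h1, h2, h3, -⟩ := ch.values z ((ch.nontrivial_iff z).2 hz)
  obtain ⟨ha, hb, -⟩ := point_values hz
  rw [h2] at ha
  rw [h3] at hb
  rw [delta_eq_dP] at h1
  have e1 : aN R M z.1 = aP ch.N (ch.j z) := by exact_mod_cast ha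
  have e2 : bN R M z.1 = bP ch.N (ch.j z) := by exact_mod_cast hb
  have e3 : dP (ch.j z) = dl f z.1 := by exact_mod_cast h1
  show aN R M z.1 + dl f z.1 ≤ m ∧ c ≤ bN R M z.1 + dl f z.1 ↔ _
  rw [e1, e2, e3]

theorem mem_LS_iff {x : X} (ch : Chart f R M x) (z : ch.U) (m c n : ℕ) :
    z.1 ∈ LS hc m c n ↔ ch.j z ∈ LP ch.d m c n ch.A ch.N := by
  have hd : ∀ w : ch.U, dP (ch.j w) = dl f w.1 := fun w => by
    have h := ch.dl_eq w
    rw [delta_eq_dP] at h
    exact_mod_cast h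
  constructor
  · rintro ⟨w, hw, hwz, hp, hn⟩
    let wU : ch.U := ⟨w, hwz.mem_open ch.U.2 z.2⟩
    exact ⟨ch.j wU, (mem_ZS_iff hc ch wU m c).1 hw, (IsInducing.subtypeVal.specializes_iff.1
      (show wU.1 ⤳ z.1 from hwz)).map ch.closedEmbedding.continuous, (ch.comap_eq_iff wU z).2 hp,
      (hd wU).symm ▸ hn⟩
  · rintro ⟨v, hv, hvz, hp, hn⟩
    obtain ⟨w, rfl⟩ := ch.support_subset hv.1
    refine ⟨w.1, (mem_ZS_iff hc ch w m c).2 hv, (ch.closedEmbedding.isInducing.specializes_iff.1 hvz).map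
      continuous_subtype_val, (ch.comap_eq_iff w z).1 hp, ?_⟩
    rw [hd] at hn
    exact hn

theorem δ_le_d {x : X} (ch : Chart f R M x) (z : ch.U) : (preData hc).δ z.1 ≤ ch.d := by
  obtain ⟨δ, hδ, hle⟩ := delta_nat (A := ch.A) (d := ch.d) (ch.j z)
  rw [ch.dl_eq] at hδ
  have : dl f z.1 = δ := by exact_mod_cast hδ
  show dl f z.1 ≤ ch.d
  omega

theorem sum_le_d {x : X} (ch : Chart f R M x) (z : ch.U) (hz : z.1 ∈ (preData hc).S) :
    (preData hc).a z.1 + (preData hc).δ z.1 ≤ ch.d := (ch.values z hz).2.2.2.2.2.1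

include hc in
theorem isLocallyConstructible_of_charts {E : Set X}
    (h : ∀ (x : X) (ch : Chart f R M x), ∃ T : Set (PrimeSpectrum (P ch.A ch.d)), IsConstructible T ∧
      ∀ z : ch.U, z.1 ∈ E ↔ ch.j z ∈ T) : IsLocallyConstructible E := by
  intro x
  obtain ⟨ch⟩ := hc x
  obtain ⟨T, hT, hE⟩ := h x ch
  refine ⟨ch.U, ch.U.2.mem_nhds ch.mem, ch.U.2, ?_⟩
  have he : ch.j ⁻¹' T = (Subtype.val ⁻¹' E : Set ch.U) := Set.ext fun z => (hE z).symm
  have := ch.constructible_preimage T hT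
  rw [he] at this
  exact this

theorem isConstructible_biUnion_range {T : Type*} [TopologicalSpace T] (N : ℕ) (s : ℕ → Set T)
    (h : ∀ i, IsConstructible (s i)) : IsConstructible (⋃ i ∈ Finset.range N, s i) :=
  IsConstructible.biUnion (Finset.range N).finite_toSet fun i _ => h i

include hc in
theorem isLocallyConstructible_sk_fail (k : ℕ) :
    IsLocallyConstructible {x | ¬ (preData hc).SkOK k x} := by
  refine isLocallyConstructible_of_charts hc fun x ch =>
    ⟨⋃ m ∈ Finset.range (ch.d + 1), LP ch.d m (m + 1) (m + 1 - k) ch.A ch.N,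
      isConstructible_biUnion_range _ _ fun m => isConstructible_LP _ _ _ _, fun z => ?_⟩
  simp only [Set.mem_iUnion₂, ← mem_LS_iff hc ch z, Finset.mem_range, Nat.lt_succ_iff]
  constructor
  · intro hz
    simp only [Pre.SkOK, Set.mem_ofPred_eq, not_forall] at hz
    obtain ⟨w, hw, hwz, hp, hlt⟩ := hz
    exact ⟨(preData hc).a w + (preData hc).δ w, sum_le_d hc ch ⟨w, hwz.mem_open ch.U.2 z.2⟩ hw,
      w, ⟨hw, le_rfl, by omega⟩, hwz, hp, by omega⟩
  · rintro ⟨m, -, w, ⟨hw, h1, h2⟩, hwz, hp, hn⟩ hok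
    have := hok w hw hwz hp
    omega

/-- Both rectified invariants are prescribed. -/
def EqPair (m c : ℕ) : Set X := {x | x ∈ (preData hc).S ∧ (preData hc).a x + (preData hc).δ x = m ∧
  (preData hc).b x + (preData hc).δ x = c}

include hc in
theorem isLocallyConstructible_codepth_eq (n : ℕ) :
    IsLocallyConstructible {x | x ∈ (preData hc).S ∧ (preData hc).b x = (preData hc).a x + n} := by
  refine isLocallyConstructible_of_charts hc fun x ch =>
    ⟨⋃ m ∈ Finset.range (ch.d + 1), (ZP ch.d m (m + n) ch.A ch.N \ ZP ch.d m (m + n + 1) ch.A ch.N) \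
      ⋃ i ∈ Finset.range m, ZP ch.d i 0 ch.A ch.N,
      isConstructible_biUnion_range _ _ fun m => ((isConstructible_ZP _ _ _).sdiff (isConstructible_ZP _ _ _)).sdiff
        (isConstructible_biUnion_range _ _ fun i => isConstructible_ZP _ _ _), fun z => ?_⟩
  simp only [Set.mem_iUnion₂, Set.mem_sdiff, ← mem_ZS_iff hc ch z, Finset.mem_range, Nat.lt_succ_iff,
    not_exists, ZS, Set.mem_ofPred_eq]
  constructor
  · rintro ⟨hz, hb⟩
    exact ⟨_, sum_le_d hc ch z hz, ⟨⟨hz, le_rfl, by omega⟩, fun h => by have := h.2.2; omega⟩,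
      fun i hi h => by have := h.2.1; omega⟩
  · rintro ⟨m, -, ⟨⟨hz, h1, h2⟩, h3⟩, h4⟩
    have h5 : (preData hc).a z.1 + (preData hc).δ z.1 = m := by
      by_contra hne
      exact h4 _ (lt_of_le_of_ne h1 hne) ⟨hz, le_rfl, Nat.zero_le _⟩
    have h6 : ¬ m + n + 1 ≤ (preData hc).b z.1 + (preData hc).δ z.1 := fun h => h3 ⟨hz, h1, h⟩
    exact ⟨hz, by omega⟩

include hc in
theorem isLocallyConstructible_S : IsLocallyConstructible (preData hc).S := by
  refine isLocallyConstructible_of_charts hc fun x ch =>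
    ⟨ZP ch.d ch.d 0 ch.A ch.N, isConstructible_ZP _ _ _, fun z => ?_⟩
  rw [← mem_ZS_iff hc ch z]
  exact ⟨fun hz => ⟨hz, sum_le_d hc ch z hz, Nat.zero_le _⟩, fun h => h.1⟩

include hc in
theorem isLocallyConstructible_rect_eq (n : ℕ) :
    IsLocallyConstructible {x | x ∈ (preData hc).S ∧ (preData hc).a x + (preData hc).δ x = n} := by
  refine isLocallyConstructible_of_charts hc fun x ch =>
    ⟨ZP ch.d n 0 ch.A ch.N \ ⋃ i ∈ Finset.range n, ZP ch.d i 0 ch.A ch.N,
      (isConstructible_ZP _ _ _).sdiff (isConstructible_biUnion_range _ _ fun i => isConstructible_ZP _ _ _),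
      fun z => ?_⟩
  simp only [Set.mem_iUnion₂, Set.mem_sdiff, ← mem_ZS_iff hc ch z, Finset.mem_range, not_exists, ZS,
    Set.mem_ofPred_eq]
  constructor
  · rintro ⟨hz, h⟩
    exact ⟨⟨hz, h.le, Nat.zero_le _⟩, fun i hi h' => by have := h'.2.1; omega⟩
  · rintro ⟨⟨hz, h1, -⟩, h2⟩
    refine ⟨hz, ?_⟩
    by_contra hne
    exact h2 _ (lt_of_le_of_ne h1 hne) ⟨hz, le_rfl, Nat.zero_le _⟩

include hc in
theorem isLocallyConstructible_dim_eq (n : ℕ) :
    IsLocallyConstructible {x | x ∈ (preData hc).S ∧ (preData hc).b x + (preData hc).δ x = n} := by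
  refine isLocallyConstructible_of_charts hc fun x ch =>
    ⟨ZP ch.d ch.d n ch.A ch.N \ ZP ch.d ch.d (n + 1) ch.A ch.N,
      (isConstructible_ZP _ _ _).sdiff (isConstructible_ZP _ _ _), fun z => ?_⟩
  simp only [Set.mem_sdiff, ← mem_ZS_iff hc ch z, ZS, Set.mem_ofPred_eq]
  constructor
  · rintro ⟨hz, h⟩
    exact ⟨⟨hz, sum_le_d hc ch z hz, h.ge⟩, fun h' => by have := h'.2.2; omega⟩
  · rintro ⟨⟨hz, h1, h2⟩, h3⟩
    have h6 : ¬ n + 1 ≤ (preData hc).b z.1 + (preData hc).δ z.1 := fun h => h3 ⟨hz, h1, h⟩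
    exact ⟨hz, by omega⟩

include hc in
theorem isLocallyConstructible_assDim (j : ℕ) : IsLocallyConstructible ((preData hc).AssDim j) := by
  refine isLocallyConstructible_of_charts hc fun x ch =>
    ⟨LP ch.d j 0 j ch.A ch.N, isConstructible_LP _ _ _ _, fun z => ?_⟩
  rw [← mem_LS_iff hc ch z]
  constructor
  · rintro ⟨w, ⟨hw, h1⟩, h2, h3, h4⟩
    exact ⟨w, ⟨hw, h1, Nat.zero_le _⟩, h2, h3, h4⟩
  · rintro ⟨w, ⟨hw, h1, -⟩, h2, h3, h4⟩
    exact ⟨w, ⟨hw, h1⟩, h2, h3, h4⟩

include hc in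
theorem isLocallyConstructible_emb : IsLocallyConstructible {x | ¬ (preData hc).NoEmb x} := by
  refine isLocallyConstructible_of_charts hc fun x ch =>
    ⟨⋃ i ∈ Finset.range (ch.d + 1), LP ch.d i (i + 1) i ch.A ch.N,
      isConstructible_biUnion_range _ _ fun i => isConstructible_LP _ _ _ _, fun z => ?_⟩
  simp only [Set.mem_iUnion₂, ← mem_LS_iff hc ch z, Finset.mem_range, Nat.lt_succ_iff, Set.mem_ofPred_eq,
    Pre.noEmb_iff, not_forall]
  constructor
  · rintro ⟨w, hw, hwz, hp, hb⟩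
    have ha : (preData hc).a w = 0 := hw.2
    refine ⟨(preData hc).δ w, δ_le_d hc ch ⟨w, hwz.mem_open ch.U.2 z.2⟩, w, ⟨hw.1, by omega, ?_⟩, hwz, hp, le_rfl⟩
    omega
  · rintro ⟨i, -, w, ⟨hw, h1, h2⟩, hwz, hp, hn⟩
    exact ⟨w, ⟨hw, by omega⟩, hwz, hp, by omega⟩

include hc in
theorem isLocallyConstructible_assDim_union (p : ℕ → Prop) :
    IsLocallyConstructible {x | ∃ j, p j ∧ x ∈ (preData hc).AssDim j} := by
  classical
  refine isLocallyConstructible_of_charts hc fun x ch =>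
    ⟨⋃ j ∈ Finset.range (ch.d + 1), if p j then LP ch.d j 0 j ch.A ch.N else ∅,
      isConstructible_biUnion_range _ _ fun j => by
        split_ifs
        · exact isConstructible_LP _ _ _ _
        · exact IsConstructible.empty, fun z => ?_⟩
  simp only [Set.mem_iUnion₂, Finset.mem_range, Nat.lt_succ_iff, Set.mem_ofPred_eq]
  have key : ∀ j, z.1 ∈ (preData hc).AssDim j ↔ ch.j z ∈ LP ch.d j 0 j ch.A ch.N := fun j => by
    rw [← mem_LS_iff hc ch z]
    exact ⟨fun ⟨w, ⟨hw, h1⟩, h⟩ => ⟨w, ⟨hw, h1, Nat.zero_le _⟩, h⟩, fun ⟨w, ⟨hw, h1, _⟩, h⟩ => ⟨w, ⟨hw, h1⟩, h⟩⟩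
  constructor
  · rintro ⟨j, hj, hz⟩
    refine ⟨j, ?_, by rw [if_pos hj]; exact (key j).1 hz⟩
    obtain ⟨w, -, hwz, -, rfl⟩ := (preData hc).mem_AssDim.1 hz
    exact δ_le_d hc ch ⟨w, hwz.mem_open ch.U.2 z.2⟩
  · rintro ⟨j, -, hz⟩
    split_ifs at hz with hj
    · exact ⟨j, hj, (key j).2 hz⟩
    · exact absurd hz (Set.notMem_empty _)

include hc in
theorem isLocallyConstructible_dim_union (p : ℕ → Prop) :
    IsLocallyConstructible {x | x ∈ (preData hc).S ∧ p ((preData hc).b x + (preData hc).δ x)} := by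
  classical
  refine isLocallyConstructible_of_charts hc fun x ch =>
    ⟨⋃ n ∈ Finset.range (ch.d + 1), if p n then ZP ch.d ch.d n ch.A ch.N \ ZP ch.d ch.d (n + 1) ch.A ch.N else ∅,
      isConstructible_biUnion_range _ _ fun j => by
        split_ifs
        · exact (isConstructible_ZP _ _ _).sdiff (isConstructible_ZP _ _ _)
        · exact IsConstructible.empty, fun z => ?_⟩
  simp only [Set.mem_iUnion₂, Finset.mem_range, Nat.lt_succ_iff, Set.mem_ofPred_eq]
  constructor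
  · rintro ⟨hz, hp⟩
    refine ⟨_, ?_, by
      rw [if_pos hp, Set.mem_sdiff, ← mem_ZS_iff hc ch z, ← mem_ZS_iff hc ch z]
      exact ⟨⟨hz, sum_le_d hc ch z hz, le_rfl⟩, fun h => by have := h.2.2; omega⟩⟩
    obtain ⟨w, hw, hwz, -, hd⟩ := ((preData hc).le_iff z.1 hz _).1 le_rfl
    exact hd.trans (δ_le_d hc ch ⟨w, hwz.mem_open ch.U.2 z.2⟩)
  · rintro ⟨n, -, hz⟩
    split_ifs at hz with hp
    · rw [Set.mem_sdiff, ← mem_ZS_iff hc ch z, ← mem_ZS_iff hc ch z] at hz
      obtain ⟨⟨hS, h1, h2⟩, h3⟩ := hz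
      have h6 : ¬ n + 1 ≤ (preData hc).b z.1 + (preData hc).δ z.1 := fun h => h3 ⟨hS, h1, h⟩
      exact ⟨hS, (show n = (preData hc).b z.1 + (preData hc).δ z.1 by omega) ▸ hp⟩
    · exact absurd hz (Set.notMem_empty _)

end L02.FibDepth
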