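import Groth.Agent.L02.FibDepth.BaseChange
import Groth.Agent.L02.FibDepth.Abstract
import Groth.Agent.L06.Constr
import Groth.Agent.L02.Cons.Fibrewise
import Groth.Agent.L20.GenericFreeness
import Mathlib.RingTheory.MvPolynomial.Localization
import Mathlib.RingTheory.Polynomial.Basic
import Mathlib.RingTheory.Localization.Away.Basic

/-! Constructibility of the rectified fibre invariants of a module over a polynomial algebra. -/

set_option autoImplicit false
set_option linter.style.haveILetI false
set_option maxSynthPendingDepth 3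
universe u

open CategoryTheory TensorProduct Topology PrimeSpectrum
open Groth.L15.FibrePdSemi (D)

namespace L02.FibDepth

section Values

variable {A : Type u} [CommRing A] {d : ℕ} (M : Type u) [AddCommGroup M] [Module (P A d) M]

/-- The dimension of the closure in the fibre. -/
noncomputable def dP (q : PrimeSpectrum (P A d)) : ℕ := ((delta A d q).unbotD 0).toNat

/-- The depth of the local fibre. -/
noncomputable def aP (q : PrimeSpectrum (P A d)) : ℕ := (dep M q).toNat

/-- The dimension of the local fibre. -/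
noncomputable def bP (q : PrimeSpectrum (P A d)) : ℕ := ((sdim M q).unbotD 0).toNat

theorem delta_eq_dP (q : PrimeSpectrum (P A d)) : delta A d q = (dP q : WithBot ℕ∞) := by
  obtain ⟨δ, hδ, -⟩ := delta_nat (A := A) (d := d) q
  rw [dP, hδ]
  rfl

theorem dP_le (q : PrimeSpectrum (P A d)) : dP q ≤ d := by
  obtain ⟨δ, hδ, hle⟩ := delta_nat (A := A) (d := d) q
  rw [delta_eq_dP] at hδ
  have : dP q = δ := by exact_mod_cast hδ
  omega

variable {M} [Module.Finite (P A d) M]

theorem point_values {q : PrimeSpectrum (P A d)} (hq : q ∈ Module.support (P A d) M) :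
    dep M q = (aP M q : ℕ∞) ∧ sdim M q = (bP M q : WithBot ℕ∞) ∧ aP M q + dP q ≤ d ∧ aP M q ≤ bP M q ∧
      (∀ j : ℕ, j ≤ bP M q + dP q ↔ ∃ z ∈ Module.support (P A d) M, z ⤳ q ∧
        comap (algebraMap A (P A d)) z = comap (algebraMap A (P A d)) q ∧ j ≤ dP z) := by
  obtain ⟨δ, a, b, hδ, ha, hb, had, hab, -, hj⟩ := point hq
  have ea : aP M q = a := by rw [aP, ha]; rfl
  have eb : bP M q = b := by rw [bP, hb]; rfl
  have ed : dP q = δ := by rw [delta_eq_dP] at hδ; exact_mod_cast hδ
  subst ea eb ed
  refine ⟨ha, hb, had, hab, fun j => (hj j).trans ?_⟩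
  simp only [delta_eq_dP, Nat.cast_le]

/-- The numerical data of a flat module. -/
noncomputable def dataP [Module A M] [IsScalarTower A (P A d) M] [Module.FinitePresentation (P A d) M]
    [Module.Flat A M] : Data (fun q : PrimeSpectrum (P A d) => comap (algebraMap A (P A d)) q) where
  S := Module.support (P A d) M
  δ := dP
  a := aP M
  b := bP M
  isClosed_S := Module.isClosed_support
  isOpen_le := fun m => by
    convert isOpen_le_dep (A := A) (d := d) (M := M) m using 1
    ext q
    refine ⟨fun h hq δ a hδ ha => ?_, fun h hq => h hq _ _ (delta_eq_dP q) (point_values hq).1⟩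
    have h1 := h hq
    rw [delta_eq_dP] at hδ
    rw [(point_values hq).1] at ha
    have e1 : dP q = δ := by exact_mod_cast hδ
    have e2 : aP M q = a := by exact_mod_cast ha
    omega
  le_iff := fun _ hq j => (point_values hq).2.2.2.2 j
  a_le_b := fun _ hq => (point_values hq).2.2.2.1
  strict := fun q z hzq hp hne => by
    have := delta_lt hzq hp hne
    rw [delta_eq_dP, delta_eq_dP] at this
    exact_mod_cast this
  isClosed_LD := fun Z hZ n => by
    convert isClosed_LD (A := A) (d := d) hZ n using 1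
    ext q
    simp only [LD, Set.mem_ofPred_eq, delta_eq_dP, Nat.cast_le]
  bdd := fun _ => ⟨Set.univ, d, isOpen_univ, trivial, fun z _ => ⟨dP_le z, fun hz => (point_values hz).2.2.1⟩⟩

end Values

/-- A property of the points of affine space relative to a module. -/
abbrev MProp (d : ℕ) := ∀ (A : Type u) [CommRing A] (M : Type u) [AddCommGroup M] [Module (P A d) M],
  Set (PrimeSpectrum (P A d))

/-- The conditions which make a property of points constructible. -/
structure MProp.Good {d : ℕ} (T : MProp.{u} d) : Prop where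
  iso : ∀ (A : Type u) [CommRing A] (M N : Type u) [AddCommGroup M] [Module (P A d) M] [AddCommGroup N]
    [Module (P A d) N], Nonempty (M ≃ₗ[P A d] N) → T A M = T A N
  bc : ∀ (A A' : Type u) [CommRing A] [CommRing A'] [Algebra A A'] (M : Type u) [AddCommGroup M]
    [Module (P A d) M] [Module.FinitePresentation (P A d) M],
    letI := polyAlg (A := A) (d := d) A'
    T A' (bcMod (A := A) (d := d) A' M) = comap (algebraMap (P A d) (P A' d)) ⁻¹' T A M
  flat : ∀ (A : Type u) [CommRing A] [IsNoetherianRing A] (M : Type u) [AddCommGroup M] [Module (P A d) M]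
    [Module A M] [IsScalarTower A (P A d) M] [Module.Finite (P A d) M] [Module.Flat A M],
    IsConstructible (T A M)

attribute [local instance] MvPolynomial.algebraMvPolynomial in
theorem isPushout_poly (d : ℕ) (B Bf : Type u) [CommRing B] [CommRing Bf] [Algebra B Bf] :
    Algebra.IsPushout B Bf (MvPolynomial (Fin d) B) (MvPolynomial (Fin d) Bf) := inferInstance

theorem flat_bcMod_away {d : ℕ} (B : Type u) [CommRing B] (M : Type u) [AddCommGroup M] [Module (P B d) M]
    [Module B M] [IsScalarTower B (P B d) M] (f : B)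
    [Module.Free (Localization.Away f) (Localization.Away f ⊗[B] M)] :
    Module.Flat (Localization.Away f) (bcMod (A := B) (d := d) (Localization.Away f) M) := by
  let Bf := Localization.Away f
  letI := polyAlg (A := B) (d := d) Bf
  haveI : IsScalarTower B (P B d) (P Bf d) := IsScalarTower.of_algebraMap_eq fun x => by
    show algebraMap B (P Bf d) x = MvPolynomial.map (algebraMap B Bf) (MvPolynomial.C x)
    rw [MvPolynomial.map_C]
    rfl
  haveI : Algebra.IsPushout B Bf (P B d) (P Bf d) := isPushout_poly d B Bf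
  exact Module.Flat.of_linearEquiv (Algebra.IsPushout.cancelBaseChange B Bf (P B d) (P Bf d) M)

theorem isConstructible_of_noetherian {d : ℕ} {T : MProp.{u} d} (hT : T.Good) (A : Type u) [CommRing A]
    [IsNoetherianRing A] (M : Type u) [AddCommGroup M] [Module (P A d) M] [Module.Finite (P A d) M] :
    IsConstructible (T A M) := by
  classical
  haveI : Module.FinitePresentation (P A d) M := Module.finitePresentation_of_finite _ _
  let π := comap (algebraMap A (P A d))
  suffices ∀ C : Set (PrimeSpectrum A), IsClosed C → IsConstructible (T A M ∩ π ⁻¹' C) by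
    simpa using this _ isClosed_univ
  intro C hC
  refine Groth.L06.Constr.closed_induction (P := fun C => IsConstructible (T A M ∩ π ⁻¹' C)) ?_ ?_ ?_ hC
  · simp
  · intro C hC hirr ih
    obtain ⟨p, hp⟩ := QuasiSober.sober hirr hC
    let B := A ⧸ p.asIdeal
    haveI : IsDomain B := Ideal.Quotient.isDomain _
    letI := polyAlg (A := A) (d := d) B
    let φ : P A d →+* P B d := algebraMap (P A d) (P B d)
    have hφ : Function.Surjective φ := MvPolynomial.map_surjective _ Ideal.Quotient.mk_surjective
    let MB := bcMod (A := A) (d := d) B M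
    haveI : Module.Finite (P B d) MB := inferInstance
    obtain ⟨f, hf0, hfree, -⟩ := Groth.L20.GF.exists_free_and_nearlyFP (R := B) (S := P B d) MB
    obtain ⟨f₀, rfl⟩ := Ideal.Quotient.mk_surjective f
    let Bf := Localization.Away (Ideal.Quotient.mk p.asIdeal f₀)
    haveI := hfree
    haveI : IsNoetherianRing Bf := IsLocalization.isNoetherianRing (Submonoid.powers (Ideal.Quotient.mk p.asIdeal f₀)) _ inferInstance
    letI : Algebra (P B d) (P Bf d) := polyAlg (A := B) (d := d) Bf
    let MBf := bcMod (A := B) (d := d) Bf MB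
    haveI : Module.Finite (P Bf d) MBf := inferInstance
    haveI : Module.FinitePresentation (P B d) MB := Module.finitePresentation_of_finite _ _
    haveI : Module.Flat Bf MBf := flat_bcMod_away B MB (Ideal.Quotient.mk p.asIdeal f₀)
    have hK := hT.flat Bf MBf
    rw [hT.bc B Bf MB, hT.bc A B M] at hK
    let ψ : P B d →+* P Bf d := algebraMap (P B d) (P Bf d)
    haveI hloc : IsLocalization.Away (MvPolynomial.C (σ := Fin d) (Ideal.Quotient.mk p.asIdeal f₀)) (P Bf d) := by
      letI : Algebra (MvPolynomial (Fin d) B) (MvPolynomial (Fin d) Bf) := MvPolynomial.algebraMvPolynomial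
      show IsLocalization (Submonoid.powers (MvPolynomial.C (σ := Fin d) (Ideal.Quotient.mk p.asIdeal f₀))) (P Bf d)
      rw [← Submonoid.map_powers (MvPolynomial.C (σ := Fin d) (R := B))]
      exact MvPolynomial.isLocalization (M := Submonoid.powers (Ideal.Quotient.mk p.asIdeal f₀)) (S := Bf)
    have hψfp : ψ.FinitePresentation :=
      RingHom.finitePresentation_algebraMap.2
        (IsLocalization.Away.finitePresentation (MvPolynomial.C (σ := Fin d) (Ideal.Quotient.mk p.asIdeal f₀)))
    have himg := PrimeSpectrum.isConstructible_comap_image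
      (RingHom.FinitePresentation.comp hψfp (RingHom.FinitePresentation.of_surjective φ hφ (IsNoetherian.noetherian _))) hK
    have hr1 : ∀ q : PrimeSpectrum (P A d), q ∈ Set.range (comap φ) ↔ π q ∈ closure {p} := fun q => by
      rw [range_comap_of_surjective _ φ hφ, mem_zeroLocus, PrimeSpectrum.closure_singleton, mem_zeroLocus,
        show RingHom.ker φ = (RingHom.ker (Ideal.Quotient.mk p.asIdeal)).map MvPolynomial.C from
          MvPolynomial.ker_map _, Ideal.mk_ker]
      exact Ideal.map_le_iff_le_comap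
    have hr2 : ∀ q : PrimeSpectrum (P B d), q ∈ Set.range (comap ψ) ↔
        π (comap φ q) ∈ (basicOpen f₀ : Set (PrimeSpectrum A)) := fun q => by
      rw [PrimeSpectrum.localization_away_comap_range (P Bf d)
        (MvPolynomial.C (σ := Fin d) (Ideal.Quotient.mk p.asIdeal f₀))]
      show MvPolynomial.C (Ideal.Quotient.mk p.asIdeal f₀) ∉ q.asIdeal ↔ φ (algebraMap A (P A d) f₀) ∉ q.asIdeal
      rw [show φ (algebraMap A (P A d) f₀) = MvPolynomial.C (Ideal.Quotient.mk p.asIdeal f₀) from
        MvPolynomial.map_C _ _]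
    have heq : comap (ψ.comp φ) '' (comap ψ ⁻¹' (comap φ ⁻¹' T A M)) = T A M ∩ π ⁻¹' (C ∩ basicOpen f₀) := by
      ext q
      constructor
      · rintro ⟨w, hw, rfl⟩
        rw [comap_comp_apply]
        exact ⟨hw, hp.def ▸ (hr1 _).1 ⟨_, rfl⟩, (hr2 _).1 ⟨w, rfl⟩⟩
      · rintro ⟨hq, hqC, hqf⟩
        obtain ⟨v, rfl⟩ := (hr1 q).2 (hp.def.symm ▸ hqC)
        obtain ⟨w, rfl⟩ := (hr2 v).2 hqf
        exact ⟨w, hq, comap_comp_apply φ ψ w⟩
    have hsub : C \ basicOpen f₀ ⊂ C := Groth.L06.Constr.sdiff_ssubset_of_nonempty ⟨p,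
      fun h => hf0 (Ideal.Quotient.eq_zero_iff_mem.2 h), hp.mem⟩
    have hsplit : T A M ∩ π ⁻¹' C = (T A M ∩ π ⁻¹' (C ∩ basicOpen f₀)) ∪ (T A M ∩ π ⁻¹' (C \ basicOpen f₀)) := by
      rw [← Set.inter_union_distrib_left, ← Set.preimage_union, Set.inter_union_sdiff]
    show IsConstructible (T A M ∩ π ⁻¹' C)
    rw [hsplit]
    exact (heq ▸ himg).union (ih _ (hC.sdiff (basicOpen f₀).2) hsub)
  · intro C D _ _ hC hD
    rw [Set.preimage_union, Set.inter_union_distrib_left]
    exact hC.union hD

/-- Finitely presented modules over a polynomial algebra descend to a Noetherian base. -/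
theorem exists_model {d : ℕ} (A : Type u) [CommRing A] (M : Type u) [AddCommGroup M] [Module (P A d) M]
    [Module.FinitePresentation (P A d) M] :
    ∃ (A₀ : Type u) (_ : CommRing A₀) (_ : IsNoetherianRing A₀) (_ : Algebra A₀ A) (M₀ : Type u)
      (_ : AddCommGroup M₀) (_ : Module (P A₀ d) M₀) (_ : Module.Finite (P A₀ d) M₀),
      Nonempty (bcMod (A := A₀) (d := d) A M₀ ≃ₗ[P A d] M) := by
  classical
  obtain ⟨n, K, e, hK⟩ := Module.FinitePresentation.exists_fin (P A d) M
  obtain ⟨m, c, hc⟩ := Submodule.fg_iff_exists_fin_generating_family.mp hK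
  let S : Finset A := Finset.univ.biUnion fun j => Finset.univ.biUnion fun i =>
    (c j i).support.image fun s => (c j i).coeff s
  let R₀ : Subalgebra ℤ A := Algebra.adjoin ℤ (S : Set A)
  haveI : Algebra.FiniteType ℤ R₀ := (Subalgebra.fg_iff_finiteType _).mp ⟨S, rfl⟩
  haveI : IsNoetherianRing R₀ := Algebra.FiniteType.isNoetherianRing ℤ R₀
  letI := polyAlg (A := R₀) (d := d) A
  let ψ : P R₀ d →+* P A d := algebraMap (P R₀ d) (P A d)
  have hlift : ∀ j i, ∃ x : P R₀ d, ψ x = c j i := fun j i => by
    have hmem : c j i ∈ (MvPolynomial.map (σ := Fin d) (algebraMap R₀ A)).range := by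
      show c j i ∈ Set.range (MvPolynomial.map (σ := Fin d) (algebraMap R₀ A))
      rw [MvPolynomial.mem_range_map_iff_coeffs_subset]
      intro x hx
      rw [MvPolynomial.coeffs, Finset.mem_coe, Finset.mem_image] at hx
      obtain ⟨s, hs, rfl⟩ := hx
      exact ⟨⟨_, Algebra.subset_adjoin (Finset.mem_coe.2 (Finset.mem_biUnion.2 ⟨j, Finset.mem_univ j,
        Finset.mem_biUnion.2 ⟨i, Finset.mem_univ i, Finset.mem_image.2 ⟨s, hs, rfl⟩⟩⟩))⟩, rfl⟩
    exact hmem
  choose c₀ hc₀ using hlift
  let K₀ : Submodule (P R₀ d) (Fin n → P R₀ d) := Submodule.span _ (Set.range c₀)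
  let M₀ := (Fin n → P R₀ d) ⧸ K₀
  refine ⟨R₀, inferInstance, inferInstance, inferInstance, M₀, inferInstance, inferInstance, inferInstance, ?_⟩
  let g₀ : (Fin n → P R₀ d) →ₗ[P R₀ d] (Fin n → P A d) := (Algebra.linearMap (P R₀ d) (P A d)).compLeft (Fin n)
  let g : M₀ →ₗ[P R₀ d] (Fin n → P A d) ⧸ K := K₀.liftQ ((K.mkQ.restrictScalars (P R₀ d)).comp g₀) (by
    rw [Submodule.span_le]
    rintro _ ⟨j, rfl⟩
    refine (Submodule.Quotient.mk_eq_zero K).2 ?_
    have : g₀ (c₀ j) = c j := funext fun i => hc₀ j i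
    rw [this, ← hc]
    exact Submodule.subset_span ⟨j, rfl⟩)
  let G : P A d ⊗[P R₀ d] M₀ →ₗ[P A d] (Fin n → P A d) ⧸ K :=
    AlgebraTensorModule.lift ((LinearMap.toSpanSingleton (P A d) (M₀ →ₗ[P R₀ d] (Fin n → P A d) ⧸ K) g))
  let F₀ : (Fin n → P A d) →ₗ[P A d] P A d ⊗[P R₀ d] M₀ :=
    ∑ i, (LinearMap.proj i).smulRight ((1 : P A d) ⊗ₜ[P R₀ d] (Submodule.Quotient.mk (Pi.single i 1) : M₀))
  have hF₀ : ∀ v : Fin n → P R₀ d, F₀ (g₀ v) = (1 : P A d) ⊗ₜ (Submodule.Quotient.mk v : M₀) := fun v => by
    have : v = ∑ i, v i • (Pi.single i 1 : Fin n → P R₀ d) := by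
      simpa using (pi_eq_sum_univ' v)
    conv_rhs => rw [this, ← Submodule.mkQ_apply, map_sum, TensorProduct.tmul_sum]
    simp only [F₀, LinearMap.coe_sum, Finset.sum_apply, LinearMap.smulRight_apply, LinearMap.proj_apply]
    refine Finset.sum_congr rfl fun i _ => ?_
    rw [map_smul, TensorProduct.tmul_smul, Submodule.mkQ_apply, TensorProduct.smul_tmul']
    show (ψ (v i) • (1 : P A d)) ⊗ₜ[P R₀ d] _ = v i • _
    rw [TensorProduct.smul_tmul', Algebra.smul_def (v i), smul_eq_mul]
  let F : (Fin n → P A d) ⧸ K →ₗ[P A d] P A d ⊗[P R₀ d] M₀ := K.liftQ F₀ (by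
    rw [← hc, Submodule.span_le]
    rintro _ ⟨j, rfl⟩
    show F₀ (c j) = 0
    rw [← show g₀ (c₀ j) = c j from funext fun i => hc₀ j i, hF₀,
      (Submodule.Quotient.mk_eq_zero K₀).2 (Submodule.subset_span ⟨j, rfl⟩), TensorProduct.tmul_zero])
  have hGF : G.comp F = LinearMap.id := by
    refine Submodule.linearMap_qext K (LinearMap.pi_ext' fun i => LinearMap.ext_ring ?_)
    show G (F₀ (Pi.single i 1)) = Submodule.Quotient.mk (Pi.single i 1)
    have h1 : F₀ (Pi.single i 1) = (1 : P A d) ⊗ₜ (Submodule.Quotient.mk (Pi.single i 1) : M₀) := by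
      rw [← hF₀]
      congr 1
      funext k
      show _ = ψ ((Pi.single i 1 : Fin n → P R₀ d) k)
      by_cases h : k = i
      · subst h; simp
      · simp [h]
    rw [h1]
    simp only [G, g, AlgebraTensorModule.lift_tmul, LinearMap.toSpanSingleton_apply, one_smul,
      Submodule.liftQ_apply]
    show Submodule.Quotient.mk (g₀ (Pi.single i 1)) = _
    congr 1
    funext k
    show ψ ((Pi.single i 1 : Fin n → P R₀ d) k) = _
    by_cases h : k = i
    · subst h; simp
    · simp [h]
  have hFG : F.comp G = LinearMap.id := by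
    refine LinearMap.ext fun z => ?_
    induction z using TensorProduct.induction_on with
    | zero => simp
    | tmul a x =>
      obtain ⟨v, rfl⟩ := Submodule.Quotient.mk_surjective K₀ x
      show F (G (a ⊗ₜ Submodule.Quotient.mk v)) = a ⊗ₜ Submodule.Quotient.mk v
      have hG : G (a ⊗ₜ Submodule.Quotient.mk v) = a • Submodule.Quotient.mk (g₀ v) := by
        simp [G, g]
        rfl
      rw [hG, map_smul]
      show a • F₀ (g₀ v) = _
      rw [hF₀, TensorProduct.smul_tmul', smul_eq_mul, mul_one]
    | add a b ha hb => rw [map_add, ha, hb, map_add]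
  exact ⟨({ G with
    invFun := F
    left_inv := fun x => LinearMap.congr_fun hFG x
    right_inv := fun x => LinearMap.congr_fun hGF x } : P A d ⊗[P R₀ d] M₀ ≃ₗ[P A d] (Fin n → P A d) ⧸ K).trans e.symm⟩

theorem isConstructible_good {d : ℕ} {T : MProp.{u} d} (hT : T.Good) (A : Type u) [CommRing A]
    (M : Type u) [AddCommGroup M] [Module (P A d) M] [Module.FinitePresentation (P A d) M] :
    IsConstructible (T A M) := by
  obtain ⟨A₀, _, _, _, M₀, _, _, _, he⟩ := exists_model (d := d) A M
  haveI : Module.FinitePresentation (P A₀ d) M₀ := Module.finitePresentation_of_finite _ _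
  rw [← hT.iso A _ M he, hT.bc A₀ A M₀]
  exact L02.Cons.isConstructible_comap_preimage _ (isConstructible_of_noetherian hT A₀ M₀)

/-- The set `a + δ ≤ m`, `c ≤ b + δ` of the support. -/
def ZP (d m c : ℕ) : MProp.{u} d := fun A _ M _ _ =>
  {q | q ∈ Module.support (P A d) M ∧ aP M q + dP q ≤ m ∧ c ≤ bP M q + dP q}

/-- The points with a generisation in `ZP` of fibre dimension at least `n`. -/
def LP (d m c n : ℕ) : MProp.{u} d := fun A _ M _ _ =>
  LD (fun q : PrimeSpectrum (P A d) => comap (algebraMap A (P A d)) q) dP (ZP d m c A M) n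

section Good

variable {A : Type u} [CommRing A] {d : ℕ}

theorem dep_sdim_congr {M N : Type u} [AddCommGroup M] [Module (P A d) M] [AddCommGroup N] [Module (P A d) N]
    (e : M ≃ₗ[P A d] N) (q : PrimeSpectrum (P A d)) : dep M q = dep N q ∧ sdim M q = sdim N q := by
  let e' := AlgebraTensorModule.congr (LinearEquiv.refl (D (A := A) q.asIdeal) (D (A := A) q.asIdeal)) e
  exact ⟨Groth.L04.idealDepth_congr e', Module.supportDim_eq_of_equiv e'⟩

variable (M : Type u) [AddCommGroup M] [Module (P A d) M] [Module.FinitePresentation (P A d) M]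
  (A' : Type u) [CommRing A'] [Algebra A A']

theorem bc_values (q' : PrimeSpectrum (P A' d)) :
    letI := polyAlg (A := A) (d := d) A'
    comap (algebraMap (P A d) (P A' d)) q' ∈ Module.support (P A d) M →
      aP (bcMod (A := A) (d := d) A' M) q' + dP q' =
          aP M (comap (algebraMap (P A d) (P A' d)) q') + dP (comap (algebraMap (P A d) (P A' d)) q') ∧
        bP (bcMod (A := A) (d := d) A' M) q' + dP q' =
          bP M (comap (algebraMap (P A d) (P A' d)) q') + dP (comap (algebraMap (P A d) (P A' d)) q') := by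
  letI := polyAlg (A := A) (d := d) A'
  intro hq
  obtain ⟨ha, hb, -⟩ := point_values hq
  obtain ⟨ha', hb', -⟩ := point_values ((bc_support M q').2 hq)
  obtain ⟨r1, r2, -⟩ := bc_point M q' hq _ _ _ _ _ _ (delta_eq_dP _) (delta_eq_dP _) ha ha' hb hb'
  exact ⟨r1, r2⟩

omit [AddCommGroup M] [Module (P A d) M] [Module.FinitePresentation (P A d) M] in
theorem dP_comap_le (q' : PrimeSpectrum (P A' d)) :
    letI := polyAlg (A := A) (d := d) A'
    dP q' ≤ dP (comap (algebraMap (P A d) (P A' d)) q') := by
  letI := polyAlg (A := A) (d := d) A'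
  have hsupp : comap (algebraMap (P A d) (P A' d)) q' ∈ Module.support (P A d) (P A d) := by
    rw [Module.mem_support_iff_of_finite]
    intro x hx
    have := Module.mem_annihilator.1 hx 1
    rw [smul_eq_mul, mul_one] at this
    rw [this]
    exact zero_mem _
  obtain ⟨ha, hb, -⟩ := point_values hsupp
  obtain ⟨ha', hb', -⟩ := point_values ((bc_support (P A d) q').2 hsupp)
  exact (bc_point (P A d) q' hsupp _ _ _ _ _ _ (delta_eq_dP _) (delta_eq_dP _) ha ha' hb hb').2.2

theorem mem_ZP_bc {m c : ℕ} (q' : PrimeSpectrum (P A' d)) :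
    letI := polyAlg (A := A) (d := d) A'
    q' ∈ ZP d m c A' (bcMod (A := A) (d := d) A' M) ↔ comap (algebraMap (P A d) (P A' d)) q' ∈ ZP d m c A M := by
  letI := polyAlg (A := A) (d := d) A'
  refine (and_congr_left' (bc_support M q')).trans (and_congr_right fun hq => ?_)
  obtain ⟨r1, r2⟩ := bc_values M A' q' hq
  rw [r1, r2]

end Good

theorem ZP_good (d m c : ℕ) : (ZP.{u} d m c).Good where
  iso := fun A _ M N _ _ _ _ ⟨e⟩ => by
    ext q
    obtain ⟨h1, h2⟩ := dep_sdim_congr e q
    simp only [ZP, Set.mem_ofPred_eq, aP, bP, h1, h2, e.support_eq]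
  bc := fun A A' _ _ _ M _ _ _ => Set.ext fun q' => mem_ZP_bc M A' q'
  flat := fun A _ _ M _ _ _ _ _ _ => by
    haveI : Module.FinitePresentation (P A d) M := Module.finitePresentation_of_finite _ _
    let Dt := dataP (A := A) (d := d) (M := M)
    have : ZP d m c A M = Dt.A m ∩ LD (fun q : PrimeSpectrum (P A d) => comap (algebraMap A (P A d)) q) Dt.δ Dt.S c := by
      ext q
      constructor
      · rintro ⟨hq, h1, h2⟩
        exact ⟨⟨hq, h1⟩, (Dt.le_iff q hq c).1 h2⟩
      · rintro ⟨⟨hq, h1⟩, h2⟩
        exact ⟨hq, h1, (Dt.le_iff q hq c).2 h2⟩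
    rw [this]
    exact (Groth.L06.Constr.isConstructible_of_isOpen (X := PrimeSpectrum (P A d))
      ((Dt.isClosed_A m).inter (Dt.isClosed_LD _ Dt.isClosed_S c)).isOpen_compl).of_compl

theorem LP_good (d m c n : ℕ) : (LP.{u} d m c n).Good where
  iso := fun A _ M N _ _ _ _ h => by simp only [LP, (ZP_good d m c).iso A M N h]
  bc := fun A A' _ _ _ M _ _ _ => by
    letI := polyAlg (A := A) (d := d) A'
    ext q'
    constructor
    · rintro ⟨z', hz', hzq, hp, hn⟩
      refine ⟨_, (mem_ZP_bc M A' z').1 hz', hzq.map (continuous_comap _), ?_, hn.trans (dP_comap_le A' z')⟩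
      show comap (algebraMap A (P A d)) _ = comap (algebraMap A (P A d)) _
      rw [comap_poly, comap_poly]
      exact congrArg (comap (algebraMap A A')) hp
    · rintro ⟨z, hz, hzq, hp, hn⟩
      obtain ⟨z', h1, h2, h3, h4⟩ := bc_lift q' z hzq hp
      rw [delta_eq_dP, delta_eq_dP] at h4
      have e : dP z' = dP z := by exact_mod_cast h4
      exact ⟨z', (mem_ZP_bc M A' z').2 (h3.symm ▸ hz), h1, h2, e.symm ▸ hn⟩
  flat := fun A _ _ M _ _ _ _ _ _ => by
    haveI : Module.FinitePresentation (P A d) M := Module.finitePresentation_of_finite _ _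
    let Dt := dataP (A := A) (d := d) (M := M)
    have : ZP d m c A M = Dt.A m ∩ LD (fun q : PrimeSpectrum (P A d) => comap (algebraMap A (P A d)) q) Dt.δ Dt.S c := by
      ext q
      constructor
      · rintro ⟨hq, h1, h2⟩
        exact ⟨⟨hq, h1⟩, (Dt.le_iff q hq c).1 h2⟩
      · rintro ⟨⟨hq, h1⟩, h2⟩
        exact ⟨hq, h1, (Dt.le_iff q hq c).2 h2⟩
    have hcl : IsClosed (LP d m c n A M) := by
      show IsClosed (LD (fun q : PrimeSpectrum (P A d) => comap (algebraMap A (P A d)) q) Dt.δ (ZP d m c A M) n)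
      rw [this]
      exact Dt.isClosed_LD _ ((Dt.isClosed_A m).inter (Dt.isClosed_LD _ Dt.isClosed_S c)) n
    exact (Groth.L06.Constr.isConstructible_of_isOpen (X := PrimeSpectrum (P A d)) hcl.isOpen_compl).of_compl

end L02.FibDepth
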