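import Groth.Agent.L02.FibDepth.Constructible
import Groth.Agent.L28.Fib.Closure
import Groth.Agent.L06.Spectral

/-! The points with a generisation of given fibre dimension in a constructible set. -/

set_option autoImplicit false
set_option linter.style.haveILetI false
universe u

open PrimeSpectrum Topology
open Groth.L28.Fib (fibClosure)

namespace L02.FibDepth

/-- The fibrewise closure of a constructible set consists of specialisations inside the fibres. -/
theorem mem_fibClosure_iff {R A : Type u} [CommRing R] [CommRing A] [Algebra R A] {T : Set (PrimeSpectrum A)}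
    (hT : IsConstructible T) (q : PrimeSpectrum A) :
    q ∈ fibClosure R A T ↔
      ∃ w ∈ T, w ⤳ q ∧ comap (algebraMap R A) w = comap (algebraMap R A) q := by
  constructor
  · intro hq
    let p := comap (algebraMap R A) q
    let F : Set (PrimeSpectrum A) := zeroLocus (algebraMap R A '' (p.asIdeal : Set R)) ∩
      ⋂ g : {g : R // g ∉ p.asIdeal}, (basicOpen (algebraMap R A g.1) : Set (PrimeSpectrum A))
    have hF : comap (algebraMap R A) ⁻¹' {p} = F := by
      ext w
      simp only [F, Set.mem_preimage, Set.mem_singleton_iff, Set.mem_inter_iff, mem_zeroLocus, Set.image_subset_iff,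
        Set.mem_iInter, Subtype.forall, SetLike.mem_coe, mem_basicOpen]
      constructor
      · intro h
        rw [← h]
        exact ⟨fun r hr => hr, fun g hg => hg⟩
      · rintro ⟨h1, h2⟩
        refine PrimeSpectrum.ext (le_antisymm (fun r hr => ?_) fun r hr => h1 hr)
        by_contra hn
        exact h2 r hn hr
    have hcl : IsClosed[constructibleTopology (PrimeSpectrum A)] (T ∩ comap (algebraMap R A) ⁻¹' {p}) := by
      refine @IsClosed.inter _ _ _ (constructibleTopology (PrimeSpectrum A))
        (Groth.L06.Spectral.isClopen_cons_of_isConstructible hT).1 ?_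
      rw [hF]
      exact @IsClosed.inter _ _ _ (constructibleTopology (PrimeSpectrum A))
        ((isClosed_zeroLocus _).mono Groth.L06.Spectral.cons_le)
        (@isClosed_iInter _ _ (constructibleTopology (PrimeSpectrum A)) _ fun g =>
          (Groth.L06.Spectral.isClopen_cons (basicOpen _).isOpen (isCompact_basicOpen _)).1)
    obtain ⟨w, ⟨hw, hp⟩, hwq⟩ := Groth.L06.Spectral.exists_specializes_of_mem_closure hcl hq
    exact ⟨w, hw, hwq, hp⟩
  · rintro ⟨w, hw, hwq, hp⟩
    show q ∈ closure (T ∩ comap (algebraMap R A) ⁻¹' {comap (algebraMap R A) q})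
    exact hwq.mem_closed isClosed_closure (subset_closure ⟨hw, hp⟩)

theorem LD_union {X : Type u} {Y : Type u} [TopologicalSpace X] (π : X → Y) (δ : X → ℕ) (s t : Set X) (n : ℕ) :
    LD π δ (s ∪ t) n = LD π δ s n ∪ LD π δ t n := by
  ext x
  simp only [LD, Set.mem_ofPred_eq, Set.mem_union]
  constructor
  · rintro ⟨z, hz | hz, h⟩
    exacts [Or.inl ⟨z, hz, h⟩, Or.inr ⟨z, hz, h⟩]
  · rintro (⟨z, hz, h⟩ | ⟨z, hz, h⟩)
    exacts [⟨z, Or.inl hz, h⟩, ⟨z, Or.inr hz, h⟩]

/-- The points with a generisation in a constructible set of fibre dimension at least `n`. -/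
theorem isConstructible_LD {A : Type u} [CommRing A] {d : ℕ} {Z : Set (PrimeSpectrum (P A d))}
    (hZ : IsConstructible Z) (n : ℕ) :
    IsConstructible (LD (fun q : PrimeSpectrum (P A d) => comap (algebraMap A (P A d)) q) dP Z n) := by
  induction Z, hZ using IsConstructible.induction_of_isTopologicalBasis
    (fun g : P A d => (basicOpen g : Set (PrimeSpectrum (P A d)))) isTopologicalBasis_basic_opens
    isCompact_basicOpen with
  | union s hs t ht ihs iht =>
    rw [LD_union]
    exact ihs.union iht
  | sdiff g s hs =>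
    classical
    let S : Finset (P A d) := hs.toFinset
    let I : Ideal (P A d) := Ideal.span S
    have hI : I.FG := ⟨S, rfl⟩
    haveI : Module.FinitePresentation (P A d) (P A d ⧸ I) :=
      Module.finitePresentation_of_surjective I.mkQ I.mkQ_surjective (by rwa [Submodule.ker_mkQ])
    have hsupp : Module.support (P A d) (P A d ⧸ I) = zeroLocus (I : Set (P A d)) := by
      rw [Module.support_eq_zeroLocus, Ideal.annihilator_quotient]
    have hset : (basicOpen g : Set (PrimeSpectrum (P A d))) \ ⋃ h ∈ s, (basicOpen h : Set (PrimeSpectrum (P A d))) =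
        (basicOpen g : Set (PrimeSpectrum (P A d))) ∩ zeroLocus (I : Set (P A d)) := by
      ext q
      simp only [I, S, zeroLocus_span, Set.mem_sdiff, Set.mem_iUnion₂, not_exists, SetLike.mem_coe,
        mem_basicOpen, Set.mem_inter_iff, mem_zeroLocus, Set.Finite.coe_toFinset, Set.subset_def, not_not]
    let L := LP d d 0 n A (P A d ⧸ I)
    have hL : ∀ q, q ∈ L ↔ ∃ z ∈ zeroLocus (I : Set (P A d)), z ⤳ q ∧
        comap (algebraMap A (P A d)) z = comap (algebraMap A (P A d)) q ∧ n ≤ dP z := by
      intro q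
      constructor
      · rintro ⟨z, hz, h⟩
        exact ⟨z, hsupp ▸ hz.1, h⟩
      · rintro ⟨z, hz, h⟩
        exact ⟨z, ⟨hsupp.symm ▸ hz, (point_values (hsupp.symm ▸ hz)).2.2.1, Nat.zero_le _⟩, h⟩
    have hc : IsConstructible ((basicOpen g : Set (PrimeSpectrum (P A d))) ∩ L) :=
      ((isCompact_basicOpen g).isConstructible (basicOpen g).isOpen).inter (isConstructible_LP _ _ _ _)
    suffices h : fibClosure A (P A d) ((basicOpen g : Set (PrimeSpectrum (P A d))) ∩ L) =
        LD (fun q : PrimeSpectrum (P A d) => comap (algebraMap A (P A d)) q) dP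
          ((basicOpen g : Set (PrimeSpectrum (P A d))) \ ⋃ h ∈ s, (basicOpen h : Set (PrimeSpectrum (P A d)))) n from
      h ▸ Groth.L28.Fib.isConstructible_fibClosure A (P A d) _ hc
    rw [hset]
    ext q
    rw [mem_fibClosure_iff hc]
    constructor
    · rintro ⟨w, ⟨hwg, hwL⟩, hwq, hp⟩
      obtain ⟨z, hz, hzw, hp', hn⟩ := (hL w).1 hwL
      exact ⟨z, ⟨hzw.mem_open (basicOpen g).isOpen hwg, hz⟩, hzw.trans hwq, hp'.trans hp, hn⟩
    · rintro ⟨z, ⟨hzg, hz⟩, hzq, hp, hn⟩
      exact ⟨z, ⟨hzg, (hL z).2 ⟨z, hz, specializes_rfl, rfl, hn⟩⟩, hzq, hp⟩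

end L02.FibDepth
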