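import Groth.Agent.L02.FibDepth.Affine
import Groth.Agent.L02.FibDepth.Abstract
import Groth.Agent.L22.FibreBound
import Groth.Agent.L20.FibreScheme
import Groth.Agent.L22.FibreIrr
import Mathlib.AlgebraicGeometry.Morphisms.FiniteType
import Mathlib.CategoryTheory.MorphismProperty.Limits

/-! Numerical data of the fibres from local models in affine spaces. -/

set_option autoImplicit false
set_option linter.style.haveILetI false
universe u

open CategoryTheory CategoryTheory.Limits AlgebraicGeometry IsLocalRing TensorProduct Topology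
open Groth.L15.FibrePdSemi (D)

namespace L02.FibDepth

theorem isClosed_of_local {T : Type*} [TopologicalSpace T] {s : Set T}
    (h : ∀ x, ∃ U : Set T, IsOpen U ∧ x ∈ U ∧ ∃ t : Set T, IsClosed t ∧ ∀ z ∈ U, z ∈ s ↔ z ∈ t) : IsClosed s := by
  rw [← isOpen_compl_iff, isOpen_iff_forall_mem_open]
  intro x hx
  obtain ⟨U, hU, hxU, t, ht, hst⟩ := h x
  exact ⟨U ∩ tᶜ, fun z hz hzs => hz.2 ((hst z hz.1).1 hzs), hU.inter ht.isOpen_compl, hxU,
    fun h => hx ((hst x hxU).2 h)⟩

theorem min_cast_le (k b a : ℕ) :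
    min (k : WithBot ℕ∞) (b : WithBot ℕ∞) ≤ (((a : ℕ) : ℕ∞) : WithBot ℕ∞) ↔ min k b ≤ a := by
  have e : (((a : ℕ) : ℕ∞) : WithBot ℕ∞) = (a : WithBot ℕ∞) := rfl
  rw [e, min_le_iff, min_le_iff, Nat.cast_le, Nat.cast_le]

variable {X Y : Scheme.{u}} (f : X ⟶ Y)

/-- The dimension of the closure of a point in its fibre. -/
noncomputable def dl (x : X) : ℕ :=
  ((topologicalKrullDim ↥(closure ({f.asFiber x} : Set ↥(f.fiber (f.base x))))).unbotD 0).toNat

set_option backward.isDefEq.respectTransparency.types false in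
theorem locallyOfFiniteType_fiber [LocallyOfFiniteType f] (y : Y) :
    LocallyOfFiniteType (f.fiberToSpecResidueField y) :=
  MorphismProperty.pullback_snd f (Y.fromSpecResidueField y) inferInstance

theorem dim_closure_asFiber (x : X) :
    topologicalKrullDim ↥(closure ({f.asFiber x} : Set ↥(f.fiber (f.base x)))) =
      topologicalKrullDim ↥(closure ({x} : Set X) ∩ f ⁻¹' {f x}) := by
  have he := (f.fiberι (f x)).isEmbedding
  refine (Groth.L22.SchemeDim.topologicalKrullDim_eq_of_isEmbedding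
    (f := fun v : (closure ({f.asFiber x} : Set (f.fiber (f x)))) => f.fiberι (f x) v.1)
    (he.comp IsEmbedding.subtypeVal) ?_).symm
  have := he.isInducing.closure_eq_preimage_closure_image {f.asFiber x}
  rw [Set.image_singleton, f.fiberι_asFiber] at this
  rw [Set.range_comp', Subtype.range_coe, this, Set.image_preimage_eq_inter_range, f.range_fiberι]

variable [LocallyOfFiniteType f]

theorem dim_closure_asFiber_inter (x : X) {U : X.Opens} (hx : x ∈ U) :
    topologicalKrullDim ↥(closure ({f.asFiber x} : Set ↥(f.fiber (f.base x)))) =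
      topologicalKrullDim ↥(closure ({x} : Set X) ∩ f ⁻¹' {f x} ∩ U) := by
  letI : (f.fiber (f x)).Over (Spec (CommRingCat.of (Y.residueField (f x)))) :=
    ⟨f.fiberToSpecResidueField (f x)⟩
  haveI : LocallyOfFiniteType ((f.fiber (f x)) ↘ Spec (CommRingCat.of (Y.residueField (f x)))) :=
    locallyOfFiniteType_fiber f (f x)
  refine le_antisymm ?_ ?_
  · let U' := f.fiberι (f x) ⁻¹ᵁ U
    obtain ⟨_, ⟨W, hW, rfl⟩, hxW, hWU⟩ := (f.fiber (f x)).isBasis_affineOpens.exists_subset_of_mem_open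
      (show f.asFiber x ∈ U' by show f.fiberι (f x) (f.asFiber x) ∈ U; rwa [f.fiberι_asFiber]) U'.2
    rw [Groth.L22.FibreBound.dim_closure_eq (Y.residueField (f x)) hW hxW,
      ← Groth.L22.SchemeDim.topologicalKrullDim_closure_inter hW]
    have he := (f.fiberι (f x)).isEmbedding
    rw [← Groth.L22.SchemeDim.topologicalKrullDim_eq_of_isEmbedding
      (f := fun v : (closure ({f.asFiber x} : Set (f.fiber (f x))) ∩ W : Set _) => f.fiberι (f x) v.1)
      (he.comp IsEmbedding.subtypeVal) rfl]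
    refine Groth.L22.SchemeDim.topologicalKrullDim_mono ?_
    rintro _ ⟨⟨v, hv, hvW⟩, rfl⟩
    refine ⟨⟨?_, ?_⟩, hWU hvW⟩
    · have := (specializes_iff_mem_closure.2 hv).map (f.fiberι (f x)).continuous
      rw [f.fiberι_asFiber] at this
      exact this.mem_closure
    · exact (f.range_fiberι (f x)).subset ⟨v, rfl⟩
  · rw [dim_closure_asFiber]
    exact Groth.L22.SchemeDim.topologicalKrullDim_mono Set.inter_subset_left

variable (R : X → Type u) [∀ x, CommRing (R x)] [∀ x, IsLocalRing (R x)]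
  (M : X → Type u) [∀ x, AddCommGroup (M x)] [∀ x, Module (R x) (M x)]

/-- A local model of the fibre stalks in an affine space. -/
structure Chart (x : X) where
  /-- the open -/
  U : X.Opens
  mem : x ∈ U
  /-- the base ring -/
  A : Type u
  [instA : CommRing A]
  /-- the dimension -/
  d : ℕ
  /-- the module -/
  N : Type u
  [instN : AddCommGroup N]
  [modA : Module A N]
  [modP : Module (P A d) N]
  [tower : IsScalarTower A (P A d) N]
  [fp : Module.FinitePresentation (P A d) N]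
  /-- the embedding -/
  j : U → PrimeSpectrum (P A d)
  closedEmbedding : IsClosedEmbedding j
  comap_eq_iff : ∀ z w : U, PrimeSpectrum.comap (algebraMap A (P A d)) (j z) =
    PrimeSpectrum.comap (algebraMap A (P A d)) (j w) ↔ f z.1 = f w.1
  support_subset : Module.support (P A d) N ⊆ Set.range j
  semi : ∀ z : U, Nonempty (Semi (D (A := A) (j z).asIdeal) (D (A := A) (j z).asIdeal ⊗[P A d] N) (R z.1) (M z.1))
  constructible_preimage : ∀ T : Set (PrimeSpectrum (P A d)), IsConstructible T → IsConstructible (j ⁻¹' T)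
  image_open : ∀ W : Set (PrimeSpectrum A), IsOpen W → ∀ S : Set U,
    PrimeSpectrum.comap (algebraMap A (P A d)) '' (j '' S) = W →
    IsOpen (f.base '' (Subtype.val '' S))

attribute [instance] Chart.instA Chart.instN Chart.modA Chart.modP Chart.tower Chart.fp

/-- Every point has a chart. -/
def HasCharts : Prop := ∀ x, ∃ c : Chart f R M x, Module.Flat c.A c.N

/-- Every point has a chart, without flatness. -/
def HasCharts₀ : Prop := ∀ x, Nonempty (Chart f R M x)

/-- The numerical depth. -/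
noncomputable def aN (x : X) : ℕ := (LocCoh.depth (R x) (M x)).toNat

/-- The numerical dimension. -/
noncomputable def bN (x : X) : ℕ := ((Module.supportDim (R x) (M x)).unbotD 0).toNat

variable {f R M} {x : X} (c : Chart f R M x)

namespace Chart

theorem dim_closure_eq_delta (z : c.U) :
    topologicalKrullDim ↥(closure ({f.asFiber z.1} : Set ↥(f.fiber (f.base z.1)))) = delta c.A c.d (c.j z) := by
  rw [dim_closure_asFiber_inter f z.1 z.2]
  have hj := c.closedEmbedding
  have hfib : (Subtype.val : c.U → X) '' (closure {z} ∩ {w | f w.1 = f z.1}) =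
      closure ({z.1} : Set X) ∩ f ⁻¹' {f z.1} ∩ c.U := by
    ext v
    constructor
    · rintro ⟨w, ⟨hw, hf⟩, rfl⟩
      exact ⟨⟨((specializes_iff_mem_closure.2 hw).map continuous_subtype_val).mem_closure, hf⟩, w.2⟩
    · rintro ⟨⟨hv, hf⟩, hvU⟩
      exact ⟨⟨v, hvU⟩, ⟨(IsInducing.subtypeVal.specializes_iff.1
        (show (z : c.U).1 ⤳ v from specializes_iff_mem_closure.2 hv)).mem_closure, hf⟩, rfl⟩
  have himg : c.j '' (closure {z} ∩ {w | f w.1 = f z.1}) = closure {c.j z} ∩
      PrimeSpectrum.comap (algebraMap c.A (P c.A c.d)) ⁻¹'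
        {PrimeSpectrum.comap (algebraMap c.A (P c.A c.d)) (c.j z)} := by
    rw [← Set.image_singleton (f := c.j), hj.isClosedMap.closure_image_eq_of_continuous hj.continuous]
    ext v
    constructor
    · rintro ⟨w, ⟨hw, hf⟩, rfl⟩
      exact ⟨⟨w, hw, rfl⟩, (c.comap_eq_iff w z).2 hf⟩
    · rintro ⟨⟨w, hw, rfl⟩, hf⟩
      exact ⟨w, ⟨hw, (c.comap_eq_iff w z).1 hf⟩, rfl⟩
  refine (Groth.L22.SchemeDim.topologicalKrullDim_eq_of_isEmbedding
      (f := fun v : (closure {z} ∩ {w : c.U | f w.1 = f z.1} : Set c.U) => v.1.1)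
      (IsEmbedding.subtypeVal.comp IsEmbedding.subtypeVal) ?_).trans
    (Groth.L22.SchemeDim.topologicalKrullDim_eq_of_isEmbedding
      (f := fun v : (closure {z} ∩ {w : c.U | f w.1 = f z.1} : Set c.U) => c.j v.1)
      (hj.isEmbedding.comp IsEmbedding.subtypeVal) ?_).symm
  · refine Eq.trans ?_ hfib
    ext v
    exact ⟨fun ⟨w, hw⟩ => ⟨w.1, w.2, hw⟩, fun ⟨w, hw, he⟩ => ⟨⟨w, hw⟩, he⟩⟩
  · refine Eq.trans ?_ himg
    ext v
    exact ⟨fun ⟨w, hw⟩ => ⟨w.1, w.2, hw⟩, fun ⟨w, hw, he⟩ => ⟨⟨w, hw⟩, he⟩⟩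

theorem dl_eq (z : c.U) : delta c.A c.d (c.j z) = (dl f z.1 : WithBot ℕ∞) := by
  obtain ⟨δ, hδ, -⟩ := delta_nat (A := c.A) (d := c.d) (c.j z)
  rw [dl, c.dim_closure_eq_delta z, hδ]
  rfl

theorem nontrivial_iff (z : c.U) : Nontrivial (M z.1) ↔ c.j z ∈ Module.support (P c.A c.d) c.N := by
  obtain ⟨E⟩ := c.semi z
  rw [← not_subsingleton_iff_nontrivial, ← E.e.toEquiv.subsingleton_congr, subsingleton_D, not_not]

theorem values (z : c.U) (hz : Nontrivial (M z.1)) :
    delta c.A c.d (c.j z) = (dl f z.1 : WithBot ℕ∞) ∧ dep c.N (c.j z) = (aN R M z.1 : ℕ∞) ∧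
      sdim c.N (c.j z) = (bN R M z.1 : WithBot ℕ∞) ∧
      LocCoh.depth (R z.1) (M z.1) = (aN R M z.1 : ℕ∞) ∧
      Module.supportDim (R z.1) (M z.1) = (bN R M z.1 : WithBot ℕ∞) ∧
      aN R M z.1 + dl f z.1 ≤ c.d ∧ aN R M z.1 ≤ bN R M z.1 ∧
      (∀ j : ℕ, j ≤ bN R M z.1 + dl f z.1 ↔ ∃ w : c.U, Nontrivial (M w.1) ∧ w.1 ⤳ z.1 ∧
        f w.1 = f z.1 ∧ j ≤ dl f w.1) := by
  obtain ⟨δ, a, b, hδ, ha, hb, had, hab, -, hj⟩ := point ((c.nontrivial_iff z).1 hz)
  obtain ⟨E⟩ := c.semi z
  have ha' : LocCoh.depth (R z.1) (M z.1) = (a : ℕ∞) := E.depth_eq.symm.trans ha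
  have hb' : Module.supportDim (R z.1) (M z.1) = (b : WithBot ℕ∞) := E.supportDim_eq.symm.trans hb
  have ea : aN R M z.1 = a := by rw [aN, ha']; rfl
  have eb : bN R M z.1 = b := by rw [bN, hb']; rfl
  have ed : dl f z.1 = δ := by rw [c.dl_eq z] at hδ; exact_mod_cast hδ
  subst ea eb ed
  refine ⟨hδ, ha, hb, ha', hb', had, hab, fun j => (hj j).trans ⟨?_, ?_⟩⟩
  · rintro ⟨v, hv, hvz, hp, hd⟩
    obtain ⟨w, rfl⟩ := c.support_subset hv
    rw [c.dl_eq] at hd
    exact ⟨w, (c.nontrivial_iff w).2 hv, (c.closedEmbedding.isInducing.specializes_iff.1 hvz).map continuous_subtype_val,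
      (c.comap_eq_iff w z).1 hp, by exact_mod_cast hd⟩
  · rintro ⟨w, hw, hwz, hp, hd⟩
    refine ⟨c.j w, (c.nontrivial_iff w).1 hw, (IsInducing.subtypeVal.specializes_iff.1 hwz).map
      c.closedEmbedding.continuous, (c.comap_eq_iff w z).2 hp, ?_⟩
    rw [c.dl_eq]
    exact_mod_cast hd

end Chart

section Charts0

variable (hc : HasCharts₀ f R M)

include hc in
theorem le_iff_model (x : X) (hx : Nontrivial (M x)) (j : ℕ) :
    j ≤ bN R M x + dl f x ↔ ∃ z, Nontrivial (M z) ∧ z ⤳ x ∧ f z = f x ∧ j ≤ dl f z := by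
  obtain ⟨c⟩ := hc x
  rw [(c.values ⟨x, c.mem⟩ hx).2.2.2.2.2.2.2 j]
  exact ⟨fun ⟨w, h⟩ => ⟨w.1, h⟩, fun ⟨z, h1, h2, h3, h4⟩ => ⟨⟨z, h2.mem_open c.U.2 c.mem⟩, h1, h2, h3, h4⟩⟩

/-- The numerical data of a family with charts. -/
noncomputable def preData : Pre (fun x : X => f x) where
  S := {x | Nontrivial (M x)}
  δ := dl f
  a := aN R M
  b := bN R M
  isClosed_S := isClosed_of_local fun x => by
    obtain ⟨c⟩ := hc x
    obtain ⟨t, ht, hts⟩ := isClosed_induced_iff.1
      ((Module.isClosed_support (R := P c.A c.d) (M := c.N)).preimage c.closedEmbedding.continuous)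
    refine ⟨c.U, c.U.2, c.mem, t, ht, fun z hz => ?_⟩
    exact (c.nontrivial_iff ⟨z, hz⟩).trans (Set.ext_iff.1 hts ⟨z, hz⟩).symm
  le_iff := fun x hx j => le_iff_model hc x hx j
  a_le_b := fun x hx => by
    obtain ⟨c⟩ := hc x
    exact (c.values ⟨x, c.mem⟩ hx).2.2.2.2.2.2.1
  strict := fun x z hzx hp hne => by
    obtain ⟨c⟩ := hc x
    let zU : c.U := ⟨z, hzx.mem_open c.U.2 c.mem⟩
    have h := delta_lt ((IsInducing.subtypeVal.specializes_iff.1
      (show zU.1 ⤳ (⟨x, c.mem⟩ : c.U).1 from hzx)).map c.closedEmbedding.continuous)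
      ((c.comap_eq_iff zU _).2 hp) fun h => hne (congrArg Subtype.val (c.closedEmbedding.injective h))
    rw [c.dl_eq, c.dl_eq] at h
    exact_mod_cast h
  isClosed_LD := fun Z hZ n => isClosed_of_local fun x => by
    obtain ⟨c⟩ := hc x
    obtain ⟨t, ht, hts⟩ := isClosed_induced_iff.1 ((isClosed_LD (A := c.A) (d := c.d)
      (c.closedEmbedding.isClosedMap _ (hZ.preimage continuous_subtype_val)) n).preimage c.closedEmbedding.continuous)
    refine ⟨c.U, c.U.2, c.mem, t, ht, fun z hz => ?_⟩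
    refine Iff.trans ?_ (Set.ext_iff.1 hts ⟨z, hz⟩).symm
    constructor
    · rintro ⟨w, hw, hwz, hp, hd⟩
      let wU : c.U := ⟨w, hwz.mem_open c.U.2 hz⟩
      refine ⟨c.j wU, ⟨wU, hw, rfl⟩, (IsInducing.subtypeVal.specializes_iff.1
        (show wU.1 ⤳ (⟨z, hz⟩ : c.U).1 from hwz)).map c.closedEmbedding.continuous,
        (c.comap_eq_iff wU _).2 hp, ?_⟩
      rw [c.dl_eq]
      exact_mod_cast hd
    · rintro ⟨v, ⟨w, hw, rfl⟩, hwz, hp, hd⟩
      rw [c.dl_eq] at hd
      exact ⟨w.1, hw, (c.closedEmbedding.isInducing.specializes_iff.1 hwz).map continuous_subtype_val,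
        (c.comap_eq_iff w _).1 hp, by exact_mod_cast hd⟩
  bdd := fun x => by
    obtain ⟨c⟩ := hc x
    refine ⟨c.U, c.d, c.U.2, c.mem, fun z hz => ⟨?_, fun hS => (c.values ⟨z, hz⟩ hS).2.2.2.2.2.1⟩⟩
    obtain ⟨δ, hδ, hle⟩ := delta_nat (A := c.A) (d := c.d) (c.j ⟨z, hz⟩)
    rw [c.dl_eq] at hδ
    have : dl f z = δ := by exact_mod_cast hδ
    omega

include hc in
theorem hasSk_iff_model (x : X) (k : ℕ) : LocCoh.HasSk k (R x) (M x) ↔ (preData hc).SkOK k x := by
  obtain ⟨c⟩ := hc x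
  obtain ⟨E⟩ := c.semi ⟨x, c.mem⟩
  rw [← E.hasSk_iff k, hasSk_iff]
  constructor
  · intro h z hz hzx hp
    let zU : c.U := ⟨z, hzx.mem_open c.U.2 c.mem⟩
    obtain ⟨-, h2, h3, -⟩ := c.values zU hz
    have := h (c.j zU) ((c.nontrivial_iff zU).1 hz) ((IsInducing.subtypeVal.specializes_iff.1
      (show zU.1 ⤳ (⟨x, c.mem⟩ : c.U).1 from hzx)).map c.closedEmbedding.continuous) ((c.comap_eq_iff zU _).2 hp)
    rw [h2, h3] at this
    exact (min_cast_le k _ _).1 this
  · intro h v hv hvx hp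
    obtain ⟨w, rfl⟩ := c.support_subset hv
    obtain ⟨-, h2, h3, -⟩ := c.values w ((c.nontrivial_iff w).2 hv)
    rw [h2, h3]
    refine (min_cast_le k _ _).2 (h w.1 ((c.nontrivial_iff w).2 hv)
      ((c.closedEmbedding.isInducing.specializes_iff.1 hvx).map continuous_subtype_val) ((c.comap_eq_iff w _).1 hp))

include hc in
theorem isEquidim_iff_model (x : X) :
    EGA4.IsEquidimModule (R x) (M x) ↔ (preData hc).Equi x := by
  obtain ⟨c⟩ := hc x
  obtain ⟨E⟩ := c.semi ⟨x, c.mem⟩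
  haveI : Module.Finite (D (A := c.A) (c.j ⟨x, c.mem⟩).asIdeal)
      (D (A := c.A) (c.j ⟨x, c.mem⟩).asIdeal ⊗[P c.A c.d] c.N) := inferInstance
  rw [← E.isEquidimModule_iff]
  by_cases hx : Nontrivial (M x)
  · obtain ⟨h1, -, h3, -⟩ := c.values ⟨x, c.mem⟩ hx
    rw [isEquidim_iff h1 h3]
    have key : ∀ w : c.U, Nontrivial (M w.1) →
        ((∀ z' ∈ Module.support (P c.A c.d) c.N, z' ⤳ c.j w →
          PrimeSpectrum.comap (algebraMap c.A (P c.A c.d)) z' = PrimeSpectrum.comap (algebraMap c.A (P c.A c.d)) (c.j w) →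
          z' = c.j w) ↔ bN R M w.1 = 0) := by
      intro w hw
      constructor
      · intro hmin
        obtain ⟨v, hv, hvw, hp, hb, hd⟩ := (preData hc).exists_min_gen (z := w.1) hw
        let vU : c.U := ⟨v, hvw.mem_open c.U.2 w.2⟩
        have h := congrArg Subtype.val (c.closedEmbedding.injective (hmin (c.j vU) ((c.nontrivial_iff vU).1 hv)
          ((IsInducing.subtypeVal.specializes_iff.1 (show vU.1 ⤳ w.1 from hvw)).map c.closedEmbedding.continuous)
          ((c.comap_eq_iff vU w).2 hp)))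
        subst h
        exact hb
      · intro hb z hz hzw hp
        obtain ⟨v, rfl⟩ := c.support_subset hz
        by_contra hne
        have hs : v.1 ⤳ w.1 := (c.closedEmbedding.isInducing.specializes_iff.1 hzw).map continuous_subtype_val
        have hp' := (c.comap_eq_iff v w).1 hp
        have h4 := (preData hc).strict w.1 v.1 hs hp' fun h => hne (congrArg c.j (Subtype.ext h))
        have h5 := (preData hc).δ_le_b_add ((c.nontrivial_iff v).2 hz) hs hp'
        have h6 : (preData hc).b w.1 = 0 := hb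
        omega
    constructor
    · intro h z hz hzx hp hb
      let zU : c.U := ⟨z, hzx.mem_open c.U.2 c.mem⟩
      have := h (c.j zU) ((c.nontrivial_iff zU).1 hz) ((IsInducing.subtypeVal.specializes_iff.1
        (show zU.1 ⤳ (⟨x, c.mem⟩ : c.U).1 from hzx)).map c.closedEmbedding.continuous)
        ((c.comap_eq_iff zU _).2 hp) ((key zU hz).2 hb)
      rw [c.dl_eq] at this
      exact_mod_cast this
    · intro h v hv hvx hp hmin
      obtain ⟨w, rfl⟩ := c.support_subset hv
      have hw := (c.nontrivial_iff w).2 hv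
      rw [c.dl_eq]
      exact_mod_cast h w.1 hw ((c.closedEmbedding.isInducing.specializes_iff.1 hvx).map continuous_subtype_val)
        ((c.comap_eq_iff w _).1 hp) ((key w hw).1 hmin)
  · refine iff_of_true (fun p hp => ?_) fun z hz hzx _ _ => absurd ((preData hc).mem_S_of_gen hz hzx) hx
    haveI : Subsingleton (D (A := c.A) (c.j ⟨x, c.mem⟩).asIdeal ⊗[P c.A c.d] c.N) := by
      rw [subsingleton_D]
      exact fun h => hx ((c.nontrivial_iff ⟨x, c.mem⟩).2 h)
    rw [Module.annihilator_eq_top_iff.2 inferInstance, Ideal.minimalPrimes_top] at hp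
    exact absurd hp (Set.notMem_empty p)

open Classical in
include hc in
theorem depth_eq_model (x : X) :
    LocCoh.depth (R x) (M x) = if Nontrivial (M x) then ((aN R M x : ℕ) : ℕ∞) else ⊤ := by
  split_ifs with hx
  · obtain ⟨c⟩ := hc x
    exact (c.values ⟨x, c.mem⟩ hx).2.2.2.1
  · haveI := not_nontrivial_iff_subsingleton.1 hx
    rw [LocCoh.depth, LocCoh.idealDepth, if_pos (Subsingleton.elim _ _)]

include hc in
theorem supportDim_eq_model (x : X) (hx : Nontrivial (M x)) :
    Module.supportDim (R x) (M x) = ((bN R M x : ℕ) : WithBot ℕ∞) := by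
  obtain ⟨c⟩ := hc x
  exact (c.values ⟨x, c.mem⟩ hx).2.2.2.2.1

end Charts0

theorem HasCharts.charts (h : HasCharts f R M) : HasCharts₀ f R M := fun x => ⟨(h x).choose⟩

variable (hc : HasCharts f R M)

/-- The numerical data of a flat family with charts. -/
noncomputable def data : Data (fun x : X => f x) where
  toPre := preData hc.charts
  isOpen_le := fun m => by
    rw [isOpen_iff_forall_mem_open]
    intro x hx
    obtain ⟨c, hcf⟩ := hc x
    haveI := hcf
    let O : Set c.U := {z | Nontrivial (M z.1) → m ≤ aN R M z.1 + dl f z.1}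
    have hO : IsOpen O := by
      refine (congrArg IsOpen ?_).mpr ((isOpen_le_dep (A := c.A) (d := c.d) (M := c.N) m).preimage
        c.closedEmbedding.continuous)
      ext z
      constructor
      · intro h hz δ a hδ ha
        obtain ⟨h1, h2, -⟩ := c.values z ((c.nontrivial_iff z).2 hz)
        have := h ((c.nontrivial_iff z).2 hz)
        rw [h1] at hδ
        rw [h2] at ha
        have e1 : dl f z.1 = δ := by exact_mod_cast hδ
        have e2 : aN R M z.1 = a := by exact_mod_cast ha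
        omega
      · intro h hz
        obtain ⟨h1, h2, -⟩ := c.values z hz
        exact h ((c.nontrivial_iff z).1 hz) _ _ h1 h2
    refine ⟨Subtype.val '' O, ?_, c.U.2.isOpenEmbedding_subtypeVal.isOpenMap _ hO, ⟨x, c.mem⟩, hx, rfl⟩
    rintro _ ⟨z, hz, rfl⟩
    exact hz

include hc in
theorem isOpen_image_S (N : Set X) (hN : IsOpen N) : IsOpen (f.base '' (N ∩ {x | Nontrivial (M x)})) := by
  rw [isOpen_iff_forall_mem_open]
  rintro _ ⟨x, ⟨hxN, hx⟩, rfl⟩
  obtain ⟨c, hcf⟩ := hc x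
  haveI := hcf
  obtain ⟨O, hO, hO'⟩ := c.closedEmbedding.isInducing.isOpen_iff.1 (hN.preimage continuous_subtype_val)
  let S : Set c.U := {z | z.1 ∈ N ∧ Nontrivial (M z.1)}
  have hS : c.j '' S = O ∩ Module.support (P c.A c.d) c.N := by
    ext v
    constructor
    · rintro ⟨z, ⟨hzN, hz⟩, rfl⟩
      exact ⟨(Set.ext_iff.1 hO' z).2 hzN, (c.nontrivial_iff z).1 hz⟩
    · rintro ⟨hvO, hv⟩
      obtain ⟨z, rfl⟩ := c.support_subset hv
      exact ⟨z, ⟨(Set.ext_iff.1 hO' z).1 hvO, (c.nontrivial_iff z).2 hv⟩, rfl⟩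
  refine ⟨f.base '' (Subtype.val '' S), Set.image_mono ?_,
    c.image_open _ (isOpen_image_support (A := c.A) (d := c.d) (M := c.N) hO) S (by rw [hS]),
    x, ⟨⟨x, c.mem⟩, ⟨hxN, hx⟩, rfl⟩, rfl⟩
  rintro _ ⟨z, hz, rfl⟩
  exact hz

end L02.FibDepth
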