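import Groth.Prelude.Def_CAlg
import Groth.Prelude.Def_EGA4b
import Mathlib.RingTheory.Regular.RegularSequence
import Mathlib.RingTheory.KrullDimension.Module
import Mathlib.RingTheory.Ideal.MinimalPrime.Localization
import Mathlib.RingTheory.Support
import Mathlib.Algebra.Module.LocalizedModule.Basic
import Mathlib.RingTheory.LocalRing.RingHom.Basic

/-! Transport of depth, support dimension and `(Sₖ)` along surjective semilinear isomorphisms. -/

set_option autoImplicit false
set_option linter.style.haveILetI false
universe u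

open IsLocalRing RingTheory.Sequence

namespace L02.FibDepth

/-- A semilinear bijection over a surjective ring map. -/
structure Semi (R : Type u) [CommRing R] (M : Type u) [AddCommGroup M] [Module R M]
    (S : Type u) [CommRing S] (N : Type u) [AddCommGroup N] [Module S N] where
  /-- the ring map -/
  φ : R →+* S
  surj : Function.Surjective φ
  /-- the additive bijection -/
  e : M ≃+ N
  map_smul : ∀ (r : R) (m : M), e (r • m) = φ r • e m

namespace Semi

variable {R M S N : Type u} [CommRing R] [AddCommGroup M] [Module R M] [CommRing S] [AddCommGroup N] [Module S N]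

theorem isWeaklyRegular_iff (E : Semi R M S N) (rs : List R) :
    IsWeaklyRegular M rs ↔ IsWeaklyRegular N (rs.map E.φ) :=
  E.e.isWeaklyRegular_congr <| List.forall₂_map_right_iff.mpr <|
    List.forall₂_same.mpr fun r _ x => E.map_smul r x

theorem smul_top_iff (E : Semi R M S N) (I : Ideal R) :
    I • (⊤ : Submodule R M) = ⊤ ↔ I.map E.φ • (⊤ : Submodule S N) = ⊤ := by
  letI : RingHomSurjective E.φ := ⟨E.surj⟩
  let f : M →ₛₗ[E.φ] N :=
    { toFun := E.e
      map_add' := map_add E.e
      map_smul' := E.map_smul }
  have himg : Submodule.map f (I • (⊤ : Submodule R M)) = I.map E.φ • (⊤ : Submodule S N) := by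
    refine le_antisymm ?_ ?_
    · rw [Submodule.map_le_iff_le_comap, Submodule.smul_le]
      intro r hr m _
      show E.e (r • m) ∈ I.map E.φ • (⊤ : Submodule S N)
      rw [E.map_smul]
      exact Submodule.smul_mem_smul (N := (⊤ : Submodule S N)) (Ideal.mem_map_of_mem _ hr) trivial
    · rw [Submodule.smul_le]
      intro s hs n _
      obtain ⟨r, hr, rfl⟩ := (Ideal.mem_map_iff_of_surjective _ E.surj).1 hs
      obtain ⟨m, rfl⟩ := E.e.surjective n
      exact ⟨r • m, Submodule.smul_mem_smul hr trivial, E.map_smul r m⟩
  rw [← himg]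
  constructor
  · intro h
    rw [h, eq_top_iff]
    intro n _
    obtain ⟨m, rfl⟩ := E.e.surjective n
    exact ⟨m, trivial, rfl⟩
  · intro h
    rw [eq_top_iff]
    intro m _
    obtain ⟨m', hm', he⟩ := (h.ge : _ ≤ Submodule.map f _) (Submodule.mem_top (x := E.e m))
    rwa [← E.e.injective he]

theorem depth_eq (E : Semi R M S N) [IsLocalRing R] [IsLocalRing S] : LocCoh.depth R M = LocCoh.depth S N := by
  have hmax : (maximalIdeal R).map E.φ = maximalIdeal S :=
    IsLocalRing.map_maximalIdeal_of_surjective E.φ E.surj
  haveI : IsLocalHom E.φ := IsLocalHom.of_surjective E.φ E.surj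
  unfold LocCoh.depth LocCoh.idealDepth
  rw [← hmax]
  by_cases h : maximalIdeal R • (⊤ : Submodule R M) = ⊤
  · rw [if_pos h, if_pos ((E.smul_top_iff _).1 h)]
  rw [if_neg h, if_neg fun h' => h ((E.smul_top_iff _).2 h')]
  refine le_antisymm (iSup₂_le fun rs hrs => ?_) (iSup₂_le fun ss hss => ?_)
  · refine le_trans (le_of_eq ?_) (le_iSup₂ (f := fun (l : List S) _ => (l.length : ℕ∞)) (rs.map E.φ)
      ⟨(E.isWeaklyRegular_iff rs).1 hrs.1, fun s hs => ?_⟩)
    · simp
    · obtain ⟨r, hr, rfl⟩ := List.mem_map.1 hs
      exact Ideal.mem_map_of_mem _ (hrs.2 r hr)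
  · obtain ⟨rs, rfl⟩ := List.map_surjective_iff.2 E.surj ss
    refine le_trans (le_of_eq ?_) (le_iSup₂ (f := fun (l : List R) _ => (l.length : ℕ∞)) rs
      ⟨(E.isWeaklyRegular_iff rs).2 hss.1, fun r hr => ?_⟩)
    · simp
    · have h1 := hss.2 _ (List.mem_map_of_mem hr)
      rw [hmax] at h1
      exact (mem_maximalIdeal r).2 fun hu => (mem_maximalIdeal _).1 h1 (hu.map E.φ)

theorem annihilator_eq (E : Semi R M S N) :
    Module.annihilator R M = (Module.annihilator S N).comap E.φ := by
  ext r
  rw [Ideal.mem_comap, Module.mem_annihilator, Module.mem_annihilator]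
  refine ⟨fun h n => ?_, fun h m => E.e.injective ?_⟩
  · obtain ⟨m, rfl⟩ := E.e.surjective n
    rw [← E.map_smul, h, map_zero]
  · rw [E.map_smul, h, map_zero]

theorem finite (E : Semi R M S N) [Module.Finite R M] : Module.Finite S N := by
  letI : RingHomSurjective E.φ := ⟨E.surj⟩
  let f : M →ₛₗ[E.φ] N :=
    { toFun := E.e
      map_add' := map_add E.e
      map_smul' := E.map_smul }
  exact Module.Finite.of_surjective f E.e.surjective

theorem ringKrullDim_quotient_comap {A B : Type u} [CommRing A] [CommRing B] (φ : A →+* B)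
    (hφ : Function.Surjective φ) (J : Ideal B) : ringKrullDim (A ⧸ J.comap φ) = ringKrullDim (B ⧸ J) :=
  ringKrullDim_eq_of_ringEquiv (RingEquiv.ofBijective (Ideal.quotientMap J φ le_rfl)
    ⟨Ideal.quotientMap_injective, Ideal.quotientMap_surjective hφ⟩)

theorem supportDim_eq (E : Semi R M S N) [Module.Finite R M] :
    Module.supportDim R M = Module.supportDim S N := by
  haveI := E.finite
  rw [Module.supportDim_eq_ringKrullDim_quotient_annihilator, Module.supportDim_eq_ringKrullDim_quotient_annihilator,
    E.annihilator_eq, ringKrullDim_quotient_comap E.φ E.surj]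

theorem isCohenMacaulayModule_iff (E : Semi R M S N) [IsLocalRing R] [IsLocalRing S] [Module.Finite R M] :
    LocCoh.IsCohenMacaulayModule R M ↔ LocCoh.IsCohenMacaulayModule S N := by
  unfold LocCoh.IsCohenMacaulayModule
  rw [E.depth_eq, E.supportDim_eq]

theorem isEquidimModule_iff (E : Semi R M S N) [Module.Finite R M] :
    EGA4.IsEquidimModule R M ↔ EGA4.IsEquidimModule S N := by
  unfold EGA4.IsEquidimModule
  rw [E.annihilator_eq, Ideal.comap_minimalPrimes_eq_of_surjective E.surj, E.supportDim_eq]
  constructor
  · intro h p hp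
    rw [← ringKrullDim_quotient_comap E.φ E.surj p]
    exact h _ ⟨p, hp, rfl⟩
  · rintro h _ ⟨p, hp, rfl⟩
    rw [ringKrullDim_quotient_comap E.φ E.surj p]
    exact h p hp

/-- Localising a semilinear bijection. -/
noncomputable def localize (E : Semi R M S N) (q : Ideal S) [q.IsPrime] :
    Semi (Localization.AtPrime (q.comap E.φ)) (LocalizedModule (q.comap E.φ).primeCompl M)
      (Localization.AtPrime q) (LocalizedModule q.primeCompl N) :=
  let p := q.comap E.φ
  let φq : Localization.AtPrime p →+* Localization.AtPrime q := Localization.localRingHom p q E.φ rfl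
  letI : Module R N := Module.compHom N E.φ
  letI : Module R (LocalizedModule q.primeCompl N) := Module.compHom _ E.φ
  let f : M →ₗ[R] LocalizedModule q.primeCompl N :=
    { toFun := fun m => LocalizedModule.mkLinearMap q.primeCompl N (E.e m)
      map_add' := fun a b => by rw [map_add, map_add]
      map_smul' := fun r m => by
        rw [E.map_smul, _root_.map_smul]
        rfl }
  haveI : IsLocalizedModule p.primeCompl f :=
    { map_units := fun s => by
        rw [Module.End.isUnit_iff]
        have hu := (Module.End.isUnit_iff _).1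
          (IsLocalizedModule.map_units (LocalizedModule.mkLinearMap q.primeCompl N) (⟨E.φ (s : R), s.2⟩ : q.primeCompl))
        exact hu
      surj := fun y => by
        obtain ⟨⟨n, t⟩, hn⟩ := IsLocalizedModule.surj q.primeCompl (LocalizedModule.mkLinearMap q.primeCompl N) y
        obtain ⟨r, hr⟩ := E.surj (t : S)
        obtain ⟨m, rfl⟩ := E.e.surjective n
        refine ⟨⟨m, ⟨r, show E.φ r ∉ q from hr ▸ t.2⟩⟩, ?_⟩
        show E.φ r • y = _
        exact (congrArg (· • y) hr).trans hn
      exists_of_eq := fun {x y} h => by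
        obtain ⟨t, ht⟩ := IsLocalizedModule.exists_of_eq (S := q.primeCompl) (f := LocalizedModule.mkLinearMap q.primeCompl N) h
        obtain ⟨r, hr⟩ := E.surj (t : S)
        refine ⟨⟨r, show E.φ r ∉ q from hr ▸ t.2⟩, E.e.injective ?_⟩
        show E.e (r • x) = E.e (r • y)
        rw [E.map_smul, E.map_smul, hr]
        exact ht }
  let g := IsLocalizedModule.iso p.primeCompl f
  { φ := φq
    surj := fun y => by
      obtain ⟨s, t, rfl⟩ := IsLocalization.exists_mk'_eq q.primeCompl y
      obtain ⟨r, rfl⟩ := E.surj s
      obtain ⟨r', hr'⟩ := E.surj (t : S)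
      refine ⟨IsLocalization.mk' _ r (⟨r', show E.φ r' ∉ q from hr' ▸ t.2⟩ : p.primeCompl), ?_⟩
      rw [Localization.localRingHom_mk']
      congr
    e := g.toAddEquiv
    map_smul := fun x m => by
      obtain ⟨r, s, rfl⟩ := IsLocalization.exists_mk'_eq p.primeCompl x
      rw [Localization.localRingHom_mk']
      have hu := (Module.End.isUnit_iff _).1
        (IsLocalizedModule.map_units (LocalizedModule.mkLinearMap q.primeCompl N) (⟨E.φ (s : R), s.2⟩ : q.primeCompl))
      refine hu.1 ?_
      have h1 : E.φ (s : R) • g (IsLocalization.mk' (Localization.AtPrime p) r s • m) = E.φ r • g m := by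
        refine ((g.map_smul (s : R) _).symm.trans ?_).trans (g.map_smul r m)
        rw [← smul_assoc, Algebra.smul_def, IsLocalization.mk'_spec', algebraMap_smul]
      exact h1.trans (by
        show E.φ r • g m = E.φ (s : R) • (IsLocalization.mk' (Localization.AtPrime q) (E.φ r)
          (⟨E.φ (s : R), s.2⟩ : q.primeCompl) • g m)
        rw [← smul_assoc, Algebra.smul_def, IsLocalization.mk'_spec'_mk, algebraMap_smul]) }

theorem hasSk_iff (E : Semi R M S N) [Module.Finite R M] (k : ℕ) :
    LocCoh.HasSk k R M ↔ LocCoh.HasSk k S N := by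
  constructor
  · intro h q _
    rw [← (E.localize q).depth_eq, ← (E.localize q).supportDim_eq]
    exact h _
  · intro h p _
    by_cases hp : RingHom.ker E.φ ≤ p
    · haveI := Ideal.map_isPrime_of_surjective E.surj hp
      have key : ∀ (p' : Ideal R) [p'.IsPrime], p' = (p.map E.φ).comap E.φ →
          min (k : WithBot ℕ∞) (Module.supportDim (Localization.AtPrime p') (LocalizedModule p'.primeCompl M)) ≤
            ((LocCoh.depth (Localization.AtPrime p') (LocalizedModule p'.primeCompl M) : ℕ∞) : WithBot ℕ∞) := by
        rintro _ _ rfl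
        rw [(E.localize (p.map E.φ)).depth_eq, (E.localize (p.map E.φ)).supportDim_eq]
        exact h _
      exact key p (by rw [Ideal.comap_map_of_surjective E.φ E.surj, eq_comm, sup_eq_left]; exact hp)
    · obtain ⟨s, hs, hsp⟩ := Set.not_subset.1 hp
      haveI : Subsingleton (LocalizedModule p.primeCompl M) := LocalizedModule.subsingleton_iff.2 fun m =>
        ⟨s, hsp, E.e.injective (by
          rw [E.map_smul, map_zero, (RingHom.mem_ker).1 hs, zero_smul])⟩
      rw [Module.supportDim_eq_bot_of_subsingleton]
      exact (min_le_right _ _).trans bot_le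

end Semi

end L02.FibDepth
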